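import Mathlib

/-!
Arithmetic on the 64 codes of `(ℤ/4)³` (two bits per coordinate) and the elements they name in a group
with three commuting elements of exponent four.
-/

set_option autoImplicit false

namespace CfsgLib.HSRec

/-- Addition of codes, digit by digit modulo four. -/
def padd (u v : ℕ) : ℕ := Nat.xor (Nat.xor u v) (Nat.mul 2 (Nat.land (Nat.land u v) 21))

/-- The negative of a code. -/
def pneg (v : ℕ) : ℕ := Nat.xor v (Nat.mul 2 (Nat.land v 21))

/-- The first digit. -/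
def d0 (u : ℕ) : ℕ := Nat.land u 3
/-- The second digit. -/
def d1 (u : ℕ) : ℕ := Nat.land (Nat.shiftRight u 2) 3
/-- The third digit. -/
def d2 (u : ℕ) : ℕ := Nat.shiftRight u 4

/-- A multiple of a code. -/
def psmul (i c : ℕ) : ℕ := Nat.rec 0 (fun _ r => padd r c) i

/-- Column of a packed matrix. -/
def col (M i : ℕ) : ℕ := Nat.land (Nat.shiftRight M (Nat.mul 6 i)) 63

/-- A packed matrix applied to a code. -/
def actc (M u : ℕ) : ℕ :=
  padd (padd (psmul (d0 u) (col M 0)) (psmul (d1 u) (col M 1))) (psmul (d2 u) (col M 2))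

theorem padd_table : ∀ u < 64, ∀ v < 64, padd u v < 64 ∧ d0 (padd u v) = (d0 u + d0 v) % 4 ∧
    d1 (padd u v) = (d1 u + d1 v) % 4 ∧ d2 (padd u v) = (d2 u + d2 v) % 4 := by
  decide +kernel

theorem digit_lt : ∀ u < 64, d0 u < 4 ∧ d1 u < 4 ∧ d2 u < 4 := by decide +kernel

theorem psmul_lt {c : ℕ} (hc : c < 64) : ∀ i, psmul i c < 64
  | 0 => Nat.zero_lt_succ _
  | i + 1 => (padd_table _ (psmul_lt hc i) c hc).1

theorem col_lt (M i : ℕ) : col M i < 64 :=
  Nat.lt_succ_of_le Nat.and_le_right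

theorem actc_lt (M u : ℕ) : actc M u < 64 :=
  (padd_table _ (padd_table _ (psmul_lt (col_lt _ _) _) _ (psmul_lt (col_lt _ _) _)).1 _
    (psmul_lt (col_lt _ _) _)).1

theorem pneg_spec : ∀ v < 64, pneg v < 64 ∧ padd v (pneg v) = 0 ∧ padd (pneg v) v = 0 := by
  decide +kernel

variable {G : Type*} [Group G]

/-- Three commuting elements of exponent four. -/
structure Frame (e : ℕ → G) : Prop where
  comm : ∀ i j, i < 3 → j < 3 → Commute (e i) (e j)
  four : ∀ i, i < 3 → e i ^ 4 = 1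

/-- The element named by a code. -/
def iota (e : ℕ → G) (u : ℕ) : G := e 0 ^ d0 u * e 1 ^ d1 u * e 2 ^ d2 u

theorem iota_zero (e : ℕ → G) : iota e 0 = 1 := by simp [iota, show d0 0 = 0 from rfl,
  show d1 0 = 0 from rfl, show d2 0 = 0 from rfl]

theorem iota_one (e : ℕ → G) : iota e 1 = e 0 := by simp [iota, show d0 1 = 1 from rfl,
  show d1 1 = 0 from rfl, show d2 1 = 0 from rfl]

theorem iota_four (e : ℕ → G) : iota e 4 = e 1 := by simp [iota, show d0 4 = 0 from rfl,
  show d1 4 = 1 from rfl, show d2 4 = 0 from rfl]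

theorem iota_sixteen (e : ℕ → G) : iota e 16 = e 2 := by simp [iota, show d0 16 = 0 from rfl,
  show d1 16 = 0 from rfl, show d2 16 = 1 from rfl]

namespace Frame

variable {e : ℕ → G} (F : Frame e)
include F

theorem pow_mod {i : ℕ} (hi : i < 3) (n : ℕ) : e i ^ (n % 4) = e i ^ n :=
  (pow_eq_pow_mod n (F.four i hi)).symm

theorem iota_padd {u v : ℕ} (hu : u < 64) (hv : v < 64) :
    iota e (padd u v) = iota e u * iota e v := by
  obtain ⟨-, h0, h1, h2⟩ := padd_table u hu v hv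
  have c01 := (F.comm 1 0 (by norm_num) (by norm_num)).pow_pow (d1 u) (d0 v)
  have c02 := ((F.comm 2 0 (by norm_num) (by norm_num)).pow_pow (d2 u) (d0 v)).mul_right
    ((F.comm 2 1 (by norm_num) (by norm_num)).pow_pow (d2 u) (d1 v))
  simp only [iota, h0, h1, h2, F.pow_mod (by norm_num : 0 < 3), F.pow_mod (by norm_num : 1 < 3),
    F.pow_mod (by norm_num : 2 < 3), pow_add]
  calc e 0 ^ d0 u * e 0 ^ d0 v * (e 1 ^ d1 u * e 1 ^ d1 v) * (e 2 ^ d2 u * e 2 ^ d2 v)
      = e 0 ^ d0 u * e 1 ^ d1 u * (e 0 ^ d0 v * e 1 ^ d1 v) * (e 2 ^ d2 u * e 2 ^ d2 v) := by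
        rw [c01.symm.mul_mul_mul_comm]
    _ = e 0 ^ d0 u * e 1 ^ d1 u * e 2 ^ d2 u * (e 0 ^ d0 v * e 1 ^ d1 v * e 2 ^ d2 v) := by
        rw [c02.symm.mul_mul_mul_comm]

theorem iota_psmul {c : ℕ} (hc : c < 64) : ∀ i, iota e (psmul i c) = iota e c ^ i
  | 0 => by rw [pow_zero]; exact iota_zero e
  | i + 1 => by
    show iota e (padd (psmul i c) c) = _
    rw [F.iota_padd (psmul_lt hc i) hc, iota_psmul hc i, pow_succ]

theorem iota_pneg {v : ℕ} (hv : v < 64) : iota e (pneg v) = (iota e v)⁻¹ := by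
  obtain ⟨h, h1, -⟩ := pneg_spec v hv
  exact eq_inv_of_mul_eq_one_right (by rw [← F.iota_padd hv h, h1, iota_zero])

theorem iota_comm {u v : ℕ} (hu : u < 64) (hv : v < 64) : Commute (iota e u) (iota e v) := by
  have h : ∀ u < 64, ∀ v < 64, padd u v = padd v u := by decide +kernel
  show iota e u * iota e v = iota e v * iota e u
  rw [← F.iota_padd hu hv, ← F.iota_padd hv hu, h u hu v hv]

/-- An element acting on the three generators by a matrix acts on every code by it. -/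
theorem conj_iota {g : G} {M : ℕ} (h : ∀ i, i < 3 → g * e i * g⁻¹ = iota e (col M i)) (u : ℕ) :
    g * iota e u * g⁻¹ = iota e (actc M u) := by
  rw [actc, F.iota_padd (padd_table _ (psmul_lt (col_lt _ _) _) _ (psmul_lt (col_lt _ _) _)).1
    (psmul_lt (col_lt _ _) _), F.iota_padd (psmul_lt (col_lt _ _) _) (psmul_lt (col_lt _ _) _),
    F.iota_psmul (col_lt _ _), F.iota_psmul (col_lt _ _), F.iota_psmul (col_lt _ _),
    ← h 0 (by norm_num), ← h 1 (by norm_num), ← h 2 (by norm_num), conj_pow, conj_pow, conj_pow, iota]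
  group

end Frame

end CfsgLib.HSRec
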