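import Mathlib

/-! `GL(3,2)` has order 168 and no element of order 21. -/

set_option autoImplicit false
set_option maxRecDepth 100000

namespace CfsgLib.HSRec

theorem matrix_pow21 : ∀ g : Matrix (Fin 3) (Fin 3) (ZMod 2), g ^ 21 = 1 → g ^ 7 = 1 ∨ g ^ 3 = 1 := by
  decide +kernel

theorem gl_pow21 {g : GL (Fin 3) (ZMod 2)} (h : g ^ 21 = 1) : g ^ 7 = 1 ∨ g ^ 3 = 1 := by
  refine (matrix_pow21 (g : Matrix (Fin 3) (Fin 3) (ZMod 2)) ?_).imp
    (fun h => Units.ext ?_) (fun h => Units.ext ?_)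
  · simpa using congrArg Units.val h
  · simpa using h
  · simpa using h

theorem card_gl : Nat.card (GL (Fin 3) (ZMod 2)) = 168 := by
  rw [Matrix.card_GL_field]
  simp [Fin.prod_univ_three, ZMod.card]

end CfsgLib.HSRec
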