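import Cfsg.Agent.HSRec.LocalR
import Cfsg.Agent.HSRec.GLOrder

/-!
The 2-local `M = N(V)`: its core `A ≅ (ℤ/4)³` is the centralizer of `V` in `M` and `V` is the set of squares
of elements of `A`; `R` meets `A` in the elements squaring into `⟨t⟩`.
-/

set_option autoImplicit false

namespace CfsgLib.HSRec

open Subgroup

variable {G : Type*} [Group G]

/-- The facts about `V`, `M` and `A = O₂(M)`. -/
structure VFacts (t : G) (R V M A : Subgroup G) : Prop where
  cardV : Nat.card V = 8
  v_comm : ∀ x ∈ V, ∀ y ∈ V, x * y = y * x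
  t_mem : t ∈ V
  hM : M = normalizer (V : Set G)
  cardA : Nat.card A = 64
  leA : A ≤ M
  normA : ∀ m ∈ M, ∀ x ∈ A, m * x * m⁻¹ ∈ A
  a_comm : ∀ x ∈ A, ∀ y ∈ A, x * y = y * x
  a_four : ∀ x ∈ A, x ^ 4 = 1
  v_mem : ∀ x, x ∈ V ↔ x ∈ A ∧ x * x = 1
  centr : ∀ m ∈ M, (∀ v ∈ V, m * v = v * m) → m ∈ A
  cardM : Nat.card M = 10752
  r_le : R ≤ M
  v_le : V ≤ R

theorem sylow_fix {Y : Type*} [Group Y] [Finite Y] (N : Subgroup Y) [N.Normal] (y : Y) (hy : y ^ 7 = 1)
    (hN : Nat.card N ∣ 24) (h3 : 3 ∣ Nat.card N) :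
    ∃ p : Y, p ∈ N ∧ orderOf p = 3 ∧ y * p = p * y := by
  haveI := Fact.mk Nat.prime_three
  obtain ⟨P⟩ : Nonempty (Sylow 3 N) := inferInstance
  have hPc : Nat.card P = 3 := by
    rw [P.card_eq_multiplicity]
    have h9 : ¬ 3 ^ 2 ∣ Nat.card N := fun h => absurd (h.trans hN) (by norm_num)
    have hne : Nat.card N ≠ 0 := Nat.card_pos.ne'
    have h1 : (Nat.card N).factorization 3 = 1 := by
      have a := (Nat.prime_three.dvd_iff_one_le_factorization hne).1 h3
      have b : (Nat.card N).factorization 3 < 2 := by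
        by_contra hb
        exact h9 ((Nat.prime_three.pow_dvd_iff_le_factorization hne).2 (not_lt.1 hb))
      omega
    rw [h1, pow_one]
  have hn : Nat.card (Sylow 3 N) ∣ 8 := by
    have h := P.card_dvd_index
    have hi := Subgroup.index_mul_card (P : Subgroup N)
    rw [hPc] at hi
    have : (P : Subgroup N).index * 3 ∣ 8 * 3 := hi.symm ▸ hN
    exact h.trans (Nat.dvd_of_mul_dvd_mul_right (by norm_num) this)
  have hn4 : Nat.card (Sylow 3 N) < 7 := by
    have hmod := card_sylow_modEq_one 3 N
    have := Nat.le_of_dvd (by norm_num) hn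
    unfold Nat.ModEq at hmod
    have h8 : Nat.card (Sylow 3 N) ≠ 8 := fun h => by rw [h] at hmod; norm_num at hmod
    have h7 : Nat.card (Sylow 3 N) ≠ 7 := fun h => by rw [h] at hn; norm_num at hn
    omega
  -- conjugation by `y` on the Sylow subgroups
  let σ : Equiv.Perm (Sylow 3 N) := MulAction.toPerm (MulAut.conjNormal y : MulAut N)
  have hσ : σ = 1 := by
    have h7 : σ ^ 7 = 1 := by
      rw [show σ = MulAction.toPermHom (MulAut N) (Sylow 3 N) (MulAut.conjNormal y) from rfl, ← map_pow,
        ← map_pow, hy, map_one, map_one]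
    have hfac : orderOf σ ∣ (Nat.card (Sylow 3 N)).factorial := by
      rw [← Nat.card_perm]; exact orderOf_dvd_natCard σ
    have h6 := hfac.trans (Nat.factorial_dvd_factorial (show Nat.card (Sylow 3 N) ≤ 6 by omega))
    have h1 := Nat.dvd_gcd (orderOf_dvd_of_pow_eq_one h7) h6
    norm_num [Nat.factorial] at h1
    exact h1
  obtain ⟨p, hp⟩ := (isCyclic_of_prime_card hPc).exists_generator
  have hp3 : orderOf p = 3 := by rw [orderOf_eq_card_of_forall_mem_zpowers hp, hPc]
  have hp3' : orderOf ((p : N) : Y) = 3 := by rw [Subgroup.orderOf_coe, Subgroup.orderOf_coe, hp3]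
  refine ⟨((p : N) : Y), (p : N).2, hp3', ?_⟩
  have hmem : ∀ x : N, x ∈ (P : Subgroup N) → (MulAut.conjNormal y x : N) ∈ (P : Subgroup N) := by
    intro x hx
    have h := congrArg (fun s : Equiv.Perm (Sylow 3 N) => s P) hσ
    simp only [Equiv.Perm.coe_one, id_eq] at h
    have h' : (MulAut.conjNormal y : MulAut N) • P = P := h
    rw [← h']
    exact ⟨x, hx, rfl⟩
  obtain ⟨k, hk⟩ := (mem_powers_iff_mem_zpowers.2 (hp ⟨_, hmem _ p.2⟩))
  have hk' : ((p : N) : Y) ^ k = y * ((p : N) : Y) * y⁻¹ :=
    (congrArg (fun q : (P : Subgroup N) => ((q : N) : Y)) hk).trans rfl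
  set q : Y := ((p : N) : Y)
  rw [← pow_mod_orderOf, hp3'] at hk'
  have : k % 3 < 3 := Nat.mod_lt _ (by norm_num)
  interval_cases h : k % 3
  · rw [pow_zero, eq_comm, conj_eq_one_iff] at hk'
    rw [hk', orderOf_one] at hp3'
    norm_num at hp3'
  · rw [pow_one] at hk'
    exact (mul_inv_eq_iff_eq_mul.1 hk'.symm)
  · exfalso
    have hit : ∀ n : ℕ, y ^ n * q * (y ^ n)⁻¹ = q ^ (2 ^ n) := by
      intro n
      induction n with
      | zero => simp
      | succ n ih =>
        rw [pow_succ' y, pow_succ (2 : ℕ), mul_comm (2 ^ n), pow_mul, hk', conj_pow, ← ih]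
        group
    have h7 := hit 7
    rw [hy, one_mul, inv_one, mul_one, ← pow_mod_orderOf, hp3'] at h7
    norm_num at h7
    have := (pow_eq_one_iff_modEq (x := q) (n := 1)).not
    have hq2 : q ^ 1 = q ^ 2 := by rw [pow_one]; exact h7
    have := pow_inj_mod.1 hq2
    rw [hp3'] at this
    norm_num at this

variable [Finite G] {t c : G} {R H : Subgroup G}

theorem exists_vFacts (F : RFacts t c R H) (V : Subgroup G) (hVcomm : IsMulCommutative V)
    (hVexp : ∀ v ∈ V, v ^ 2 = 1) (hVcard : Nat.card V = 8) (hVR : V ≤ R) (M : Subgroup G)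
    (hM : M = normalizer (V : Set G))
    (eOM : Cfsg.pCore 2 M ≃* Multiplicative (ZMod 4 × ZMod 4 × ZMod 4))
    (eM : M ⧸ Cfsg.pCore 2 M ≃* GL (Fin 3) (ZMod 2)) :
    VFacts t R V M ((Cfsg.pCore 2 M).map M.subtype) := by
  haveI := Fact.mk Nat.prime_two
  set A := (Cfsg.pCore 2 M).map M.subtype with hAdef
  haveI hNn : (Cfsg.pCore 2 M).Normal := LocalStructure.pCore_normal
  have hvc : ∀ x ∈ V, ∀ y ∈ V, x * y = y * x := fun x hx y hy =>
    congrArg Subtype.val (mul_comm' (⟨x, hx⟩ : V) ⟨y, hy⟩)
  have ht2 : t * t = 1 := by rw [← pow_two, ← F.ht, pow_orderOf_eq_one]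
  have htc : ∀ x ∈ R, t * x = x * t := fun x hx =>
    (mem_centralizer_singleton_iff.1 (F.hH ▸ F.le hx)).symm
  have htV : t ∈ V := by
    by_contra htV
    let X : Subgroup G :=
      { carrier := {x | x ∈ V ∨ t * x ∈ V}
        one_mem' := Or.inl (one_mem _)
        mul_mem' := by
          rintro a b ha hb
          have hb' : ∀ x, t * x ∈ V → t * x = x * t := fun x hx => by
            have := htc _ (hVR hx)
            rw [mul_assoc] at this
            exact mul_left_cancel this
          rcases ha with ha | ha <;> rcases hb with hb | hb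
          · exact Or.inl (mul_mem ha hb)
          · refine Or.inr ?_
            rw [← mul_assoc, htc a (hVR ha), mul_assoc]
            exact mul_mem ha hb
          · refine Or.inr ?_
            rw [← mul_assoc]
            exact mul_mem ha hb
          · refine Or.inl ?_
            have := mul_mem ha hb
            rwa [hb' a ha, mul_assoc, ← mul_assoc t, ht2, one_mul] at this
        inv_mem' := by
          rintro a (ha | ha)
          · exact Or.inl (inv_mem ha)
          · refine Or.inr ?_
            have h := inv_mem ha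
            have htinv : t⁻¹ = t := inv_eq_of_mul_eq_one_right ht2
            have : a⁻¹ ∈ R := inv_mem (by
              have := mul_mem F.t_mem (hVR ha)
              rwa [← mul_assoc, ht2, one_mul] at this)
            rwa [mul_inv_rev, htinv, ← htc _ this] at h }
    have hXR : X ≤ R := by
      rintro x (hx | hx)
      · exact hVR hx
      · have := mul_mem F.t_mem (hVR hx)
        rwa [← mul_assoc, ht2, one_mul] at this
    have hXc : ∀ x ∈ X, ∀ y ∈ X, x * y = y * x := by
      have key : ∀ x ∈ X, ∀ y ∈ V, x * y = y * x := by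
        rintro x (hx | hx) y hy
        · exact hvc x hx y hy
        · have := hvc _ hx y hy
          rw [mul_assoc, ← mul_assoc y, ← htc y (hVR hy), mul_assoc] at this
          exact mul_left_cancel this
      intro x hx y hy
      rcases hy with hy | hy
      · exact key x hx y hy
      · have := key x hx _ hy
        rw [← mul_assoc, ← htc x (hXR hx), mul_assoc, mul_assoc] at this
        exact mul_left_cancel this
    have hXsq : ∀ x ∈ X, x * x = 1 := by
      rintro x (hx | hx)
      · rw [← pow_two]; exact hVexp x hx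
      · have hxR : x ∈ R := hXR (Or.inr hx)
        have := hVexp _ hx
        rwa [pow_two, mul_assoc, ← mul_assoc x, ← htc x hxR, mul_assoc, ← mul_assoc, ht2,
          one_mul] at this
    have hlt : V < X := lt_of_le_of_ne (fun x hx => Or.inl hx) fun h =>
      htV (h.symm ▸ (Or.inr (by rw [ht2]; exact one_mem V) : t ∈ X))
    -- adjoin the central element `c`
    let Y : Subgroup G :=
      { carrier := {x | x ∈ X ∨ c⁻¹ * x ∈ X}
        one_mem' := Or.inl (one_mem _)
        mul_mem' := by
          have hcx : ∀ x ∈ R, c⁻¹ * x = x * c⁻¹ := fun x hx =>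
            (Commute.inv_left (F.c_comm x hx)).eq
          have htX : t ∈ X := Or.inr (by rw [ht2]; exact one_mem _)
          rintro a b (ha | ha) (hb | hb)
          · exact Or.inl (mul_mem ha hb)
          · refine Or.inr ?_
            rw [← mul_assoc, hcx a (hXR ha), mul_assoc]
            exact mul_mem ha hb
          · refine Or.inr ?_
            rw [← mul_assoc]
            exact mul_mem ha hb
          · refine Or.inl ?_
            have haR : a ∈ R := by
              have := mul_mem F.c_mem (hXR ha)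
              rwa [← mul_assoc, mul_inv_cancel, one_mul] at this
            have := mul_mem htX (mul_mem ha hb)
            rwa [show c⁻¹ * a * (c⁻¹ * b) = (c * c)⁻¹ * (a * b) by
              rw [mul_assoc, ← mul_assoc a, ← hcx a haR, mul_inv_rev]; simp only [mul_assoc],
              F.c_sq, ← mul_assoc, mul_inv_cancel, one_mul] at this
        inv_mem' := by
          have htX : t ∈ X := Or.inr (by rw [ht2]; exact one_mem _)
          rintro a (ha | ha)
          · exact Or.inl (inv_mem ha)
          · refine Or.inr ?_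
            have haR : a ∈ R := by
              have := mul_mem F.c_mem (hXR ha)
              rwa [← mul_assoc, mul_inv_cancel, one_mul] at this
            have := mul_mem (inv_mem htX) (inv_mem ha)
            rwa [mul_inv_rev, inv_inv, ← F.c_sq, mul_inv_rev, ← (F.c_comm _ (inv_mem haR)),
              mul_assoc, ← mul_assoc c⁻¹ c, inv_mul_cancel, one_mul] at this }
    have hYR : Y ≤ R := by
      rintro x (hx | hx)
      · exact hXR hx
      · have := mul_mem F.c_mem (hXR hx)
        rwa [← mul_assoc, mul_inv_cancel, one_mul] at this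
    have hYc : ∀ x ∈ Y, ∀ y ∈ Y, x * y = y * x := by
      have key : ∀ x ∈ Y, ∀ y ∈ X, x * y = y * x := by
        rintro x (hx | hx) y hy
        · exact hXc x hx y hy
        · have := hXc _ hx y hy
          rw [mul_assoc, ← mul_assoc y, ← (Commute.inv_left (F.c_comm y (hXR hy))).eq, mul_assoc] at this
          exact mul_left_cancel this
      intro x hx y hy
      rcases hy with hy | hy
      · exact key x hx y hy
      · have := key x hx _ hy
        rw [← mul_assoc, ← (Commute.inv_left (F.c_comm x (hYR hx))).eq, mul_assoc, mul_assoc] at this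
        exact mul_left_cancel this
    have hlt2 : X < Y := lt_of_le_of_ne (fun x hx => Or.inl hx) fun h => by
      have hcY : c ∈ Y := Or.inr (by rw [inv_mul_cancel]; exact one_mem _)
      have := hXsq c (h.symm ▸ hcY)
      rw [F.c_sq] at this
      have h1 := F.ht
      rw [this, orderOf_one] at h1
      norm_num at h1
    have h16 := F.abel Y hYR hYc
    have d1 := Subgroup.card_dvd_of_le hlt.le
    have d2 := Subgroup.card_dvd_of_le hlt2.le
    have l1 : Nat.card V < Nat.card X := lt_of_le_of_ne (Subgroup.card_le_of_le hlt.le) fun h =>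
      hlt.ne (eq_of_le_of_card_ge hlt.le h.ge)
    have l2 : Nat.card X < Nat.card Y := lt_of_le_of_ne (Subgroup.card_le_of_le hlt2.le) fun h =>
      hlt2.ne (eq_of_le_of_card_ge hlt2.le h.ge)
    obtain ⟨i, hi⟩ := d1
    obtain ⟨j, hj⟩ := d2
    rw [hVcard] at hi l1
    have hi2 : 2 ≤ i := by omega
    have hj2 : 2 ≤ j := by nlinarith
    nlinarith
  have hAM : A ≤ M := map_subtype_le _
  have hAc : ∀ x ∈ A, ∀ y ∈ A, x * y = y * x := by
    rintro _ ⟨x, hx, rfl⟩ _ ⟨y, hy, rfl⟩
    have : (⟨x, hx⟩ : Cfsg.pCore 2 M) * ⟨y, hy⟩ = ⟨y, hy⟩ * ⟨x, hx⟩ :=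
      eOM.injective (by rw [map_mul, map_mul, mul_comm])
    exact congrArg (fun z : Cfsg.pCore 2 M => ((z : M) : G)) this
  have hA4 : ∀ x ∈ A, x ^ 4 = 1 := by
    rintro _ ⟨x, hx, rfl⟩
    have : (⟨x, hx⟩ : Cfsg.pCore 2 M) ^ 4 = 1 := eOM.injective (by
      rw [map_pow, map_one]
      revert x hx
      intro x hx
      generalize eOM ⟨x, hx⟩ = y
      revert y
      decide)
    exact congrArg (fun z : Cfsg.pCore 2 M => ((z : M) : G)) this
  have hAcard : Nat.card A = 64 := by
    rw [hAdef, card_map_of_injective M.subtype_injective, Nat.card_congr eOM.toEquiv,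
      Nat.card_congr Multiplicative.toAdd, Nat.card_prod, Nat.card_prod, Nat.card_zmod]
  have hVM : V ≤ M := hM ▸ le_normalizer
  have hnorm : ∀ m ∈ M, ∀ x ∈ A, m * x * m⁻¹ ∈ A := by
    rintro m hm _ ⟨x, hx, rfl⟩
    exact ⟨⟨m, hm⟩ * x * ⟨m, hm⟩⁻¹, hNn.conj_mem _ hx _, rfl⟩
  have hVA : V ≤ A := by
    refine LocalStructure.le_pCoreOf hVM (hM.le) ?_
    exact IsPGroup.of_card (n := 3) (by rw [hVcard]; norm_num)
  have hcount : Nat.card {x : A // x * x = 1} = 8 := by
    let e : A ≃* Multiplicative (ZMod 4 × ZMod 4 × ZMod 4) :=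
      ((Cfsg.pCore 2 M).equivMapOfInjective M.subtype M.subtype_injective).symm.trans eOM
    rw [Nat.card_congr (e.toEquiv.subtypeEquiv (q := fun y => y * y = 1) fun x => by
      show x * x = 1 ↔ e x * e x = 1
      rw [← map_mul, e.map_eq_one_iff]), Nat.card_eq_fintype_card]
    decide
  have hvmem : ∀ x, x ∈ V ↔ x ∈ A ∧ x * x = 1 := by
    let f : V → {x : A // x * x = 1} := fun v =>
      ⟨⟨v, hVA v.2⟩, Subtype.ext (by show (v : G) * v = 1; rw [← pow_two]; exact hVexp v v.2)⟩
    have hf : Function.Bijective f := by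
      refine (Nat.bijective_iff_injective_and_card f).2 ⟨fun a b h => Subtype.ext
        (congrArg (fun z : {x : A // x * x = 1} => ((z : A) : G)) h), hVcard.trans hcount.symm⟩
    refine fun x => ⟨fun hx => ⟨hVA hx, by rw [← pow_two]; exact hVexp x hx⟩, fun ⟨hx, hx2⟩ => ?_⟩
    obtain ⟨v, hv⟩ := hf.2 ⟨⟨x, hx⟩, Subtype.ext hx2⟩
    have : (v : G) = x := congrArg (fun z : {x : A // x * x = 1} => ((z : A) : G)) hv
    exact this ▸ v.2
  have hcardM : Nat.card M = 10752 := by
    rw [card_eq_card_quotient_mul_card_subgroup (Cfsg.pCore 2 M), Nat.card_congr eM.toEquiv, card_gl,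
      Nat.card_congr eOM.toEquiv, Nat.card_congr Multiplicative.toAdd, Nat.card_prod, Nat.card_prod,
      Nat.card_zmod]
  have hcentr : ∀ m ∈ M, (∀ v ∈ V, m * v = v * m) → m ∈ A := by
    let N : Subgroup M := (centralizer (V : Set G)).subgroupOf M
    have hNnormal : N.Normal := ⟨fun n hn g => mem_subgroupOf.2 (mem_centralizer_iff.2 fun v hv => by
      have hg : (g : G)⁻¹ * v * g ∈ V := by
        have hgm : (g : G)⁻¹ ∈ normalizer (V : Set G) := by rw [← hM]; exact inv_mem g.2
        have := (mem_normalizer_iff.1 hgm v).1 hv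
        rwa [inv_inv] at this
      have h := mem_centralizer_iff.1 (mem_subgroupOf.1 hn) _ hg
      show v * ((g : G) * n * (g : G)⁻¹) = (g : G) * n * (g : G)⁻¹ * v
      calc v * ((g : G) * n * (g : G)⁻¹) = g * ((g : G)⁻¹ * v * g * n) * (g : G)⁻¹ := by group
        _ = g * (n * ((g : G)⁻¹ * v * g)) * (g : G)⁻¹ := by rw [h]
        _ = _ := by group)⟩
    have h7 : ¬ 7 ∣ Nat.card N := by
      intro h
      haveI := Fact.mk (show Nat.Prime 7 by norm_num)
      obtain ⟨y, hy⟩ := exists_prime_orderOf_dvd_card' 7 h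
      have hyH : ((y : M) : G) ∈ H := by
        rw [F.hH, mem_centralizer_singleton_iff]
        exact (mem_centralizer_iff.1 (mem_subgroupOf.1 y.2) t htV).symm
      have := orderOf_dvd_natCard (⟨_, hyH⟩ : H)
      rw [F.cardH, Subgroup.orderOf_mk, Subgroup.orderOf_coe, Subgroup.orderOf_coe, hy] at this
      norm_num at this
    have hAN : Cfsg.pCore 2 M ≤ N := fun x hx => mem_subgroupOf.2 (mem_centralizer_iff.2 fun v hv =>
      hAc v (hVA hv) x ⟨x, hx, rfl⟩)
    let φ : M →* GL (Fin 3) (ZMod 2) := eM.toMonoidHom.comp (QuotientGroup.mk' _)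
    have hφs : Function.Surjective φ := eM.surjective.comp (QuotientGroup.mk'_surjective _)
    have hφ1 : ∀ x, φ x = 1 ↔ x ∈ Cfsg.pCore 2 M := fun x => by
      show eM (QuotientGroup.mk' _ x) = 1 ↔ _
      rw [eM.map_eq_one_iff, QuotientGroup.mk'_apply, QuotientGroup.eq_one_iff]
    haveI hmapn : (N.map φ).Normal := hNnormal.map φ hφs
    have hmcard : Nat.card (N.map φ) ∣ 24 := by
      have h1 := Subgroup.card_subgroup_dvd_card (N.map φ)
      rw [card_gl, show 168 = 7 * 24 by norm_num] at h1
      refine ((Nat.Prime.coprime_iff_not_dvd (by norm_num)).2 fun h => h7 (h.trans ?_)).symm.dvd_of_dvd_mul_left h1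
      exact (N.card_map_dvd φ)
    suffices hle : N ≤ Cfsg.pCore 2 M by
      intro m hm h
      exact ⟨⟨m, hm⟩, hle (mem_subgroupOf.2 (mem_centralizer_iff.2 fun v hv => (h v hv).symm)), rfl⟩
    by_cases h3 : 3 ∣ Nat.card (N.map φ)
    · exfalso
      haveI := Fact.mk (show Nat.Prime 7 by norm_num)
      obtain ⟨y, hy⟩ := exists_prime_orderOf_dvd_card' (G := GL (Fin 3) (ZMod 2)) 7 (by
        rw [card_gl]; norm_num)
      have hy7 : y ^ 7 = 1 := (congrArg (y ^ ·) hy.symm).trans (pow_orderOf_eq_one y)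
      obtain ⟨p, -, hp, hc⟩ := sylow_fix (N.map φ) y hy7 hmcard h3
      have hp3 : p ^ 3 = 1 := (congrArg (p ^ ·) hp.symm).trans (pow_orderOf_eq_one p)
      have h21 : (y * p) ^ 21 = 1 := by
        rw [Commute.mul_pow hc, show (21 : ℕ) = 7 * 3 by norm_num, pow_mul, hy7, one_pow,
          show 7 * 3 = 3 * 7 by norm_num, pow_mul, hp3, one_pow, one_mul]
      rcases gl_pow21 h21 with h | h <;> rw [Commute.mul_pow hc] at h
      · rw [hy7, one_mul] at h
        have := orderOf_dvd_of_pow_eq_one h
        rw [hp] at this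
        norm_num at this
      · rw [hp3, mul_one] at h
        have := orderOf_dvd_of_pow_eq_one h
        rw [hy] at this
        norm_num at this
    · obtain ⟨k, -, hk⟩ := (Nat.dvd_prime_pow Nat.prime_two).1
        (show Nat.card (N.map φ) ∣ 2 ^ 3 from
          ((Nat.prime_three.coprime_iff_not_dvd).2 h3).symm.dvd_of_dvd_mul_left
            (show Nat.card (N.map φ) ∣ 3 * 2 ^ 3 from hmcard))
      refine LocalStructure.le_pCore (hN := hNnormal) ?_
      intro x
      have hx : φ x.1 ^ (2 ^ k) = 1 := by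
        have : (⟨φ x.1, mem_map_of_mem φ x.2⟩ : N.map φ) ^ (2 ^ k) = 1 := by
          rw [← hk]; exact pow_card_eq_one'
        exact congrArg Subtype.val this
      rw [← map_pow, hφ1] at hx
      obtain ⟨j, hj⟩ := LocalStructure.pCore_isPGroup (p := 2) (G := M) ⟨_, hx⟩
      refine ⟨k + j, Subtype.ext ?_⟩
      have := congrArg Subtype.val hj
      rw [pow_add, pow_mul]
      simpa using this
  refine ⟨hVcard, hvc, htV, hM, hAcard, hAM, hnorm, hAc, hA4, hvmem, hcentr, hcardM, ?_, hVR⟩
  intro r hr
  rw [hM, mem_normalizer_iff]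
  have hrv : ∀ r ∈ R, ∀ v ∈ V, r * v * r⁻¹ ∈ V := by
    intro r hr v hv
    rcases F.comm r hr v (hVR hv) with h | h
    · rwa [h, mul_inv_cancel_right]
    · rw [h, mul_assoc t, mul_inv_cancel_right]
      exact mul_mem htV hv
  refine fun v => ⟨hrv r hr v, fun h => ?_⟩
  have := hrv r⁻¹ (inv_mem hr) _ h
  rwa [show r⁻¹ * (r * v * r⁻¹) * r⁻¹⁻¹ = v by group] at this

end CfsgLib.HSRec
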