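import Cfsg.Agent.HSRec.MModel
import Cfsg.Agent.HSRec.LocalV

/-!
Coordinates on `M`: a basis of `A`, an involution `a` and an element `b` of order three with the standard
action and the standard relations.
-/

set_option autoImplicit false
set_option maxRecDepth 100000

namespace CfsgLib.HSRec

open Subgroup CfsgLib.CosetEnum

/-- Pack three columns. -/
def pk (x y z : ℕ) : ℕ := x + 64 * y + 4096 * z

theorem col_pk {x y z : ℕ} (hx : x < 64) (hy : y < 64) (hz : z < 64) :
    col (pk x y z) 0 = x ∧ col (pk x y z) 1 = y ∧ col (pk x y z) 2 = z := by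
  have h : ∀ M i, col M i = M / 2 ^ (6 * i) % 64 := fun M i => by
    rw [← Nat.shiftRight_eq_div_pow, show (64 : ℕ) = 2 ^ 6 by norm_num, ← Nat.and_two_pow_sub_one_eq_mod]
    rfl
  simp only [h, pk]
  refine ⟨?_, ?_, ?_⟩ <;> norm_num <;> omega

/-- Composition of packed matrices. -/
def mcomp (M N : ℕ) : ℕ := pk (actc M (col N 0)) (actc M (col N 1)) (actc M (col N 2))

/-- Powers of a packed matrix. -/
def mpow (M : ℕ) : ℕ → ℕ
  | 0 => pk 1 4 16
  | n + 1 => mcomp (mpow M n) M

/-- Parities of the columns. -/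
def par (M : ℕ) : ℕ :=
  pk (Nat.land (col M 0) 21) (Nat.land (col M 1) 21) (Nat.land (col M 2) 21)

/-- The eight parities. -/
def halves : List ℕ := [0, 1, 4, 5, 16, 17, 20, 21]

theorem col_par (M i : ℕ) (hi : i < 3) : col (par M) i = Nat.land (col M i) 21 := by
  have h : ∀ u < 64, Nat.land u 21 < 64 := by decide +kernel
  obtain ⟨a, b, c⟩ := col_pk (h _ (col_lt M 0)) (h _ (col_lt M 1)) (h _ (col_lt M 2))
  interval_cases i <;> assumption

theorem col_mcomp (M N i : ℕ) (hi : i < 3) : col (mcomp M N) i = actc M (col N i) := by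
  obtain ⟨a, b, c⟩ := col_pk (actc_lt M (col N 0)) (actc_lt M (col N 1)) (actc_lt M (col N 2))
  interval_cases i <;> assumption

section Conj

variable {G : Type*} [Group G]

/-- Conjugation by `m` is given by the packed matrix `T`. -/
def Acts (e : ℕ → G) (m : G) (T : ℕ) : Prop := ∀ i, i < 3 → m * e i * m⁻¹ = iota e (col T i)

variable {e : ℕ → G}

theorem Acts.apply (F : Frame e) {m : G} {T : ℕ} (h : Acts e m T) (u : ℕ) :
    m * iota e u * m⁻¹ = iota e (actc T u) := F.conj_iota h u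

theorem Acts.one : Acts e (1 : G) (pk 1 4 16) := by
  intro i hi
  obtain ⟨a, b, c⟩ := col_pk (show 1 < 64 by norm_num) (show 4 < 64 by norm_num) (show 16 < 64 by norm_num)
  interval_cases i
  · rw [a, iota_one]; group
  · rw [b, iota_four]; group
  · rw [c, iota_sixteen]; group

theorem Acts.mul (F : Frame e) {m n : G} {T U : ℕ} (hm : Acts e m T) (hn : Acts e n U) :
    Acts e (m * n) (mcomp T U) := by
  intro i hi
  rw [col_mcomp _ _ _ hi, ← hm.apply F, ← hn i hi]
  group

theorem Acts.pow (F : Frame e) {m : G} {T : ℕ} (hm : Acts e m T) : ∀ n, Acts e (m ^ n) (mpow T n)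
  | 0 => by rw [pow_zero]; exact Acts.one
  | n + 1 => by rw [pow_succ]; exact (Acts.pow F hm n).mul F hm

/-- Linear substitution of one frame in another. -/
theorem iota_subst {f e' : ℕ → G} (F : Frame f) {S : ℕ} (h : ∀ i, i < 3 → e' i = iota f (col S i)) (u : ℕ) :
    iota e' u = iota f (actc S u) := by
  rw [actc, F.iota_padd (padd_table _ (psmul_lt (col_lt _ _) _) _ (psmul_lt (col_lt _ _) _)).1
    (psmul_lt (col_lt _ _) _), F.iota_padd (psmul_lt (col_lt _ _) _) (psmul_lt (col_lt _ _) _),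
    F.iota_psmul (col_lt _ _), F.iota_psmul (col_lt _ _), F.iota_psmul (col_lt _ _),
    ← h 0 (by norm_num), ← h 1 (by norm_num), ← h 2 (by norm_num), iota]

end Conj

/-- A basis of `A` whose first square is `t`. -/
structure Basis {G : Type*} [Group G] (t : G) (A : Subgroup G) (e : ℕ → G) : Prop where
  frame : Frame e
  mem : ∀ u < 64, iota e u ∈ A
  surj : ∀ x ∈ A, ∃ u < 64, iota e u = x
  inj : ∀ u < 64, ∀ v < 64, iota e u = iota e v → u = v
  t_eq : t = iota e 2

section Setup

variable {G : Type*} [Group G] [Finite G] {t c : G} {R H V M A : Subgroup G}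

theorem iota_sq (e : ℕ → G) (F : Frame e) (u : ℕ) (hu : u < 64) :
    iota e u * iota e u = iota e (Nat.mul 2 (Nat.land u 21)) := by
  rw [← F.iota_padd hu hu]
  congr 1
  revert u
  decide +kernel

theorem basis_of_inj (hV : VFacts t R V M A) (e : ℕ → G) (hm : ∀ i, i < 3 → e i ∈ A)
    (h0 : e 0 * e 0 = t) (hker : ∀ u < 64, iota e u = 1 → u = 0) : Basis t A e := by
  have F : Frame e := ⟨fun i j hi hj => hV.a_comm _ (hm i hi) _ (hm j hj), fun i hi => hV.a_four _ (hm i hi)⟩
  have hmem : ∀ u < 64, iota e u ∈ A := fun u _ =>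
    mul_mem (mul_mem (pow_mem (hm 0 (by norm_num)) _) (pow_mem (hm 1 (by norm_num)) _))
      (pow_mem (hm 2 (by norm_num)) _)
  have hinj : ∀ u < 64, ∀ v < 64, iota e u = iota e v → u = v := by
    intro u hu v hv huv
    have hp := (pneg_spec v hv).1
    have h1 : iota e (padd u (pneg v)) = 1 := by
      rw [F.iota_padd hu hp, F.iota_pneg hv, huv, mul_inv_cancel]
    have h2 := hker _ (padd_table u hu _ hp).1 h1
    have hcanc : ∀ u < 64, ∀ v < 64, padd u (pneg v) = 0 → u = v := by decide +kernel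
    exact hcanc u hu v hv h2
  refine ⟨F, hmem, ?_, hinj, ?_⟩
  · let f : Fin 64 → A := fun u => ⟨iota e u, hmem u u.2⟩
    have hf : Function.Bijective f := (Nat.bijective_iff_injective_and_card f).2
      ⟨fun a b h => Fin.ext (hinj a a.2 b b.2 (congrArg Subtype.val h)), by
        rw [Nat.card_fin, hV.cardA]⟩
    intro x hx
    obtain ⟨u, hu⟩ := hf.2 ⟨x, hx⟩
    exact ⟨u, u.2, congrArg Subtype.val hu⟩
  · rw [← h0, ← iota_one e, iota_sq e F 1 (by norm_num)]; rfl

theorem exists_basis (hV : VFacts t R V M A) (ht : orderOf t = 2) : ∃ e : ℕ → G, Basis t A e := by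
  have hroot : ∀ v ∈ V, ∃ x ∈ A, x * x = v := by
    let f : A →* A := MonoidHom.mk' (fun x => x * x) fun x y => Subtype.ext (by
      show (x : G) * y * (x * y) = x * x * (y * y)
      rw [mul_assoc, ← mul_assoc (y : G), hV.a_comm _ y.2 _ x.2]
      simp only [mul_assoc])
    have hker : Nat.card f.ker = 8 := by
      rw [← hV.cardV]
      exact Nat.card_congr
        { toFun := fun x => ⟨x.1.1, (hV.v_mem _).2 ⟨x.1.2, congrArg Subtype.val (MonoidHom.mem_ker.1 x.2)⟩⟩
          invFun := fun v => ⟨⟨v.1, ((hV.v_mem _).1 v.2).1⟩,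
            MonoidHom.mem_ker.2 (Subtype.ext ((hV.v_mem _).1 v.2).2)⟩
          left_inv := fun x => rfl
          right_inv := fun x => rfl }
    have hrange : Nat.card f.range = 8 := by
      have := f.ker.card_mul_index
      rw [index_ker, hker, hV.cardA] at this
      omega
    have hle : f.range.map A.subtype ≤ V := by
      rintro _ ⟨_, ⟨x, rfl⟩, rfl⟩
      refine (hV.v_mem _).2 ⟨mul_mem x.2 x.2, ?_⟩
      show (x : G) * x * (x * x) = 1
      rw [← hV.a_four _ x.2, pow_succ, pow_succ, pow_succ, pow_one, mul_assoc (x * x : G)]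
    have heq : f.range.map A.subtype = V := eq_of_le_of_card_ge hle (by
      rw [card_map_of_injective A.subtype_injective, hrange, hV.cardV])
    intro v hv
    obtain ⟨_, ⟨x, rfl⟩, hx⟩ := (heq.symm ▸ hv : v ∈ f.range.map A.subtype)
    exact ⟨x, x.2, hx⟩
  classical
  have hpick : ∀ S : Finset G, S.card < 8 → ∃ v ∈ V, v ∉ S := by
    intro S hS
    by_contra hcon
    push Not at hcon
    have h1 : Nat.card V ≤ Nat.card (S : Set G) :=
      Nat.card_le_card_of_injective (fun v => ⟨v.1, hcon v v.2⟩) fun a b h =>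
        Subtype.ext (congrArg (fun z : (S : Set G) => (z : G)) h)
    rw [hV.cardV, Nat.card_coe_set_eq, Set.ncard_coe_finset] at h1
    omega
  obtain ⟨v2, hv2, hn2⟩ := hpick {1, t} (lt_of_le_of_lt Finset.card_le_two (by norm_num))
  obtain ⟨v3, hv3, hn3⟩ := hpick {1, t, v2, t * v2} (lt_of_le_of_lt Finset.card_le_four (by norm_num))
  simp only [Finset.mem_insert, Finset.mem_singleton, not_or] at hn2 hn3
  obtain ⟨x0, hx0, h0⟩ := hroot t hV.t_mem
  obtain ⟨x1, hx1, h1⟩ := hroot v2 hv2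
  obtain ⟨x2, hx2, h2⟩ := hroot v3 hv3
  let e : ℕ → G := fun i => match i with | 0 => x0 | 1 => x1 | _ => x2
  have hm : ∀ i, i < 3 → e i ∈ A := by intro i hi; interval_cases i <;> assumption
  have F : Frame e := ⟨fun i j hi hj => hV.a_comm _ (hm i hi) _ (hm j hj), fun i hi => hV.a_four _ (hm i hi)⟩
  refine ⟨e, basis_of_inj hV e hm h0 ?_⟩
  have hd : ∀ k, iota e (Nat.mul 2 k) = iota e (Nat.mul 2 k) := fun _ => rfl
  have ht2 : t * t = 1 := by rw [← pow_two, ← ht, pow_orderOf_eq_one]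
  have ht1 : t ≠ 1 := fun h => by rw [h, orderOf_one] at ht; norm_num at ht
  have p2 : ∀ x : G, x ^ 2 = x * x := pow_two
  -- the seven doubled codes name nontrivial elements
  have hne : ∀ k ∈ halves, k ≠ 0 → iota e (Nat.mul 2 k) ≠ 1 := by
    have w : ∀ k, iota e k = x0 ^ d0 k * x1 ^ d1 k * x2 ^ d2 k := fun k => rfl
    intro k hk hk0
    simp only [halves, List.mem_cons, List.not_mem_nil, or_false] at hk
    rcases hk with rfl | rfl | rfl | rfl | rfl | rfl | rfl | rfl
    · exact absurd rfl hk0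
    all_goals rw [w]; simp [d0, d1, d2, p2, h0, h1, h2]
    · exact ht1
    · exact hn2.1
    · intro h
      exact hn2.2 (mul_left_cancel (h.trans ht2.symm))
    · exact hn3.1
    · intro h
      exact hn3.2.1 (mul_left_cancel (h.trans ht2.symm))
    · intro h
      have hv22 : v2 * v2 = 1 := ((hV.v_mem _).1 hv2).2
      exact hn3.2.2.1 (mul_left_cancel (h.trans hv22.symm))
    · intro h
      have hs : t * v2 * (t * v2) = 1 := ((hV.v_mem _).1 (mul_mem hV.t_mem hv2)).2
      exact hn3.2.2.2 (mul_left_cancel (h.trans hs.symm))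
  intro u hu hu1
  have hsq := iota_sq e F u hu
  rw [hu1, mul_one] at hsq
  have hh : ∀ u < 64, Nat.land u 21 ∈ halves ∧ (Nat.land u 21 = 0 → ∃ k ∈ halves, u = Nat.mul 2 k) := by
    decide +kernel
  obtain ⟨hm1, hm2⟩ := hh u hu
  by_cases h21 : Nat.land u 21 = 0
  · obtain ⟨k, hk, rfl⟩ := hm2 h21
    by_contra hk0
    exact hne k hk (fun h => hk0 (by subst h; rfl)) hu1
  · exact absurd hsq.symm (hne _ hm1 h21)

/-- The parity of the action of `m`. -/
def Par (e : ℕ → G) (m : G) (P : ℕ) : Prop := ∃ T, Acts e m T ∧ par T = P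

theorem exists_acts (hV : VFacts t R V M A) {e : ℕ → G} (B : Basis t A e) {m : G} (hm : m ∈ M) :
    ∃ T, Acts e m T := by
  have hei : ∀ i, i < 3 → e i ∈ A := by
    intro i hi
    interval_cases i
    · rw [← iota_one e]; exact B.mem 1 (by norm_num)
    · rw [← iota_four e]; exact B.mem 4 (by norm_num)
    · rw [← iota_sixteen e]; exact B.mem 16 (by norm_num)
  obtain ⟨x, hx, ex⟩ := B.surj _ (hV.normA m hm _ (hei 0 (by norm_num)))
  obtain ⟨y, hy, ey⟩ := B.surj _ (hV.normA m hm _ (hei 1 (by norm_num)))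
  obtain ⟨z, hz, ez⟩ := B.surj _ (hV.normA m hm _ (hei 2 (by norm_num)))
  obtain ⟨a, b, c⟩ := col_pk hx hy hz
  refine ⟨pk x y z, fun i hi => ?_⟩
  interval_cases i
  · rw [a, ex]
  · rw [b, ey]
  · rw [c, ez]

theorem par_table : (∀ u < 64, ∀ k ∈ halves, Nat.land u 21 = k → Nat.mul 2 (Nat.land u 21) = Nat.mul 2 k) ∧
    (∀ u < 64, Nat.mul 2 (Nat.land u 21) < 64 ∧ Nat.land u 21 ∈ halves) := by
  decide +kernel

/-- Elements with the same parities differ by an element of `A`. -/
theorem mem_of_par_eq (hV : VFacts t R V M A) {e : ℕ → G} (B : Basis t A e) {m n : G} (hm : m ∈ M)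
    (hn : n ∈ M) {T U : ℕ} (hT : Acts e m T) (hU : Acts e n U) (h : par T = par U) : n⁻¹ * m ∈ A := by
  refine hV.centr _ (mul_mem (inv_mem hn) hm) fun v hv => ?_
  obtain ⟨u, hu, rfl⟩ := B.surj v ((hV.v_mem v).1 hv).1
  have h2 : iota e (Nat.mul 2 (Nat.land u 21)) = 1 := by
    rw [← iota_sq e B.frame u hu]; exact ((hV.v_mem _).1 hv).2
  have h3 := B.inj _ (par_table.2 u hu).1 0 (by norm_num) (h2.trans (iota_zero e).symm)
  have h4 : ∀ i, i < 3 → iota e (Nat.mul 2 (Nat.land (col T i) 21)) = iota e (Nat.mul 2 (Nat.land (col U i) 21)) := by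
    intro i hi
    rw [← col_par T i hi, h, col_par U i hi]
  have hsqs : ∀ i, i < 3 → m * (e i * e i) * m⁻¹ = n * (e i * e i) * n⁻¹ := by
    intro i hi
    rw [← conj_mul, hT i hi, iota_sq e B.frame _ (col_lt _ _), h4 i hi,
      ← iota_sq e B.frame _ (col_lt _ _), ← hU i hi, conj_mul]
  have hcomm : ∀ i, i < 3 → Commute (n⁻¹ * m) (e i * e i) := by
    intro i hi
    show n⁻¹ * m * (e i * e i) = e i * e i * (n⁻¹ * m)
    calc n⁻¹ * m * (e i * e i) = n⁻¹ * (m * (e i * e i) * m⁻¹) * m := by group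
      _ = n⁻¹ * (n * (e i * e i) * n⁻¹) * m := by rw [hsqs i hi]
      _ = _ := by group
  have hev : ∀ u < 64, Nat.mul 2 (Nat.land u 21) = 0 → ∃ i ∈ halves, u = Nat.mul 2 i := by decide +kernel
  obtain ⟨k, hk, rfl⟩ := hev u hu h3
  have hk64 : k < 64 := by
    simp only [halves, List.mem_cons, List.not_mem_nil, or_false] at hk
    omega
  have hhalf : ∀ k ∈ halves, Nat.mul 2 k = Nat.mul 2 (Nat.land k 21) := by decide +kernel
  have hk2 := hhalf k hk
  rw [hk2, ← iota_sq e B.frame k hk64, iota,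
    show e 0 ^ d0 k * e 1 ^ d1 k * e 2 ^ d2 k * (e 0 ^ d0 k * e 1 ^ d1 k * e 2 ^ d2 k) =
      (e 0 * e 0) ^ d0 k * (e 1 * e 1) ^ d1 k * (e 2 * e 2) ^ d2 k by
      have c := B.frame.comm
      rw [(c 0 0 (by norm_num) (by norm_num)).mul_pow, (c 1 1 (by norm_num) (by norm_num)).mul_pow,
        (c 2 2 (by norm_num) (by norm_num)).mul_pow,
        (((c 2 0 (by norm_num) (by norm_num)).pow_pow (d2 k) (d0 k)).mul_right
          ((c 2 1 (by norm_num) (by norm_num)).pow_pow (d2 k) (d1 k))).mul_mul_mul_comm,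
        ((c 1 0 (by norm_num) (by norm_num)).pow_pow (d1 k) (d0 k)).mul_mul_mul_comm]]
  exact (((hcomm 0 (by norm_num)).pow_right _).mul_right ((hcomm 1 (by norm_num)).pow_right _)).mul_right
    ((hcomm 2 (by norm_num)).pow_right _)

/-- The parity matrices of invertible maps. -/
def parMats : List ℕ :=
  ((List.range 512).map fun n => pk (halves.getD (n % 8) 0) (halves.getD (n / 8 % 8) 0)
    (halves.getD (n / 64) 0)).filter fun P =>
    !(Nat.beq (col P 0) 0) && (!(Nat.beq (col P 1) 0) && (!(Nat.beq (col P 1) (col P 0)) &&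
      (!(Nat.beq (col P 2) 0) && (!(Nat.beq (col P 2) (col P 0)) && (!(Nat.beq (col P 2) (col P 1)) &&
        !(Nat.beq (col P 2) (Nat.xor (col P 0) (col P 1))))))))

theorem parMats_complete : parMats.length = 168 ∧ ∀ x ∈ halves, ∀ y ∈ halves, ∀ z ∈ halves,
    x ≠ 0 → y ≠ 0 → y ≠ x → z ≠ 0 → z ≠ x → z ≠ y → z ≠ Nat.xor x y → pk x y z ∈ parMats := by
  decide +kernel

theorem par_mem (hV : VFacts t R V M A) {e : ℕ → G} (B : Basis t A e) {m : G} (hm : m ∈ M) {T : ℕ}
    (hT : Acts e m T) : par T ∈ parMats := by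
  have hinj : ∀ u < 64, iota e (Nat.mul 2 (Nat.land (actc T u) 21)) = 1 → Nat.land u 21 = 0 := by
    intro u hu h
    rw [← iota_sq e B.frame _ (actc_lt T u), ← hT.apply B.frame, conj_mul, conj_eq_one_iff,
      iota_sq e B.frame u hu] at h
    have := B.inj _ (par_table.2 u hu).1 0 (by norm_num) (h.trans (iota_zero e).symm)
    simp only [Nat.mul_eq] at this
    omega
  have hz : iota e (Nat.mul 2 0) = (1 : G) := iota_zero e
  have hadd : ∀ u < 64, ∀ v < 64, Nat.land (padd u v) 21 = Nat.xor (Nat.land u 21) (Nat.land v 21) := by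
    decide +kernel
  have hx : ∀ k, Nat.xor k k = 0 := Nat.xor_self
  have e0 : actc T 1 = col T 0 ∧ actc T 4 = col T 1 ∧ actc T 16 = col T 2 ∧
      actc T 5 = padd (col T 0) (col T 1) ∧ actc T 17 = padd (col T 0) (col T 2) ∧
      actc T 20 = padd (col T 1) (col T 2) ∧ actc T 21 = padd (padd (col T 0) (col T 1)) (col T 2) := by
    have z : ∀ u < 64, padd 0 u = u ∧ padd u 0 = u := by decide +kernel
    refine ⟨?_, ?_, ?_, ?_, ?_, ?_, ?_⟩ <;>
      simp [actc, d0, d1, d2, psmul, show padd 0 0 = 0 from rfl, z _ (col_lt T _), (z _ (padd_table _ (col_lt T _) _ (col_lt T _)).1)]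
  obtain ⟨a1, a4, a16, a5, a17, a20, a21⟩ := e0
  have k0 := col_lt T 0
  have k1 := col_lt T 1
  have k2 := col_lt T 2
  have r1 := hinj 1 (by norm_num)
  have r4 := hinj 4 (by norm_num)
  have r16 := hinj 16 (by norm_num)
  have r5 := hinj 5 (by norm_num)
  have r17 := hinj 17 (by norm_num)
  have r20 := hinj 20 (by norm_num)
  have r21 := hinj 21 (by norm_num)
  rw [a1] at r1
  rw [a4] at r4
  rw [a16] at r16
  rw [a5, hadd _ k0 _ k1] at r5
  rw [a17, hadd _ k0 _ k2] at r17
  rw [a20, hadd _ k1 _ k2] at r20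
  rw [a21, hadd _ (padd_table _ k0 _ k1).1 _ k2, hadd _ k0 _ k1] at r21
  refine parMats_complete.2 _ (par_table.2 _ k0).2 _ (par_table.2 _ k1).2 _ (par_table.2 _ k2).2
    ?_ ?_ ?_ ?_ ?_ ?_ ?_ <;> intro h
  · exact absurd (r1 (by rw [h]; exact hz)) (by decide)
  · exact absurd (r4 (by rw [h]; exact hz)) (by decide)
  · exact absurd (r5 (by rw [h, hx]; exact hz)) (by decide)
  · exact absurd (r16 (by rw [h]; exact hz)) (by decide)
  · exact absurd (r17 (by rw [h, hx]; exact hz)) (by decide)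
  · exact absurd (r20 (by rw [h, hx]; exact hz)) (by decide)
  · exact absurd (r21 (by rw [h, hx]; exact hz)) (by decide)

/-- Every invertible parity is realised in `M`. -/
theorem exists_par (hV : VFacts t R V M A) {e : ℕ → G} (B : Basis t A e) {P : ℕ} (hP : P ∈ parMats) :
    ∃ m ∈ M, Par e m P := by
  classical
  haveI := Fintype.ofFinite M
  choose T hT using fun m : M => exists_acts hV B m.2
  have himg : (Finset.univ.image fun m => par (T m)) ⊆ parMats.toFinset := fun x hx => by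
    obtain ⟨m, -, rfl⟩ := Finset.mem_image.1 hx
    exact List.mem_toFinset.2 (par_mem hV B m.2 (hT m))
  have hfib : ∀ x ∈ Finset.univ.image (fun m => par (T m)),
      (Finset.univ.filter fun m => par (T m) = x).card ≤ 64 := by
    intro x hx
    obtain ⟨m, -, rfl⟩ := Finset.mem_image.1 hx
    let g : {n // n ∈ Finset.univ.filter fun n => par (T n) = par (T m)} → A := fun n =>
      ⟨(m : G)⁻¹ * (n.1 : G), mem_of_par_eq hV B n.1.2 m.2 (hT _) (hT _) (Finset.mem_filter.1 n.2).2⟩
    have := Nat.card_le_card_of_injective g fun p q h =>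
      Subtype.ext (Subtype.ext (mul_left_cancel (congrArg Subtype.val h)))
    rwa [Nat.card_eq_finsetCard, hV.cardA] at this
  have hcount := Finset.card_le_mul_card_image Finset.univ 64 hfib
  rw [Finset.card_univ, ← Nat.card_eq_fintype_card, hV.cardM] at hcount
  have hc168 : parMats.toFinset.card ≤ 168 := parMats_complete.1 ▸ List.toFinset_card_le parMats
  have heq := Finset.eq_of_subset_of_card_le himg (by omega)
  obtain ⟨m, -, hm⟩ := Finset.mem_image.1 (heq.symm ▸ List.mem_toFinset.2 hP)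
  exact ⟨m, m.2, T m, hT m, hm⟩

end Setup

end CfsgLib.HSRec
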