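import Cfsg.Agent.HSRec.LocalR

/-!
An element of order five in `H` is squared by an element of `H` of two-power order.
-/

set_option autoImplicit false

namespace CfsgLib.HSRec

open Subgroup

variable {G : Type*} [Group G] [Finite G] {t c : G} {R H : Subgroup G}

theorem five_not_mem (hF : RFacts t c R H) {f : G} (hf : orderOf f = 5) : f ∉ R := by
  intro h
  have := orderOf_dvd_natCard (⟨f, h⟩ : R)
  rw [hF.cardR, Subgroup.orderOf_mk, hf] at this
  norm_num at this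

theorem exists_normalizing (hF : RFacts t c R H) :
    ∃ f k : G, f ∈ H ∧ k ∈ H ∧ orderOf f = 5 ∧ k * f * k⁻¹ = f ^ 2 ∧ ∃ n, k ^ (2 ^ n) = 1 := by
  haveI := Fact.mk (show Nat.Prime 5 by norm_num)
  obtain ⟨π, hπ, hker⟩ := hF.quot
  obtain ⟨f, hf⟩ := exists_prime_orderOf_dvd_card' (G := H) 5 (by rw [hF.cardH]; norm_num)
  have hf' : orderOf (f : G) = 5 := by rw [Subgroup.orderOf_coe, hf]
  set σ := π f with hσ
  have hσ1 : σ ≠ 1 := fun h => five_not_mem hF hf' ((hker f).1 h)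
  have hσo : orderOf σ = 5 :=
    orderOf_eq_prime (by
      rw [hσ, ← map_pow, (congrArg (f ^ ·) hf.symm).trans (pow_orderOf_eq_one f), map_one]) hσ1
  have hcyc : ∀ τ : Equiv.Perm (Fin 5), orderOf τ = 5 → τ.cycleType = {5} := by
    intro τ hτ
    obtain ⟨n, hn⟩ := Equiv.Perm.cycleType_prime_order (σ := τ) (by rw [hτ]; norm_num)
    have hsum := Equiv.Perm.sum_cycleType τ
    have hle : τ.support.card ≤ 5 := (Finset.card_le_univ _).trans (by simp)
    rw [hn, hτ, Multiset.sum_replicate, smul_eq_mul] at hsum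
    have : n = 0 := by omega
    rw [hn, hτ, this]
    rfl
  have hσ2 : orderOf (σ ^ 2) = 5 := by
    rw [orderOf_pow, hσo]; norm_num
  obtain ⟨π₀, hπ₀⟩ := isConj_iff.1
    (Equiv.Perm.isConj_iff_cycleType_eq.2 ((hcyc σ hσo).trans (hcyc _ hσ2).symm))
  obtain ⟨h₀, rfl⟩ := hπ π₀
  -- Sylow conjugacy in the preimage of `⟨σ⟩`
  set S := (zpowers σ).comap π
  have hfS : f ∈ S := mem_zpowers σ
  have hgS : h₀ * f * h₀⁻¹ ∈ S := by
    show π (h₀ * f * h₀⁻¹) ∈ zpowers σ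
    rw [map_mul, map_mul, map_inv, hπ₀]
    exact pow_mem (mem_zpowers σ) 2
  have h25 : ¬ 25 ∣ Nat.card S := fun h => by
    have h' := h.trans (Subgroup.card_subgroup_dvd_card S)
    rw [hF.cardH] at h'
    norm_num at h'
  have hsyl : ∀ x : S, orderOf x = 5 → ∃ P : Sylow 5 S, (P : Subgroup S) = zpowers x := by
    intro x hx
    have hp : IsPGroup 5 (zpowers x) := IsPGroup.of_card (n := 1) (by rw [Nat.card_zpowers, hx, pow_one])
    obtain ⟨P, hP⟩ := hp.exists_le_sylow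
    refine ⟨P, (eq_of_le_of_card_ge hP ?_).symm⟩
    rw [Nat.card_zpowers, hx]
    obtain ⟨n, hn⟩ := IsPGroup.iff_card.1 P.isPGroup'
    rcases Nat.lt_or_ge n 2 with h | h
    · rw [hn]; interval_cases n <;> norm_num
    · exfalso
      refine h25 (dvd_trans ?_ (Subgroup.card_subgroup_dvd_card (P : Subgroup S)))
      rw [hn]
      exact dvd_trans (by norm_num : 25 ∣ 5 ^ 2) (pow_dvd_pow 5 h)
  obtain ⟨P, hP⟩ := hsyl ⟨f, hfS⟩ (by rw [Subgroup.orderOf_mk, hf])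
  obtain ⟨Q, hQ⟩ := hsyl ⟨_, hgS⟩ (by
    rw [Subgroup.orderOf_mk, ← MulAut.conj_apply, MulEquiv.orderOf_eq, hf])
  obtain ⟨s, hs⟩ := MulAction.exists_smul_eq S Q P
  have hmem : s * ⟨_, hgS⟩ * s⁻¹ ∈ (P : Subgroup S) := by
    rw [← hs]
    exact ⟨_, hQ ▸ mem_zpowers _, rfl⟩
  rw [hP, mem_zpowers_iff] at hmem
  obtain ⟨m, hm⟩ := hmem
  have hm' : f ^ m = ((s : H) * h₀) * f * ((s : H) * h₀)⁻¹ := by
    have := congrArg Subtype.val hm
    simp only [Subgroup.coe_mul, Subgroup.coe_inv, Subgroup.coe_zpow] at this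
    rw [this]; group
  have hm2 : f ^ m = f ^ 2 := by
    have h1 : σ ^ m = σ ^ (2 : ℤ) := by
      rw [hσ, ← map_zpow, hm', map_mul, map_mul, map_inv, map_mul, mul_inv_rev,
        show π s * π h₀ * π f * ((π h₀)⁻¹ * (π s)⁻¹) = π s * (π h₀ * π f * (π h₀)⁻¹) * (π s)⁻¹ by group,
        ← hσ, hπ₀]
      obtain ⟨i, hi⟩ := mem_zpowers_iff.1 (s.2 : π (s : H) ∈ zpowers σ)
      rw [← hi, zpow_ofNat]
      group
    rw [zpow_eq_zpow_iff_modEq, hσo] at h1
    rw [← zpow_natCast, zpow_eq_zpow_iff_modEq, hf]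
    exact h1
  set h := (s : H) * h₀
  rw [hm2] at hm'
  -- pass to the two-part
  obtain ⟨a, o, ho, hn⟩ := Nat.exists_eq_two_pow_mul_odd (orderOf_pos h).ne'
  have hit : ∀ n : ℕ, h ^ n * f * (h ^ n)⁻¹ = f ^ (2 ^ n) := by
    intro n
    induction n with
    | zero => simp
    | succ n ih =>
      rw [pow_succ' h, pow_succ (2 : ℕ), mul_comm (2 ^ n), pow_mul, hm', conj_pow, ← ih]
      group
  have hord : (h ^ o) ^ (2 ^ a) = 1 := by
    rw [← pow_mul, mul_comm, ← hn, pow_orderOf_eq_one]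
  obtain ⟨j, hj⟩ := ho
  have h5 : f ^ 5 = 1 := (congrArg (f ^ ·) hf.symm).trans (pow_orderOf_eq_one f)
  have key : ∀ k : H, k * f * k⁻¹ = f ^ 2 → k ^ (2 ^ a) = 1 →
      ∃ f k : G, f ∈ H ∧ k ∈ H ∧ orderOf f = 5 ∧ k * f * k⁻¹ = f ^ 2 ∧ ∃ n, k ^ (2 ^ n) = 1 :=
    fun k h1 h2 => ⟨f, k, f.2, k.2, hf', congrArg Subtype.val h1, a, congrArg Subtype.val h2⟩
  have h16 : ∀ j : ℕ, 2 ^ (2 * j + 1) % 5 = 2 ∨ 2 ^ (2 * j + 1) % 5 = 3 := by
    intro j
    induction j with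
    | zero => norm_num
    | succ j ih =>
      rw [show 2 * (j + 1) + 1 = 2 * j + 1 + 2 by ring, pow_add]
      omega
  have ho' : h ^ o * f * (h ^ o)⁻¹ = f ^ (2 ^ o % 5) := by
    rw [hit, ← pow_mod_orderOf, hf]
  rw [hj] at ho' hord
  rcases h16 j with h2 | h3
  · rw [h2] at ho'
    exact key _ ho' hord
  · rw [h3] at ho'
    refine key (h ^ (2 * j + 1))⁻¹ ?_ (by rw [inv_pow, hord, inv_one])
    have : h ^ (2 * j + 1) * f ^ 2 * (h ^ (2 * j + 1))⁻¹ = f := by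
      rw [← conj_pow, ho', ← pow_mul, show 3 * 2 = 5 + 1 by norm_num, pow_add, h5, one_mul, pow_one]
    calc (h ^ (2 * j + 1))⁻¹ * f * ((h ^ (2 * j + 1))⁻¹)⁻¹
        = (h ^ (2 * j + 1))⁻¹ * (h ^ (2 * j + 1) * f ^ 2 * (h ^ (2 * j + 1))⁻¹) *
            ((h ^ (2 * j + 1))⁻¹)⁻¹ := by rw [this]
      _ = f ^ 2 := by group

/-- A two-element of `H` is conjugate into any subgroup containing a Sylow two-subgroup. -/
theorem conj_two_element (hF : RFacts t c R H) {K : Subgroup G} (hK : K ≤ H)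
    (hKc : Nat.card K = 1536) {k : G} (hk : k ∈ H) {n : ℕ} (hn : k ^ (2 ^ n) = 1) :
    ∃ g ∈ H, g * k * g⁻¹ ∈ K := by
  haveI := Fact.mk Nat.prime_two
  have h512 : ∀ m, 2 ^ m ∣ 7680 → 2 ^ m ≤ 512 := by
    intro m hm
    by_contra h
    push Not at h
    have h10 : 10 ≤ m := (Nat.pow_lt_pow_iff_right (by norm_num : 1 < 2)).1 (show 2 ^ 9 < 2 ^ m by simpa using h)
    exact absurd (dvd_trans (pow_dvd_pow 2 h10) hm) (by norm_num)
  obtain ⟨P⟩ : Nonempty (Sylow 2 (K.subgroupOf H)) := inferInstance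
  have hPc : Nat.card P = 512 := by
    rw [P.card_eq_multiplicity, Nat.card_congr (Subgroup.subgroupOfEquivOfLe hK).toEquiv, hKc]
    rw [show (1536 : ℕ) = 2 ^ 9 * 3 by norm_num, Nat.factorization_mul (by norm_num) (by norm_num),
      Nat.factorization_pow]
    simp [Nat.Prime.factorization_self Nat.prime_two,
      Nat.factorization_eq_zero_of_not_dvd (show ¬ 2 ∣ 3 by norm_num)]
  obtain ⟨P₂, hP₂⟩ := (P.isPGroup'.map (K.subgroupOf H).subtype).exists_le_sylow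
  have hP₂K : (P₂ : Subgroup H) ≤ K.subgroupOf H := by
    have hmap : Nat.card ((P : Subgroup (K.subgroupOf H)).map (K.subgroupOf H).subtype) = 512 := by
      rw [card_map_of_injective (K.subgroupOf H).subtype_injective, hPc]
    obtain ⟨m, hm⟩ := IsPGroup.iff_card.1 P₂.isPGroup'
    have hle : Nat.card P₂ ≤ 512 := by
      rw [hm]
      exact h512 m (hm ▸ hF.cardH ▸ Subgroup.card_subgroup_dvd_card (P₂ : Subgroup H))
    have := eq_of_le_of_card_ge hP₂ (hmap.symm ▸ hle)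
    rw [← this]
    exact map_subtype_le _
  have hp : IsPGroup 2 (zpowers (⟨k, hk⟩ : H)) := by
    obtain ⟨m, -, hm⟩ := (Nat.dvd_prime_pow Nat.prime_two).1
      (orderOf_dvd_of_pow_eq_one (x := (⟨k, hk⟩ : H)) (Subtype.ext hn))
    exact IsPGroup.of_card (n := m) (by rw [Nat.card_zpowers, hm])
  obtain ⟨Q, hQ⟩ := hp.exists_le_sylow
  obtain ⟨g, hg⟩ := MulAction.exists_smul_eq H Q P₂
  refine ⟨g, g.2, ?_⟩
  have : g * ⟨k, hk⟩ * g⁻¹ ∈ (P₂ : Subgroup H) := by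
    rw [← hg]
    exact ⟨_, hQ (mem_zpowers _), rfl⟩
  exact mem_subgroupOf.1 (hP₂K this)

end CfsgLib.HSRec
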