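import Cfsg.Agent.HSRec.FiveData
import Cfsg.Agent.HSRec.Frattini

/-!
An element of order five of `H` with a prescribed action on `R`.
-/

set_option autoImplicit false
set_option maxRecDepth 100000
set_option linter.style.haveILetI false

namespace CfsgLib.HSRec

open Subgroup CfsgLib.CosetEnum

/-- Standard coordinates together with the element of order five. -/
structure Five {G : Type*} [Group G] (t : G) (R H V M A : Subgroup G) (e : ℕ → G) (a b f : G) : Prop where
  std : Std t R V M A e a b 0 0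
  fH : f ∈ H
  order : orderOf f = 5
  not_M : f ∉ M
  centC : ∀ z, inC z = true → f * mval e a b z = mval e a b z * f
  fk : mval e a b kBase1 * f * (mval e a b kBase1)⁻¹ = f ^ 2
  fe : f * mval e a b 8 * f⁻¹ = mval e a b 1475

theorem inC_cases {z : ℕ} (h : inC z = true) : z = 0 ∨ z = 2 ∨ z = 41 ∨ z = 43 := by
  simpa [inC] using h

theorem inC_lt {z : ℕ} (h : inC z = true) : z < 64 := by
  rcases inC_cases h with rfl | rfl | rfl | rfl <;> norm_num

theorem beqB_eq {a b : Bool} (h : beqB a b = true) : a = b := by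
  revert h; cases a <;> cases b <;> simp [beqB]

theorem stab_iff : ∀ g < 168, (stabList.contains g = true ↔ gact g 2 = 2) := by decide +kernel

theorem stab_len : stabList.length = 24 ∧ stabList.Nodup ∧ ∀ g ∈ stabList, g < 168 := by decide +kernel

variable {G : Type*} [Group G] [Finite G] {t c : G} {R H V M A : Subgroup G} {e : ℕ → G} {a b : G}
  {v1 v2 : ℕ}

theorem Std.mem_H (hF : RFacts t c R H) (S : Std t R V M A e a b v1 v2) {p : ℕ} (hp : p < 10752) :
    mval e a b p ∈ H ↔ stabList.contains (p / 64) = true := by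
  rw [stab_iff _ (show p / 64 < 168 by omega), hF.hH, mem_centralizer_singleton_iff, mval, S.basis.t_eq]
  have hconj := S.facts.conj_wg (show p / 64 < 168 by omega) 2
  have hcomm : iota e (p % 64) * iota e 2 = iota e 2 * iota e (p % 64) :=
    (S.facts.frame.iota_comm (Nat.mod_lt _ (by norm_num)) (by norm_num)).eq
  have hgl : gact (p / 64) 2 < 64 := actc_lt _ _
  constructor
  · intro h
    refine S.basis.inj _ hgl 2 (by norm_num) ?_
    rw [← hconj]
    refine mul_inv_eq_iff_eq_mul.2 (mul_left_cancel (a := iota e (p % 64)) ?_)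
    calc iota e (p % 64) * (wg a b (p / 64) * iota e 2)
        = iota e (p % 64) * wg a b (p / 64) * iota e 2 := (mul_assoc _ _ _).symm
      _ = iota e 2 * (iota e (p % 64) * wg a b (p / 64)) := h
      _ = _ := by rw [← mul_assoc, ← hcomm, mul_assoc]
  · intro h
    rw [h, mul_inv_eq_iff_eq_mul] at hconj
    rw [mul_assoc, hconj, ← mul_assoc, hcomm, mul_assoc]

theorem Std.cardK (hF : RFacts t c R H) (hV : VFacts t R V M A) (S : Std t R V M A e a b v1 v2) :
    Nat.card (M ⊓ H : Subgroup G) = 1536 := by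
  obtain ⟨hmem, hinj, hsurj⟩ := mval_bij hV S.facts S.basis S.ha S.hb
  obtain ⟨hl, hnd, hlt⟩ := stab_len
  have hg : ∀ i : Fin 24, stabList.getD i.1 0 ∈ stabList := fun i => by
    rw [List.getD_eq_getElem _ _ (show i.1 < stabList.length by rw [hl]; exact i.2)]; exact List.getElem_mem _
  let φ : Fin 64 × Fin 24 → (M ⊓ H : Subgroup G) := fun p =>
    ⟨mval e a b (p.1.1 + 64 * stabList.getD p.2.1 0), hmem _ (by have := hlt _ (hg p.2); omega), by
      show mval e a b (p.1.1 + 64 * stabList.getD p.2.1 0) ∈ H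
      rw [S.mem_H hF (by have := hlt _ (hg p.2); omega)]
      rw [show (p.1.1 + 64 * stabList.getD p.2.1 0) / 64 = stabList.getD p.2.1 0 by omega]
      exact List.contains_iff_mem.2 (hg p.2)⟩
  have hφ : Function.Bijective φ := by
    refine ⟨fun p q h => ?_, fun x => ?_⟩
    · have hp := hlt _ (hg p.2)
      have hq := hlt _ (hg q.2)
      have h' := hinj _ (by omega) _ (by omega) (congrArg Subtype.val h)
      refine Prod.ext (Fin.ext (by omega)) (Fin.ext ?_)
      have h2 : stabList.getD p.2.1 0 = stabList.getD q.2.1 0 := by omega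
      rw [List.getD_eq_getElem _ _ (show p.2.1 < stabList.length by rw [hl]; exact p.2.2),
        List.getD_eq_getElem _ _ (show q.2.1 < stabList.length by rw [hl]; exact q.2.2)] at h2
      exact hnd.getElem_inj_iff.1 h2
    · obtain ⟨p, hp, hpx⟩ := hsurj x x.2.1
      have hc := (S.mem_H hF hp).1 (hpx.symm ▸ x.2.2)
      obtain ⟨i, hi, hig⟩ := List.mem_iff_getElem.1 (List.contains_iff_mem.1 hc)
      refine ⟨(⟨p % 64, Nat.mod_lt _ (by norm_num)⟩, ⟨i, hl ▸ hi⟩), Subtype.ext ?_⟩
      show mval e a b (p % 64 + 64 * stabList.getD i 0) = x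
      rw [List.getD_eq_getElem _ _ hi, hig, show p % 64 + 64 * (p / 64) = p by omega, hpx]
  rw [← Nat.card_congr (Equiv.ofBijective φ hφ)]
  simp

theorem Std.r_code (hV : VFacts t R V M A) (S : Std t R V M A e a b v1 v2) {x : G} (hx : x ∈ R) :
    ∃ g ∈ [0, 23, 102, 117], ∃ v ∈ List.range 64,
      mval e a b (v + 64 * g) = x ∧ inR (edTbl 0) v1 v2 (v + 64 * g) = true := by
  obtain ⟨p, hp, rfl⟩ := (mval_bij hV S.facts S.basis S.ha S.hb).2.2 x (hV.r_le hx)
  have h := (S.inR_iff p hp).1 hx
  have hp' : p % 64 + 64 * (p / 64) = p := by omega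
  refine ⟨p / 64, ?_, p % 64, List.mem_range.2 (Nat.mod_lt _ (by norm_num)), congrArg _ hp', hp'.symm ▸ h⟩
  by_contra hg
  simp only [List.mem_cons, List.not_mem_nil, or_false, not_or] at hg
  have hb : ∀ n, p / 64 ≠ n → Nat.beq (p / 64) n = false := fun n hn => by
    cases hh : Nat.beq (p / 64) n
    · rfl
    · exact absurd (Nat.eq_of_beq_eq_true hh) hn
  have : inR (edTbl 0) v1 v2 p = false := by
    show (bif Nat.beq (p / 64) 0 then inT (p % 64)
      else bif Nat.beq (p / 64) 23 then inT (padd (p % 64) (pneg v1))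
      else bif Nat.beq (p / 64) 102 then inT (padd (p % 64) (pneg v2))
      else Nat.beq (p / 64) 117 && inT (padd (p % 64) (pneg _))) = false
    simp [hb _ hg.1, hb _ hg.2.1, hb _ hg.2.2.1, hb _ hg.2.2.2]
  rw [this] at h
  exact Bool.false_ne_true h

/-- A central element of `R` has a code in the centre. -/
theorem Std.central_code (hF : RFacts t c R H) (hV : VFacts t R V M A) (S : Std t R V M A e a b v1 v2)
    (hc : cenOK v1 v2 = true) (hv : v1 < 64 ∧ v2 < 64) {x : G} (hx : x ∈ R)
    (h : ∀ y ∈ R, x * y = y * x) : ∃ z, inC z = true ∧ mval e a b z = x := by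
  obtain ⟨g, hg, v, hv', rfl, hin⟩ := S.r_code hV hx
  have hv'' := List.mem_range.1 hv'
  have hg' : g < 168 := by simp only [List.mem_cons, List.not_mem_nil, or_false] at hg; omega
  obtain ⟨-, hinj, -⟩ := mval_bij hV S.facts S.basis S.ha S.hb
  simp only [cenOK, Bool.and_eq_true, List.all_eq_true, Bool.or_eq_true, Bool.not_eq_true'] at hc
  obtain ⟨hgs, hall⟩ := hc
  rcases hall g hg v hv' with h0 | h0 | h0
  · exact absurd hin (by rw [show inR (edTbl 0) v1 v2 (v + 64 * g) = false from h0]; simp)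
  · exact ⟨_, h0, rfl⟩
  · exfalso
    have : ([1, 8, 32, Nat.add v1 (Nat.mul 64 23), Nat.add v2 (Nat.mul 64 102)].all fun x =>
        Nat.beq (mmul tb0 (v + 64 * g) x) (mmul tb0 x (v + 64 * g))) = true := by
      refine List.all_eq_true.2 fun y hy => ?_
      have hlt : y < 10752 := by
        simp only [List.mem_cons, List.not_mem_nil, or_false, Nat.add_eq, Nat.mul_eq] at hy
        omega
      have hm := h _ ((S.inR_iff y hlt).2 (hgs y hy))
      rw [← S.facts.mval_mul (by decide) (by omega) hlt, ← S.facts.mval_mul (by decide) hlt (by omega)] at hm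
      rw [Nat.beq_eq]
      exact hinj _ (mmul_lt (by omega) hlt) _ (mmul_lt hlt (by omega)) hm
    exact Bool.false_ne_true ((h0 : _ = false).symm.trans this)

/-- An element of order five centralizes no noncentral element of `R`. -/
theorem fixed_central (hF : RFacts t c R H) (hV : VFacts t R V M A) {f : G} (hfH : f ∈ H)
    (hf5 : orderOf f = 5) (hfc : f * c = c * f) {x : G} (hx : x ∈ R) (hfx : f * x = x * f) :
    ∀ y ∈ R, x * y = y * x := by
  haveI := Fact.mk (show Nat.Prime 5 by norm_num)
  by_contra hcon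
  push Not at hcon
  letI : MulAction (zpowers f) R :=
    { smul := fun g r => ⟨g * r * (g : G)⁻¹, hF.norm _ (zpowers_le.2 hfH g.2) _ r.2⟩
      one_smul := fun r => Subtype.ext (by show (1 : G) * r * (1 : G)⁻¹ = r; group)
      mul_smul := fun g g' r => Subtype.ext (by
        show (g * g' : G) * r * (g * g' : G)⁻¹ = g * (g' * r * (g' : G)⁻¹) * (g : G)⁻¹
        group) }
  have hp : IsPGroup 5 (zpowers f) := IsPGroup.of_card (n := 1) (by rw [Nat.card_zpowers, hf5, pow_one])
  have hmod := hp.card_modEq_card_fixedPoints R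
  set X : Subgroup G := R ⊓ centralizer ({f} : Set G) with hX
  have hfix : Nat.card (MulAction.fixedPoints (zpowers f) R) = Nat.card X := by
    refine Nat.card_congr
      { toFun := fun r => ⟨r.1, r.1.2, mem_centralizer_singleton_iff.2 ?_⟩
        invFun := fun y => ⟨⟨y.1, y.2.1⟩, fun g => ?_⟩
        left_inv := fun r => rfl
        right_inv := fun y => rfl }
    · have := congrArg Subtype.val (r.2 ⟨f, mem_zpowers f⟩)
      change f * (r.1 : G) * f⁻¹ = r.1 at this
      exact (mul_inv_eq_iff_eq_mul.1 this).symm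
    · refine Subtype.ext ?_
      show (g : G) * y.1 * (g : G)⁻¹ = y.1
      obtain ⟨i, hi⟩ := mem_zpowers_iff.1 g.2
      have hc : Commute (y.1 : G) f := mem_centralizer_singleton_iff.1 y.2.2
      rw [← hi, ← (hc.zpow_right i).eq, mul_inv_cancel_right]
  rw [hfix, hF.cardR] at hmod
  have hXd : Nat.card X ∣ 64 := hF.cardR ▸ Subgroup.card_dvd_of_le inf_le_left
  have hcX : c ∈ X := ⟨hF.c_mem, mem_centralizer_singleton_iff.2 hfc.symm⟩
  have hxX : x ∈ X := ⟨hx, mem_centralizer_singleton_iff.2 hfx.symm⟩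
  have hzc : zpowers c ≤ X := zpowers_le.2 hcX
  have hlt : zpowers c < X := lt_of_le_of_ne hzc fun h => by
    obtain ⟨i, hi⟩ := mem_zpowers_iff.1 (h.symm ▸ hxX)
    obtain ⟨y, hy, hne⟩ := hcon
    exact hne (hi ▸ ((show Commute c y from hF.c_comm y hy).zpow_left i).eq)
  have hc4 : 4 ≤ Nat.card (zpowers c) := by
    rw [Nat.card_zpowers]
    have ht1 : t ≠ 1 := fun h => by
      have := hF.ht
      rw [h, orderOf_one] at this
      norm_num at this
    have h4 : c ^ 4 = 1 := by
      rw [show (4 : ℕ) = 2 * 2 by norm_num, pow_mul, pow_two c, hF.c_sq, ← hF.ht, pow_orderOf_eq_one]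
    have h2 : ¬ c ^ 2 = 1 := by rw [pow_two, hF.c_sq]; exact ht1
    haveI := Fact.mk Nat.prime_two
    rw [orderOf_eq_prime_pow (p := 2) (n := 1) (by rwa [pow_one]) (by norm_num; exact h4)]
    norm_num
  have h5 : 4 < Nat.card X := lt_of_le_of_lt hc4 (lt_of_le_of_ne (Subgroup.card_le_of_le hzc) fun h =>
    hlt.ne (eq_of_le_of_card_ge hzc h.ge))
  obtain ⟨i, hi, hXi⟩ := (Nat.dvd_prime_pow Nat.prime_two).1 (show Nat.card X ∣ 2 ^ 6 from hXd)
  have h64 : Nat.card X = 64 := by
    unfold Nat.ModEq at hmod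
    rw [hXi] at h5 hmod
    interval_cases i <;> first | omega | (norm_num at hXi ⊢; omega)
  have hXR : X = R := eq_of_le_of_card_ge inf_le_left (by rw [h64, hF.cardR])
  have hfM : f ∈ M := by
    rw [hV.hM, mem_normalizer_iff]
    intro v
    have hc : ∀ v ∈ V, f * v * f⁻¹ = v := fun v hv => by
      have h1 : v ∈ X := by rw [hXR]; exact hV.v_le hv
      rw [← (mem_centralizer_singleton_iff.1 h1.2), mul_inv_cancel_right]
    refine ⟨fun h => (hc v h).symm ▸ h, fun h => ?_⟩
    have h2 := hc _ h
    have h3 : f * v * f⁻¹ = v := mul_left_cancel (mul_right_cancel h2)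
    rwa [h3] at h
  have := orderOf_dvd_natCard (⟨f, hfM⟩ : M)
  rw [hV.cardM, Subgroup.orderOf_mk, hf5] at this
  norm_num at this

/-- The hypotheses of a row. -/
structure RowHyp (S : Std t R V M A e a b v1 v2) (H : Subgroup G) (base : ℕ) (row : ℕ × ℕ × ℕ) (f : G) :
    Prop where
  fH : f ∈ H
  order : orderOf f = 5
  centC : ∀ z, inC z = true → f * mval e a b z = mval e a b z * f
  fk : mval e a b (mmul tb0 base row.1) * f * (mval e a b (mmul tb0 base row.1))⁻¹ = f ^ 2

/-- The image of the generator survives the conditions. -/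
theorem row_cond (hF : RFacts t c R H) (hV : VFacts t R V M A) (S : Std t R V M A e a b v1 v2)
    (hcen : cenOK v1 v2 = true) (hv : v1 < 64 ∧ v2 < 64) {base : ℕ} (hbase : base < 10752)
    {row : ℕ × ℕ × ℕ} (hrow : rowBase v1 v2 base row = true) {f : G} (hh : RowHyp S H base row f) :
    ∃ g ∈ [0, 23, 102, 117], ∃ v ∈ List.range 64, inR tb0 v1 v2 (v + 64 * g) = true ∧
      mval e a b (v + 64 * g) = f * mval e a b row.2.1 * f⁻¹ ∧
      phiCond (mmul tb0 base row.1) row.2.1 row.2.2 (v + 64 * g) = true := by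
  obtain ⟨hmem, hinj, -⟩ := mval_bij hV S.facts S.basis S.ha S.hb
  simp only [rowBase, Bool.and_eq_true, Nat.blt_eq, Bool.not_eq_true', Nat.beq_eq] at hrow
  obtain ⟨hr, hrR, he, heR, heC, hci, heq⟩ := hrow
  set k := mmul tb0 base row.1 with hk
  set e1 := row.2.1
  set ci := row.2.2
  have hk' : k < 10752 := mmul_lt hbase hr
  have hci' : ci < 10752 := lt_trans (inC_lt hci) (by norm_num)
  have hr0 : (0 : ℕ) ∈ [0, 34, 57, 27] := by decide
  have hmul : ∀ p < 10752, ∀ q < 10752, mval e a b (mmul tb0 p q) = mval e a b p * mval e a b q :=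
    fun p hp q hq => S.facts.mval_mul hr0 hp hq
  have he1R : mval e a b e1 ∈ R := (S.inR_iff e1 he).2 heR
  let E : ℕ → G := fun i => f ^ i * mval e a b e1 * (f ^ i)⁻¹
  have hf5 : f ^ 5 = 1 := (congrArg (f ^ ·) hh.order.symm).trans (pow_orderOf_eq_one f)
  have hE5 : ∀ i, E (i + 5) = E i := fun i => by
    show f ^ (i + 5) * _ * (f ^ (i + 5))⁻¹ = _
    rw [pow_add, hf5, mul_one]
  have hER : ∀ i, E i ∈ R := fun i => hF.norm _ (pow_mem hh.fH i) _ he1R
  have hcis : Commute f (mval e a b ci) := hh.centC ci hci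
  have hstep : ∀ i, mval e a b k * E i * (mval e a b k)⁻¹ * mval e a b ci = E (2 * i) := by
    intro i
    have hkf : mval e a b k * f ^ i * (mval e a b k)⁻¹ = f ^ (2 * i) := by rw [← conj_pow, hh.fk, ← pow_mul]
    have h1 : mval e a b k * mval e a b e1 * (mval e a b k)⁻¹ * mval e a b ci = mval e a b e1 := by
      rw [← (S.facts.mval_mcj hr0 hk' he).1, ← hmul _ (S.facts.mval_mcj hr0 hk' he).2 _ hci']
      exact congrArg _ heq
    calc mval e a b k * E i * (mval e a b k)⁻¹ * mval e a b ci
        = (mval e a b k * f ^ i * (mval e a b k)⁻¹) * (mval e a b k * mval e a b e1 * (mval e a b k)⁻¹) *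
            ((mval e a b k * f ^ i * (mval e a b k)⁻¹)⁻¹ * mval e a b ci) := by simp only [E]; group
      _ = f ^ (2 * i) * (mval e a b k * mval e a b e1 * (mval e a b k)⁻¹) *
            (mval e a b ci * (f ^ (2 * i))⁻¹) := by
        rw [hkf, ((hcis.pow_left (2 * i)).inv_left).eq]
      _ = f ^ (2 * i) * (mval e a b k * mval e a b e1 * (mval e a b k)⁻¹ * mval e a b ci) *
            (f ^ (2 * i))⁻¹ := by group
      _ = E (2 * i) := by rw [h1]
  obtain ⟨g, hg, v, hv', hval, hin⟩ := S.r_code hV (hER 1)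
  refine ⟨g, hg, v, hv', hin, by rw [hval]; simp [E], ?_⟩
  set e2 := v + 64 * g with he2
  have hv64 := List.mem_range.1 hv'
  have hg' : g < 168 := by simp only [List.mem_cons, List.not_mem_nil, or_false] at hg; omega
  have he2' : e2 < 10752 := by omega
  have hnext : ∀ p < 10752, ∀ i, mval e a b p = E i →
      mmul tb0 (mcj tb0 k p) ci < 10752 ∧ mval e a b (mmul tb0 (mcj tb0 k p) ci) = E (2 * i) := by
    intro p hp i hpi
    obtain ⟨e', l'⟩ := S.facts.mval_mcj hr0 hk' hp
    exact ⟨mmul_lt l' hci', by rw [← hstep i, ← hpi, ← e', ← hmul _ l' _ hci']⟩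
  obtain ⟨l3, v3⟩ := hnext e2 he2' 1 hval
  obtain ⟨l5, v5⟩ := hnext _ l3 2 v3
  obtain ⟨l4, v4⟩ := hnext _ l5 4 v5
  rw [show E (2 * 4) = E 3 from hE5 3] at v4
  obtain ⟨l6, v6⟩ := hnext _ l4 3 v4
  rw [show E (2 * 3) = E 1 from hE5 1] at v6
  have hv1 : mval e a b e1 = E 0 := by simp [E]
  have h5 : E 5 = E 0 := hE5 0
  have hshift : ∀ i j d, (E i * E j = E j * E i ↔ E (i + d) * E (j + d) = E (j + d) * E (i + d)) := by
    intro i j d
    have hd : ∀ n, E (n + d) = f ^ d * E n * (f ^ d)⁻¹ := fun n => by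
      simp only [E]
      rw [Nat.add_comm n d, pow_add, mul_inv_rev]
      simp only [mul_assoc]
    rw [hd, hd, conj_mul, conj_mul]
    exact ⟨fun h => by rw [h], fun h => mul_left_cancel (mul_right_cancel h)⟩
  have hmc : ∀ p < 10752, ∀ q < 10752, ∀ i j, mval e a b p = E i → mval e a b q = E j →
      (mcomm p q = true ↔ E i * E j = E j * E i) := by
    intro p hp q hq i j hi hj
    rw [← hi, ← hj, ← hmul p hp q hq, ← hmul q hq p hp]
    simp only [mcomm, Nat.beq_eq]
    exact ⟨fun h => congrArg _ h, fun h => hinj _ (mmul_lt hp hq) _ (mmul_lt hq hp) h⟩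
  have hbeq : ∀ {x y : Bool}, (x = true ↔ y = true) → beqB x y = true := by
    intro x y h; cases x <;> cases y <;> simp_all [beqB]
  have hpair : ∀ p < 10752, ∀ q < 10752, ∀ p' < 10752, ∀ q' < 10752, ∀ i j d,
      mval e a b p = E i → mval e a b q = E j → mval e a b p' = E (i + d) → mval e a b q' = E (j + d) →
      beqB (mcomm p' q') (mcomm p q) = true := by
    intro p hp q hq p' hp' q' hq' i j d a1 a2 a3 a4
    exact hbeq (by rw [hmc p hp q hq i j a1 a2, hmc p' hp' q' hq' _ _ a3 a4]; exact (hshift i j d).symm)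
  have hsq : ∀ p < 10752, ∀ i, mval e a b p = E i → mmul tb0 p p = mmul tb0 e1 e1 := by
    intro p hp i hpi
    refine hinj _ (mmul_lt hp hp) _ (mmul_lt he he) ?_
    rw [hmul p hp p hp, hmul e1 he e1 he, hpi]
    simp only [E]
    rw [conj_mul]
    obtain ⟨z, hz, hze⟩ := S.central_code hF hV hcen hv (mul_mem he1R he1R) fun y hy => by
      have htc : t * y = y * t := (mem_centralizer_singleton_iff.1 (hF.hH ▸ hF.le hy)).symm
      rcases hF.sq _ he1R with h | h <;> rw [h]
      · simp
      · exact htc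
    rw [← hze, ((show Commute f (mval e a b z) from hh.centC z hz).pow_left i).eq, mul_inv_cancel_right]
  have e2R := hER 1
  have hnotC : inC (mmul tb0 (minv tb0 e1) e2) = false := by
    rcases hb : inC (mmul tb0 (minv tb0 e1) e2) with _ | _
    · rfl
    exfalso
    obtain ⟨hiv, hlt⟩ : mval e a b (minv tb0 e1) = (mval e a b e1)⁻¹ ∧ minv tb0 e1 < 10752 :=
      S.facts.mval_minv hr0 he
    set z := mval e a b (mmul tb0 (minv tb0 e1) e2) with hz
    have hE1 : E 1 = E 0 * z := by
      rw [hz, hmul _ hlt _ he2', hiv, ← hv1, mul_inv_cancel_left, hval]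
    have hzc : Commute f z := hh.centC _ hb
    have hEn : ∀ n, E n = E 0 * z ^ n := by
      intro n
      induction n with
      | zero => simp
      | succ n ih =>
        have : E (n + 1) = f * E n * f⁻¹ := by
          simp only [E]; rw [pow_succ' f n, mul_inv_rev]; simp only [mul_assoc]
        rw [this, ih, pow_succ' z n,
          show f * (E 0 * z ^ n) * f⁻¹ = f * E 0 * f⁻¹ * (f * z ^ n * f⁻¹) by group,
          (hzc.pow_right n).eq, mul_inv_cancel_right, show f * E 0 * f⁻¹ = E 1 by simp [E], hE1]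
        simp only [mul_assoc]
    have hz5 := hEn 5
    rw [h5] at hz5
    have hz5' : z ^ 5 = 1 := by simpa using hz5
    have hz4 : z ^ 4 = 1 := by
      rw [hz, mval_low (inC_lt hb)]
      exact hV.a_four _ (S.basis.mem _ (inC_lt hb))
    have hz1 : z = 1 := by rwa [pow_succ, hz4, one_mul] at hz5'
    rw [hz1, mul_one] at hE1
    have hfix : f * mval e a b e1 = mval e a b e1 * f := by
      refine mul_inv_eq_iff_eq_mul.1 ?_
      simpa [E] using hE1
    obtain ⟨zc, hzc', hzce⟩ := S.central_code hF hV hcen hv hF.c_mem hF.c_comm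
    obtain ⟨z', hz', he'⟩ := S.central_code hF hV hcen hv he1R
      (fixed_central hF hV hh.fH hh.order (hzce ▸ hh.centC zc hzc') he1R hfix)
    rw [hinj _ (lt_trans (inC_lt hz') (by norm_num)) _ he he'] at hz'
    rw [hz'] at heC
    exact Bool.false_ne_true heC.symm
  have hnotBoth : ¬ (mcomm e1 e2 = true ∧ mcomm e1 (mmul tb0 (mcj tb0 k e2) ci) = true) := by
    rintro ⟨ha', hb'⟩
    rw [hmc _ he _ he2' 0 1 hv1 hval] at ha'
    rw [hmc _ he _ l3 0 2 hv1 v3] at hb'
    have hall : ∀ i j, E i * E j = E j * E i := by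
      have hper : ∀ n, E n = E (n % 5) := by
        intro n
        conv_lhs => rw [← Nat.mod_add_div n 5]
        generalize n / 5 = m
        induction m with
        | zero => simp
        | succ m ih => rw [show n % 5 + 5 * (m + 1) = n % 5 + 5 * m + 5 by ring, hE5, ih]
      intro i j
      rw [hper i, hper j]
      have hi : i % 5 < 5 := Nat.mod_lt _ (by norm_num)
      have hj : j % 5 < 5 := Nat.mod_lt _ (by norm_num)
      generalize i % 5 = x at hi
      generalize j % 5 = y at hj
      have c1 : ∀ d, E d * E (1 + d) = E (1 + d) * E d := fun d => by simpa using (hshift 0 1 d).1 ha'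
      have c2 : ∀ d, E d * E (2 + d) = E (2 + d) * E d := fun d => by simpa using (hshift 0 2 d).1 hb'
      have c3 : ∀ d, E d * E (3 + d) = E (3 + d) * E d := fun d => by
        have h := c2 (3 + d)
        rw [show 2 + (3 + d) = d + 5 by ring, hE5] at h
        exact h.symm
      have c4 : ∀ d, E d * E (4 + d) = E (4 + d) * E d := fun d => by
        have h := c1 (4 + d)
        rw [show 1 + (4 + d) = d + 5 by ring, hE5] at h
        exact h.symm
      have key : ∀ x y, x ≤ y → y < 5 → E x * E y = E y * E x := by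
        intro x y hxy hy
        obtain ⟨d, rfl⟩ := Nat.exists_eq_add_of_le' hxy
        have hd : d < 5 := by omega
        interval_cases d
        · rw [Nat.zero_add]
        · exact c1 x
        · exact c2 x
        · exact c3 x
        · exact c4 x
      rcases Nat.le_total x y with h | h
      · exact key x y h hj
      · exact (key y x h hi).symm
    -- an abelian subgroup with at least twenty-four elements
    let X : Subgroup G := closure (insert c (Set.range E))
    have hgR : insert c (Set.range E) ⊆ (R : Set G) :=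
      Set.insert_subset hF.c_mem (Set.range_subset_iff.2 hER)
    have hXab : ∀ x ∈ X, ∀ y ∈ X, x * y = y * x := by
      have hgen : ∀ x ∈ insert c (Set.range E), ∀ y ∈ insert c (Set.range E), x * y = y * x := by
        rintro x (rfl | ⟨i, rfl⟩) y (rfl | ⟨j, rfl⟩)
        · rfl
        · exact hF.c_comm _ (hER j)
        · exact (hF.c_comm _ (hER i)).symm
        · exact hall i j
      intro x hx y hy
      have : x ∈ centralizer ({y} : Set G) := by
        refine (closure_le _).2 (fun z hz => mem_centralizer_singleton_iff.2 ?_) hx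
        have : y ∈ centralizer ({z} : Set G) :=
          (closure_le _).2 (fun w hw => mem_centralizer_singleton_iff.2 (hgen w hw z hz)) hy
        exact (mem_centralizer_singleton_iff.1 this).symm
      exact mem_centralizer_singleton_iff.1 this
    have hcX : c ∈ X := subset_closure (Set.mem_insert _ _)
    have hc4 : c ^ 4 = 1 := by
      rw [show (4 : ℕ) = 2 * 2 by norm_num, pow_mul, pow_two c, hF.c_sq, ← hF.ht, pow_orderOf_eq_one]
    have hco : orderOf c = 4 := by
      haveI := Fact.mk Nat.prime_two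
      refine (orderOf_eq_prime_pow (p := 2) (n := 1) ?_ (by norm_num; exact hc4)).trans (by norm_num)
      rw [pow_one, pow_two, hF.c_sq]
      intro h
      have := hF.ht
      rw [h, orderOf_one] at this
      norm_num at this
    obtain ⟨zc, hzc, hzce⟩ := S.central_code hF hV hcen hv hF.c_mem hF.c_comm
    have hfc : Commute f c := hzce ▸ hh.centC zc hzc
    have hnc : ¬ ∀ y ∈ R, mval e a b e1 * y = y * mval e a b e1 := by
      intro h
      obtain ⟨z', hz', he'⟩ := S.central_code hF hV hcen hv he1R h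
      rw [hinj _ (lt_trans (inC_lt hz') (by norm_num)) _ he he'] at hz'
      rw [hz'] at heC
      exact Bool.false_ne_true heC.symm
    have hEc : ∀ i (m : ℕ), E i ≠ c ^ m := by
      intro i m h
      refine hnc fun y hy => ?_
      have : mval e a b e1 = c ^ m := by
        have h1 : (f ^ i) * mval e a b e1 * (f ^ i)⁻¹ = c ^ m := h
        rw [mul_inv_eq_iff_eq_mul, ← ((hfc.pow_left i).pow_right m).eq] at h1
        exact mul_left_cancel h1
      rw [this]
      exact ((show Commute c y from hF.c_comm y hy).pow_left m).eq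
    have hdist : ∀ d (m : ℕ), 0 < d → d < 5 → E d ≠ E 0 * c ^ m := by
      intro d m hd hd5 h
      have hfd : ∀ n, E (n * d) = E 0 * (c ^ m) ^ n := by
        intro n
        induction n with
        | zero => simp
        | succ n ih =>
          have : E ((n + 1) * d) = f ^ d * E (n * d) * (f ^ d)⁻¹ := by
            simp only [E]
            rw [show (n + 1) * d = d + n * d by ring, pow_add, mul_inv_rev]
            simp only [mul_assoc]
          rw [this, ih, pow_succ' (c ^ m) n,
            show f ^ d * (E 0 * (c ^ m) ^ n) * (f ^ d)⁻¹ =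
              f ^ d * E 0 * (f ^ d)⁻¹ * (f ^ d * (c ^ m) ^ n * (f ^ d)⁻¹) by group,
            (((hfc.pow_left d).pow_right m).pow_right n).eq, mul_inv_cancel_right,
            show f ^ d * E 0 * (f ^ d)⁻¹ = E d by simp [E], h]
          simp only [mul_assoc]
      have h5d := hfd 5
      have hE5d : E (5 * d) = E 0 := by simp only [E]; rw [pow_mul, hf5, one_pow]; simp
      rw [hE5d, left_eq_mul] at h5d
      have hcm4 : (c ^ m) ^ 4 = 1 := by rw [← pow_mul, mul_comm, pow_mul, hc4, one_pow]
      rw [pow_succ, hcm4, one_mul] at h5d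
      rw [h5d, mul_one] at h
      have hcomm : Commute (f ^ d) (mval e a b e1) := by
        refine mul_inv_eq_iff_eq_mul.1 ?_
        simpa [E] using h
      have hcop : (orderOf f).Coprime d := by
        rw [hh.order]
        exact (Nat.Prime.coprime_iff_not_dvd (by norm_num)).2 fun hdvd =>
          absurd (Nat.le_of_dvd hd hdvd) (by omega)
      obtain ⟨n, hn⟩ := exists_pow_eq_self_of_coprime hcop.symm
      have hfx : Commute f (mval e a b e1) := hn ▸ hcomm.pow_left n
      exact hnc (fixed_central hF hV hh.fH hh.order hfc.eq he1R hfx.eq)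
    let φ : Option (Fin 5) × Fin 4 → X := fun p => match p with
      | (none, m) => ⟨c ^ m.1, pow_mem hcX _⟩
      | (some i, m) => ⟨E i.1 * c ^ m.1, mul_mem (subset_closure (Set.mem_insert_of_mem _ ⟨_, rfl⟩))
          (pow_mem hcX _)⟩
    have hφ : Function.Injective φ := by
      have hcinj : ∀ m n : Fin 4, c ^ m.1 = c ^ n.1 → m = n := fun m n h =>
        Fin.ext (pow_injOn_Iio_orderOf (by rw [hco]; exact m.2) (by rw [hco]; exact n.2) h)
      have hsub : ∀ (m n : Fin 4), ∃ l, (c ^ m.1)⁻¹ * c ^ n.1 = c ^ l := fun m n => by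
        refine ⟨(4 - m.1) + n.1, ?_⟩
        rw [pow_add, inv_mul_eq_iff_eq_mul, ← mul_assoc, ← pow_add,
          show m.1 + (4 - m.1) = 4 by omega, hc4, one_mul]
      rintro ⟨_ | i, m⟩ ⟨_ | j, n⟩ h <;> have h' := congrArg Subtype.val h
      · rw [hcinj m n h']
      · exfalso
        obtain ⟨l, hl⟩ := hsub n m
        refine hEc j.1 l ?_
        change c ^ m.1 = E j.1 * c ^ n.1 at h'
        rw [← hl, h', (show Commute (E j.1) (c ^ n.1) from
          ((show Commute c (E j.1) from hF.c_comm _ (hER _)).pow_left _).symm).eq, inv_mul_cancel_left]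
      · exfalso
        obtain ⟨l, hl⟩ := hsub m n
        refine hEc i.1 l ?_
        change E i.1 * c ^ m.1 = c ^ n.1 at h'
        rw [← hl, ← h', (show Commute (E i.1) (c ^ m.1) from
          ((show Commute c (E i.1) from hF.c_comm _ (hER _)).pow_left _).symm).eq, inv_mul_cancel_left]
      · change E i.1 * c ^ m.1 = E j.1 * c ^ n.1 at h'
        rcases eq_or_ne i j with rfl | hij
        · rw [hcinj m n (mul_left_cancel h')]
        exfalso
        obtain ⟨l, hl⟩ := hsub n m
        -- move one of the two indices to zero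
        have h1 : E j.1 = E i.1 * c ^ l := by
          rw [← hl, (show Commute (c ^ n.1)⁻¹ (c ^ m.1) from
            ((Commute.refl c).pow_pow _ _).inv_left).eq, ← mul_assoc, h', mul_inv_cancel_right]
        have hne : i.1 ≠ j.1 := fun h => hij (Fin.ext h)
        refine hdist ((j.1 + (5 - i.1)) % 5) l (by have := i.2; have := j.2; omega)
          (Nat.mod_lt _ (by norm_num)) ?_
        have hd : ∀ n, E (n + (5 - i.1)) = f ^ (5 - i.1) * E n * (f ^ (5 - i.1))⁻¹ := fun n => by
          simp only [E]; rw [Nat.add_comm n (5 - i.1), pow_add, mul_inv_rev]; simp only [mul_assoc]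
        have h2 : E (j.1 + (5 - i.1)) = E (i.1 + (5 - i.1)) * c ^ l := by
          rw [hd, hd, h1, show f ^ (5 - i.1) * (E i.1 * c ^ l) * (f ^ (5 - i.1))⁻¹ =
            f ^ (5 - i.1) * E i.1 * (f ^ (5 - i.1))⁻¹ * (f ^ (5 - i.1) * c ^ l * (f ^ (5 - i.1))⁻¹) by group,
            ((hfc.pow_left _).pow_right l).eq, mul_inv_cancel_right]
        rw [show i.1 + (5 - i.1) = 5 by omega, h5] at h2
        rw [← h2]
        rcases Nat.lt_or_ge (j.1 + (5 - i.1)) 5 with h | h
        · rw [Nat.mod_eq_of_lt h]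
        · rw [Nat.mod_eq_sub_mod h, Nat.mod_eq_of_lt (by have := j.2; omega)]
          conv_rhs => rw [show j.1 + (5 - i.1) = j.1 + (5 - i.1) - 5 + 5 by omega, hE5]
    have h24 := Nat.card_le_card_of_injective φ hφ
    have h16 := hF.abel X ((closure_le _).2 hgR) hXab
    simp at h24
    omega
  show phiCond k e1 ci e2 = true
  simp only [phiCond, img3, img5, img4, List.all_cons, List.all_nil, Bool.and_true, Bool.and_eq_true,
    Nat.beq_eq]
  refine ⟨?_, ⟨hsq _ he2' 1 hval, hsq _ l3 2 v3, hsq _ l4 3 v4, hsq _ l5 4 v5⟩,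
    hpair _ he _ he2' _ he2' _ l3 0 1 1 hv1 hval hval v3,
    hpair _ he _ he2' _ l3 _ l4 0 1 2 hv1 hval v3 v4,
    hpair _ he _ he2' _ l4 _ l5 0 1 3 hv1 hval v4 v5,
    hpair _ he _ he2' _ l5 _ he 0 1 4 hv1 hval v5 (hv1.trans h5.symm),
    hpair _ he _ l3 _ he2' _ l4 0 2 1 hv1 v3 hval v4,
    hpair _ he _ l3 _ l3 _ l5 0 2 2 hv1 v3 v3 v5,
    hpair _ he _ l3 _ l4 _ he 0 2 3 hv1 v3 v4 (hv1.trans h5.symm),
    hpair _ he _ l3 _ l5 _ he2' 0 2 4 hv1 v3 v5 (hval.trans (hE5 1).symm),
    by rw [hnotC]; rfl, ?_⟩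
  · exact hinj _ l6 _ he2' (v6.trans hval.symm)
  · rw [Bool.not_eq_true', Bool.and_eq_false_iff]
    by_contra h
    push Not at h
    exact hnotBoth ⟨Bool.not_eq_false _ ▸ h.1, Bool.not_eq_false _ ▸ h.2⟩

end CfsgLib.HSRec
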