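import Cfsg.Agent.HSRec.RChoice

/-!
Checks for the possible actions of an element of order five on `R`.
-/

set_option autoImplicit false
set_option maxRecDepth 100000

namespace CfsgLib.HSRec

/-- The centre of `R`. -/
def inC (p : ℕ) : Bool := Nat.beq p 0 || (Nat.beq p 2 || (Nat.beq p 41 || Nat.beq p 43))

/-- The split table. -/
abbrev tb0 : ℕ := edTbl 0

/-- A code outside the centre being tested as a four-cycle. -/
def kCand (v1 v2 k : ℕ) : Bool :=
  !(inR tb0 v1 v2 (mmul tb0 k k)) && !(inR tb0 v1 v2 (mmul tb0 k (mmul tb0 k k)))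

/-- Every candidate is conjugate into the coset of the base. -/
def conjOK (v1 v2 base : ℕ) (ul : List ℕ) : Bool :=
  (ul.all fun u => stabList.contains (Nat.div u 64) && Nat.blt u 10752) &&
    stabList.all fun g => (List.range 64).all fun v =>
      !(kCand v1 v2 (Nat.add v (Nat.mul 64 g))) ||
        ul.any fun u => inR tb0 v1 v2 (mmul tb0 (minv tb0 base) (mcj tb0 u (Nat.add v (Nat.mul 64 g))))

/-- The representatives cover `R` modulo the centre. -/
def repsOK (v1 v2 : ℕ) (reps : List ℕ) : Bool :=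
  [0, 23, 102, 117].all fun g => (List.range 64).all fun v =>
    !(inR tb0 v1 v2 (Nat.add v (Nat.mul 64 g))) ||
      (reps.any fun r => inC (mmul tb0 (minv tb0 r) (Nat.add v (Nat.mul 64 g))))

/-- The centre is as stated. -/
def cenOK (v1 v2 : ℕ) : Bool :=
  let gs := [1, 8, 32, Nat.add v1 (Nat.mul 64 23), Nat.add v2 (Nat.mul 64 102)]
  gs.all (fun x => inR tb0 v1 v2 x) &&
  [0, 23, 102, 117].all fun g => (List.range 64).all fun v =>
    !(inR tb0 v1 v2 (Nat.add v (Nat.mul 64 g))) ||
      (inC (Nat.add v (Nat.mul 64 g)) ||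
        !(gs.all fun x => Nat.beq (mmul tb0 (Nat.add v (Nat.mul 64 g)) x) (mmul tb0 x (Nat.add v (Nat.mul 64 g)))))

/-- The third image. -/
def img3 (k ci e2 : ℕ) : ℕ := mmul tb0 (mcj tb0 k e2) ci
/-- The fifth image. -/
def img5 (k ci e2 : ℕ) : ℕ := mmul tb0 (mcj tb0 k (img3 k ci e2)) ci
/-- The fourth image. -/
def img4 (k ci e2 : ℕ) : ℕ := mmul tb0 (mcj tb0 k (img5 k ci e2)) ci

/-- Do two codes commute? -/
def mcomm (x y : ℕ) : Bool := Nat.beq (mmul tb0 x y) (mmul tb0 y x)

/-- Equality of Booleans. -/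
def beqB (a b : Bool) : Bool := bif a then b else !b

/-- Necessary conditions on the image of the generator. -/
def phiCond (k e1 ci e2 : ℕ) : Bool :=
  let e3 := img3 k ci e2
  let e5 := img5 k ci e2
  let e4 := img4 k ci e2
  let s := mmul tb0 e1 e1
  let a := mcomm e1 e2
  let b := mcomm e1 e3
  Nat.beq (mmul tb0 (mcj tb0 k e4) ci) e2 &&
    (([e2, e3, e4, e5].all fun e => Nat.beq (mmul tb0 e e) s) &&
      (beqB (mcomm e2 e3) a && (beqB (mcomm e3 e4) a && (beqB (mcomm e4 e5) a && (beqB (mcomm e5 e1) a &&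
        (beqB (mcomm e2 e4) b && (beqB (mcomm e3 e5) b && (beqB (mcomm e4 e1) b && (beqB (mcomm e5 e2) b &&
          (!(inC (mmul tb0 (minv tb0 e1) e2)) && !(a && b)))))))))))

/-- The data of a row are as stated. -/
def rowBase (v1 v2 base : ℕ) (row : ℕ × ℕ × ℕ) : Bool :=
  let k := mmul tb0 base row.1
  Nat.blt row.1 10752 && (inR tb0 v1 v2 row.1 && (Nat.blt row.2.1 10752 && (inR tb0 v1 v2 row.2.1 &&
    (!(inC row.2.1) && (inC row.2.2 &&
      Nat.beq (mmul tb0 (mcj tb0 k row.2.1) row.2.2) row.2.1)))))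

/-- No image survives. -/
def rowNone (v1 v2 base : ℕ) (row : ℕ × ℕ × ℕ) : Bool :=
  [0, 23, 102, 117].all fun g => (List.range 64).all fun v =>
    !(inR tb0 v1 v2 (Nat.add v (Nat.mul 64 g))) ||
      !(phiCond (mmul tb0 base row.1) row.2.1 row.2.2 (Nat.add v (Nat.mul 64 g)))

/-- A row is empty or its four-cycle is conjugate to the base up to the centre. -/
def rowOK1 (row : ℕ × ℕ × ℕ) : Bool :=
  (normWit.any fun w => Nat.beq w.1 row.1 && (stabList.contains (Nat.div w.2.2 64) && (Nat.blt w.2.2 10752 &&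
    inC (mmul tb0 (minv tb0 kBase1) (mcj tb0 w.2.2 (mmul tb0 kBase1 row.1)))))) ||
    rowNone 0 0 kBase1 row

theorem conjOK_1 : conjOK 0 0 kBase1 conjList1 = true := by decide +kernel

theorem conjOK_2 : conjOK 16 20 kBase2 conjList2 = true := by decide +kernel

theorem repsOK_both : repsOK 0 0 (phiRows1.map (·.1)) = true ∧ repsOK 16 20 (phiRows2.map (·.1)) = true := by
  decide +kernel

theorem cenOK_both : cenOK 0 0 = true ∧ cenOK 16 20 = true := by decide +kernel

theorem rowBase_both : phiRows1.all (rowBase 0 0 kBase1) = true ∧ phiRows2.all (rowBase 16 20 kBase2) = true := by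
  decide +kernel

theorem rowOK_1 : phiRows1.all rowOK1 = true := by decide +kernel

theorem rowNone_2 : phiRows2.all (rowNone 16 20 kBase2) = true := by decide +kernel

/-- The codes of `b` after a twist. -/
def cbT (tw : ℕ) : ℕ := bif Nat.beq tw 0 then cb else mmul tb0 20 cb

/-- The change of codes induced by a twist. -/
def twist (tw p : ℕ) : ℕ :=
  mmul tb0 (Nat.mod p 64)
    ((gword (Nat.div p 64)).foldl (fun x l => mmul tb0 x (bif Nat.beq l 0 then ca else cbT tw)) 0)

/-- The twists respect the relations and fix `R`. -/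
def twistOK (tw : ℕ) : Bool :=
  let m := mmul tb0
  let b := cbT tw
  Nat.blt b 10752 && (Nat.beq (mpowc tb0 b 3) 0 && (Nat.beq (mpowc tb0 (m ca b) 7) 0 &&
    (Nat.beq (mpowc tb0 (m (m (m (m ca b) ca) b) b) 4) 0 &&
      ([1, 4, 16].all fun v => Nat.beq (mcj tb0 b v) (actc bMat v)))))

/-- The twist fixes membership in `R`. -/
def twistR (tw : ℕ) : Bool :=
  (List.range 168).all fun g => (List.range 64).all fun v =>
    beqB (inR tb0 0 0 (twist tw (Nat.add v (Nat.mul 64 g)))) (inR tb0 0 0 (Nat.add v (Nat.mul 64 g)))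

/-- Witnesses for the surviving images in the base row. -/
def imgOK (e2 : ℕ) : Bool :=
  imgWit.any fun w => match w with
    | (e, tw, u, z) => Nat.beq e e2 && (Nat.ble tw 1 && (stabList.contains (Nat.div u 64) && (Nat.blt u 10752 &&
        (inC z && (Nat.beq (mcj tb0 (minv tb0 u) (twist tw 8)) (mmul tb0 8 z) &&
          (Nat.beq (mcj tb0 (minv tb0 u) (twist tw 1475)) (mmul tb0 e2 z) &&
            (inC (mmul tb0 (minv tb0 (twist tw kBase1)) (mcj tb0 u kBase1)) &&
              [0, 2, 41, 43].all fun x => inC (mcj tb0 (minv tb0 u) (twist tw x)))))))))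

theorem imgOK_all : ([0, 23, 102, 117].all fun g => (List.range 64).all fun v =>
    !(inR tb0 0 0 (Nat.add v (Nat.mul 64 g))) ||
      (!(phiCond kBase1 8 2 (Nat.add v (Nat.mul 64 g))) || imgOK (Nat.add v (Nat.mul 64 g)))) = true := by
  decide +kernel

theorem twistOK_all : twistOK 0 = true ∧ twistOK 1 = true := by decide +kernel

theorem twistR_all : twistR 0 = true ∧ twistR 1 = true := by decide +kernel

theorem base_facts : kBase1 = 2000 ∧ rowBase 0 0 kBase1 (0, 8, 2) = true ∧ mmul tb0 kBase1 0 = kBase1 ∧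
    inR tb0 0 0 1475 = true := by decide +kernel

end CfsgLib.HSRec
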