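import Cfsg.Agent.HSRec.Five

/-!
The standard coordinates and the standard element of order five.
-/

set_option autoImplicit false
set_option maxRecDepth 100000

namespace CfsgLib.HSRec

open Subgroup CfsgLib.CosetEnum

variable {G : Type*} [Group G] [Finite G] {t c : G} {R H V M A : Subgroup G} {e : ℕ → G} {a b : G}
  {v1 v2 : ℕ}

/-- Reduce to a row with the given base four-cycle. -/
theorem exists_row (hF : RFacts t c R H) (hV : VFacts t R V M A) (S : Std t R V M A e a b v1 v2)
    {base : ℕ} {ul : List ℕ} {rows : List (ℕ × ℕ × ℕ)} (hbase : base < 10752)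
    (hconj : conjOK v1 v2 base ul = true) (hreps : repsOK v1 v2 (rows.map (·.1)) = true)
    (hrows : ∀ row ∈ rows, row.1 < 10752) (hcen : cenOK v1 v2 = true) (hv : v1 < 64 ∧ v2 < 64) :
    ∃ f : G, ∃ row ∈ rows, RowHyp S H base row f := by
  obtain ⟨hmem, hinj, hsurj⟩ := mval_bij hV S.facts S.basis S.ha S.hb
  have hr0 : (0 : ℕ) ∈ [0, 34, 57, 27] := by decide
  obtain ⟨f₀, k₀, hf₀, hk₀, hf₀5, hrel₀, n, hn⟩ := exists_normalizing hF
  obtain ⟨g, hg, hgk⟩ := conj_two_element hF inf_le_right (S.cardK hF hV) hk₀ hn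
  set f₁ := g * f₀ * g⁻¹ with hf₁
  set k₁ := g * k₀ * g⁻¹ with hk₁
  have hf₁H : f₁ ∈ H := mul_mem (mul_mem hg hf₀) (inv_mem hg)
  have hf₁5 : orderOf f₁ = 5 := by rw [hf₁, ← MulAut.conj_apply, MulEquiv.orderOf_eq, hf₀5]
  have hrel₁ : k₁ * f₁ * k₁⁻¹ = f₁ ^ 2 := by rw [hf₁, hk₁, conj_pow, ← hrel₀]; group
  obtain ⟨p, hp, hpk⟩ := hsurj k₁ hgk.1
  have hpH : stabList.contains (p / 64) = true := (S.mem_H hF hp).1 (hpk ▸ hgk.2)
  obtain ⟨π, -, hker⟩ := hF.quot
  have hk₁H : k₁ ∈ H := hgk.2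
  set σ := π ⟨f₁, hf₁H⟩ with hσ
  set ρ := π ⟨k₁, hk₁H⟩ with hρ
  have hσρ : ρ * σ * ρ⁻¹ = σ ^ 2 := by
    rw [hσ, hρ, ← map_mul, ← map_inv, ← map_mul, ← map_pow]
    exact congrArg π (Subtype.ext hrel₁)
  have hσ5 : σ ^ 5 = 1 := by
    rw [hσ, ← map_pow, show (⟨f₁, hf₁H⟩ : H) ^ 5 = 1 from
      Subtype.ext ((congrArg (f₁ ^ ·) hf₁5.symm).trans (pow_orderOf_eq_one f₁)), map_one]
  have hσ1 : σ ≠ 1 := fun h => five_not_mem hF hf₁5 ((hker _).1 h)
  have hit : ∀ n : ℕ, ρ ^ n * σ * (ρ ^ n)⁻¹ = σ ^ (2 ^ n) := by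
    intro n
    induction n with
    | zero => simp
    | succ n ih =>
      rw [pow_succ' ρ, pow_succ (2 : ℕ), mul_comm (2 ^ n), pow_mul, ← hσρ, conj_pow, ← ih]
      group
  have hnot : ∀ j, j = 2 ∨ j = 3 → k₁ ^ j ∉ R := by
    intro j hj hR
    have h1 : ρ ^ j = 1 := by
      rw [hρ, ← map_pow]
      exact (hker _).2 hR
    have h2 := hit j
    rw [h1, one_mul, inv_one, mul_one] at h2
    refine hσ1 ?_
    rcases hj with rfl | rfl
    · have h3 : σ ^ 3 = 1 := by
        rw [show (2 : ℕ) ^ 2 = 1 + 3 from rfl, pow_add, pow_one, left_eq_mul] at h2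
        exact h2
      calc σ = (σ ^ 3) ^ 2 * (σ ^ 5)⁻¹ := by group
        _ = 1 := by rw [h3, hσ5]; simp
    · have h7 : σ ^ 7 = 1 := by
        rw [show (2 : ℕ) ^ 3 = 1 + 7 from rfl, pow_add, pow_one, left_eq_mul] at h2
        exact h2
      calc σ = (σ ^ 7) ^ 3 * ((σ ^ 5) ^ 4)⁻¹ := by group
        _ = 1 := by rw [h7, hσ5]; simp
  have hcand : kCand v1 v2 p = true := by
    have hpp := mmul_lt (tb := edTbl 0) hp hp
    simp only [kCand, Bool.and_eq_true, Bool.not_eq_true']
    constructor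
    · rcases hb : inR tb0 v1 v2 (mmul tb0 p p) with _ | _
      · rfl
      · have := (S.inR_iff _ hpp).2 hb
        rw [S.facts.mval_mul hr0 hp hp, hpk, ← pow_two] at this
        exact absurd this (hnot 2 (Or.inl rfl))
    · rcases hb : inR tb0 v1 v2 (mmul tb0 p (mmul tb0 p p)) with _ | _
      · rfl
      · have := (S.inR_iff _ (mmul_lt hp hpp)).2 hb
        rw [S.facts.mval_mul hr0 hp hpp, S.facts.mval_mul hr0 hp hp, hpk, ← pow_two, ← pow_succ'] at this
        exact absurd this (hnot 3 (Or.inr rfl))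
  simp only [conjOK, Bool.and_eq_true, List.all_eq_true, Nat.blt_eq] at hconj
  obtain ⟨hul, hall⟩ := hconj
  have hstab : p / 64 ∈ stabList := List.contains_iff_mem.1 hpH
  have h := hall _ hstab (p % 64) (List.mem_range.2 (Nat.mod_lt _ (by norm_num)))
  simp only [Nat.add_eq, Nat.mul_eq] at h
  rw [show p % 64 + 64 * (p / 64) = p by omega, hcand] at h
  simp only [Bool.not_true, Bool.false_or, List.any_eq_true] at h
  obtain ⟨u, hu, huR⟩ := h
  obtain ⟨huS, hu'⟩ := hul u hu
  have huH : mval e a b u ∈ H := (S.mem_H hF hu').2 huS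
  obtain ⟨hcj, hcjlt⟩ := S.facts.mval_mcj hr0 hu' hp
  obtain ⟨hmi, hmilt⟩ := S.facts.mval_minv hr0 hbase
  set x := mmul tb0 (minv tb0 base) (mcj tb0 u p) with hx
  have hxlt : x < 10752 := mmul_lt hmilt hcjlt
  -- the representative
  simp only [repsOK, List.all_eq_true] at hreps
  obtain ⟨g', hg', v', hv', hgv, hin⟩ := S.r_code hV ((S.inR_iff x hxlt).2 huR)
  have hx' : v' + 64 * g' = x := by
    refine hinj _ ?_ _ hxlt hgv
    have := List.mem_range.1 hv'
    simp only [List.mem_cons, List.not_mem_nil, or_false] at hg'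
    omega
  have h := hreps g' hg' v' hv'
  simp only [Nat.add_eq, Nat.mul_eq] at h
  rw [hx', show inR tb0 v1 v2 x = true from huR] at h
  simp only [Bool.not_true, Bool.false_or, List.any_eq_true, List.mem_map] at h
  obtain ⟨_, ⟨row, hrow, rfl⟩, hz⟩ := h
  have hr := hrows row hrow
  set z := mmul tb0 (minv tb0 row.1) x with hzdef
  set U := mval e a b u
  have hk₂ : U * k₁ * U⁻¹ = mval e a b (mmul tb0 base row.1) * mval e a b z := by
    rw [S.facts.mval_mul hr0 hbase hr, hzdef, show tb0 = edTbl 0 from rfl,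
      S.facts.mval_mul hr0 (S.facts.mval_minv hr0 hr).2 hxlt, (S.facts.mval_minv hr0 hr).1, hx,
      show tb0 = edTbl 0 from rfl, S.facts.mval_mul hr0 hmilt hcjlt, hmi, hcj, hpk]
    group
  set f₂ := U * f₁ * U⁻¹ with hf₂
  have hf₂H : f₂ ∈ H := mul_mem (mul_mem huH hf₁H) (inv_mem huH)
  have hf₂5 : orderOf f₂ = 5 := by rw [hf₂, ← MulAut.conj_apply, MulEquiv.orderOf_eq, hf₁5]
  have hf₂p : f₂ ^ 5 = 1 := (congrArg (f₂ ^ ·) hf₂5.symm).trans (pow_orderOf_eq_one f₂)
  -- `f` centralizes the centre of `R`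
  have hCR : ∀ z, inC z = true → mval e a b z ∈ R ∧ ∀ y ∈ R, mval e a b z * y = y * mval e a b z := by
    obtain ⟨zc, hzc, hzce⟩ := S.central_code hF hV hcen hv hF.c_mem hF.c_comm
    have hC : ∀ z, inC z = true → mval e a b z ∈ zpowers c := by
      intro z hz
      have hzpow : ∀ i : ℕ, mpowc tb0 zc i < 10752 ∧ mval e a b (mpowc tb0 zc i) = c ^ i := fun i =>
        ⟨mpowc_lt (lt_trans (inC_lt hzc) (by norm_num)) i,
          by rw [← hzce]; exact S.facts.mval_pow hr0 (lt_trans (inC_lt hzc) (by norm_num)) i⟩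
      have hgen : zc = 41 ∨ zc = 43 := by
        have h2 := (hzpow 2).2
        rw [pow_two, hF.c_sq, ← t_code S.basis a b] at h2
        have h2' := hinj _ (hzpow 2).1 2 (by norm_num) h2
        rcases inC_cases hzc with rfl | rfl | rfl | rfl
        · exact absurd h2' (by decide +kernel)
        · exact absurd h2' (by decide +kernel)
        · exact Or.inl rfl
        · exact Or.inr rfl
      obtain ⟨i, hi⟩ : ∃ i, mpowc tb0 zc i = z := by
        have hc1 : ∀ zc ∈ [41, 43], ∀ z ∈ [0, 2, 41, 43], ∃ i ∈ [0, 1, 2, 3], mpowc tb0 zc i = z := by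
          decide +kernel
        obtain ⟨i, -, hi⟩ := hc1 zc (by simpa using hgen) z (by simpa using inC_cases hz)
        exact ⟨i, hi⟩
      rw [← hi, (hzpow i).2]
      exact pow_mem (mem_zpowers c) i
    intro z hz
    obtain ⟨i, hi⟩ := mem_zpowers_iff.1 (hC z hz)
    rw [← hi]
    exact ⟨zpow_mem hF.c_mem i, fun y hy => ((show Commute c y from hF.c_comm y hy).zpow_left i).eq⟩
  have hfc : Commute f₂ c := by
    have hz' := hF.norm _ hf₂H _ hF.c_mem
    have hcc : ∀ y ∈ R, f₂ * c * f₂⁻¹ * y = y * (f₂ * c * f₂⁻¹) := by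
      intro y hy
      have hy' : f₂⁻¹ * y * f₂⁻¹⁻¹ ∈ R := hF.norm _ (inv_mem hf₂H) _ hy
      have h := hF.c_comm _ hy'
      calc f₂ * c * f₂⁻¹ * y = f₂ * (c * (f₂⁻¹ * y * f₂⁻¹⁻¹)) * f₂⁻¹ := by group
        _ = f₂ * ((f₂⁻¹ * y * f₂⁻¹⁻¹) * c) * f₂⁻¹ := by rw [h]
        _ = _ := by group
    obtain ⟨zc, hzc, hzce⟩ := S.central_code hF hV hcen hv hF.c_mem hF.c_comm
    obtain ⟨zf, hzf, hzfe⟩ := S.central_code hF hV hcen hv hz' hcc
    have hsq : f₂ * c * f₂⁻¹ * (f₂ * c * f₂⁻¹) = t := by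
      rw [conj_mul, hF.c_sq, (show t * f₂ = f₂ * t from
        (mem_centralizer_singleton_iff.1 (hF.hH ▸ hf₂H)).symm).symm, mul_inv_cancel_right]
    have hl : ∀ w, inC w = true → w < 10752 := fun w hw => lt_trans (inC_lt hw) (by norm_num)
    have h2 : ∀ w, inC w = true → mval e a b w * mval e a b w = t → w = 41 ∨ w = 43 := by
      intro w hw h
      rw [← S.facts.mval_mul hr0 (hl w hw) (hl w hw), ← t_code S.basis a b] at h
      have h' := hinj _ (mmul_lt (hl w hw) (hl w hw)) 2 (by norm_num) h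
      rcases inC_cases hw with rfl | rfl | rfl | rfl
      · exact absurd h' (by decide +kernel)
      · exact absurd h' (by decide +kernel)
      · exact Or.inl rfl
      · exact Or.inr rfl
    have a1 := h2 zc hzc (by rw [hzce]; exact hF.c_sq)
    have a2 := h2 zf hzf (by rw [hzfe]; exact hsq)
    have hor : f₂ * c * f₂⁻¹ = c ∨ f₂ * c * f₂⁻¹ = t * c := by
      rw [← hzfe, ← hzce]
      by_cases h : zf = zc
      · exact Or.inl (by rw [h])
      · refine Or.inr ?_
        rw [← t_code S.basis a b, ← S.facts.mval_mul hr0 (by norm_num) (hl zc hzc)]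
        congr 1
        rcases a1 with rfl | rfl <;> rcases a2 with rfl | rfl
        all_goals first | exact absurd rfl h | decide +kernel
    rcases hor with h | h
    · exact mul_inv_eq_iff_eq_mul.1 h
    · exfalso
      have htf : Commute f₂ t := mem_centralizer_singleton_iff.1 (hF.hH ▸ hf₂H)
      have hstep : ∀ n : ℕ, f₂ ^ n * c * (f₂ ^ n)⁻¹ = t ^ n * c := by
        intro n
        induction n with
        | zero => simp
        | succ n ih =>
          rw [pow_succ' f₂ n, pow_succ t n, mul_inv_rev,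
            show f₂ * f₂ ^ n * c * ((f₂ ^ n)⁻¹ * f₂⁻¹) = f₂ * (f₂ ^ n * c * (f₂ ^ n)⁻¹) * f₂⁻¹ by group, ih,
            show f₂ * (t ^ n * c) * f₂⁻¹ = f₂ * t ^ n * f₂⁻¹ * (f₂ * c * f₂⁻¹) by group, h,
            (htf.pow_right n).eq, mul_inv_cancel_right, ← mul_assoc]
      have h5 := hstep 5
      rw [hf₂p, one_mul, inv_one, mul_one, right_eq_mul] at h5
      have := orderOf_dvd_of_pow_eq_one h5
      rw [hF.ht] at this
      norm_num at this
  refine ⟨f₂, row, hrow, hf₂H, hf₂5, ?_, ?_⟩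
  · intro w hw
    obtain ⟨zc, hzc, hzce⟩ := S.central_code hF hV hcen hv hF.c_mem hF.c_comm
    have hl : zc < 10752 := lt_trans (inC_lt hzc) (by norm_num)
    obtain ⟨i, hi⟩ : ∃ i, mpowc tb0 zc i = w := by
      have hzc' : zc = 41 ∨ zc = 43 := by
        have h2 : mval e a b (mpowc tb0 zc 2) = mval e a b 2 :=
          (S.facts.mval_pow hr0 hl 2).trans (by rw [hzce, pow_two, hF.c_sq, t_code S.basis a b])
        have h2' := hinj _ (mpowc_lt hl 2) 2 (by norm_num) h2
        rcases inC_cases hzc with rfl | rfl | rfl | rfl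
        · exact absurd h2' (by decide +kernel)
        · exact absurd h2' (by decide +kernel)
        · exact Or.inl rfl
        · exact Or.inr rfl
      have hc1 : ∀ zc ∈ [41, 43], ∀ z ∈ [0, 2, 41, 43], ∃ i ∈ [0, 1, 2, 3], mpowc tb0 zc i = z := by
        decide +kernel
      obtain ⟨i, -, hi⟩ := hc1 zc (by simpa using hzc') w (by simpa using inC_cases hw)
      exact ⟨i, hi⟩
    rw [← hi, show tb0 = edTbl 0 from rfl, S.facts.mval_pow hr0 hl, hzce]
    exact (hfc.pow_right i).eq
  · have hrel₂ : (U * k₁ * U⁻¹) * f₂ * (U * k₁ * U⁻¹)⁻¹ = f₂ ^ 2 := by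
      rw [hf₂, conj_pow, ← hrel₁]; group
    rw [hk₂] at hrel₂
    have hzc : Commute (mval e a b z) f₂ := by
      obtain ⟨zc, hzc', hzce⟩ := S.central_code hF hV hcen hv hF.c_mem hF.c_comm
      obtain ⟨w, hw, hwe⟩ := S.central_code hF hV hcen hv (hCR z hz).1 (hCR z hz).2
      have hl : zc < 10752 := lt_trans (inC_lt hzc') (by norm_num)
      obtain ⟨i, hi⟩ : ∃ i, mpowc tb0 zc i = z := by
        have hzc'' : zc = 41 ∨ zc = 43 := by
          have h2 : mval e a b (mpowc tb0 zc 2) = mval e a b 2 :=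
            (S.facts.mval_pow hr0 hl 2).trans (by rw [hzce, pow_two, hF.c_sq, t_code S.basis a b])
          have h2' := hinj _ (mpowc_lt hl 2) 2 (by norm_num) h2
          rcases inC_cases hzc' with rfl | rfl | rfl | rfl
          · exact absurd h2' (by decide +kernel)
          · exact absurd h2' (by decide +kernel)
          · exact Or.inl rfl
          · exact Or.inr rfl
        have hc1 : ∀ zc ∈ [41, 43], ∀ z ∈ [0, 2, 41, 43], ∃ i ∈ [0, 1, 2, 3], mpowc tb0 zc i = z := by
          decide +kernel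
        obtain ⟨i, -, hi⟩ := hc1 zc (by simpa using hzc'') z (by simpa using inC_cases hz)
        exact ⟨i, hi⟩
      rw [← hi, show tb0 = edTbl 0 from rfl, S.facts.mval_pow hr0 hl, hzce]
      exact (hfc.pow_right i).symm
    calc _ = mval e a b (mmul tb0 base row.1) * (mval e a b z * f₂ * (mval e a b z)⁻¹) *
          (mval e a b (mmul tb0 base row.1))⁻¹ := by rw [hzc.eq, mul_inv_cancel_right]
      _ = _ := by rw [← hrel₂]; group

theorem exists_five (hF : RFacts t c R H) (hV : VFacts t R V M A) :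
    ∃ (e : ℕ → G) (a b f : G), Five t R H V M A e a b f := by
  obtain ⟨e, a, b, v1, v2, hv, S⟩ := exists_std hF hV
  have hr0 : (0 : ℕ) ∈ [0, 34, 57, 27] := by decide
  have none_of : ∀ {base : ℕ} {row : ℕ × ℕ × ℕ} {f : G}, v1 < 64 ∧ v2 < 64 → base < 10752 →
      cenOK v1 v2 = true → rowBase v1 v2 base row = true → rowNone v1 v2 base row = true →
      RowHyp S H base row f → False := by
    intro base row f hlt hbase hcen hrow hnone hh
    obtain ⟨g, hg, v, hv', hin, -, hc⟩ := row_cond hF hV S hcen hlt hbase hrow hh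
    simp only [rowNone, List.all_eq_true] at hnone
    have h := hnone g hg v hv'
    simp only [Nat.add_eq, Nat.mul_eq] at h
    rw [hin, hc] at h
    simp at h
  have row_lt : ∀ {base : ℕ} {rows : List (ℕ × ℕ × ℕ)}, rows.all (rowBase v1 v2 base) = true →
      ∀ row ∈ rows, row.1 < 10752 := fun h row hr => by
    have := List.all_eq_true.1 h row hr
    simp only [rowBase, Bool.and_eq_true, Nat.blt_eq] at this
    exact this.1
  rcases hv with ⟨rfl, rfl⟩ | ⟨rfl, rfl⟩
  swap
  · exfalso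
    obtain ⟨f, row, hrow, hh⟩ := exists_row hF hV S (base := kBase2) (by decide +kernel) conjOK_2
      repsOK_both.2 (row_lt rowBase_both.2) cenOK_both.2 ⟨by norm_num, by norm_num⟩
    exact none_of ⟨by norm_num, by norm_num⟩ (by decide +kernel) cenOK_both.2
      (List.all_eq_true.1 rowBase_both.2 row hrow) (List.all_eq_true.1 rowNone_2 row hrow) hh
  obtain ⟨f, row, hrow, hh⟩ := exists_row hF hV S (base := kBase1) (by decide +kernel) conjOK_1
    repsOK_both.1 (row_lt rowBase_both.1) cenOK_both.1 ⟨by norm_num, by norm_num⟩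
  have hbase : kBase1 < 10752 := by decide +kernel
  have hlt : (0 : ℕ) < 64 ∧ (0 : ℕ) < 64 := ⟨by norm_num, by norm_num⟩
  have hrowb := List.all_eq_true.1 rowBase_both.1 row hrow
  have hok := List.all_eq_true.1 rowOK_1 row hrow
  simp only [rowOK1, Bool.or_eq_true, List.any_eq_true, Bool.and_eq_true, Nat.beq_eq, Nat.blt_eq] at hok
  rcases hok with ⟨w, -, -, hwS, hw, hwz⟩ | hnone
  swap
  · exact (none_of hlt hbase cenOK_both.1 hrowb hnone hh).elim
  -- move to the base row
  obtain ⟨hmem, hinj, hsurj⟩ := mval_bij hV S.facts S.basis S.ha S.hb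
  set U := mval e a b w.2.2 with hU
  have hUH : U ∈ H := (S.mem_H hF hw).2 hwS
  have hr := row_lt rowBase_both.1 row hrow
  set f₃ := U * f * U⁻¹ with hf₃
  have hf₃H : f₃ ∈ H := mul_mem (mul_mem hUH hh.fH) (inv_mem hUH)
  have hUC : ∀ z, inC z = true → ∃ z', inC z' = true ∧ U⁻¹ * mval e a b z * U = mval e a b z' := by
    intro z hz
    have hzR : mval e a b z ∈ R ∧ ∀ y ∈ R, mval e a b z * y = y * mval e a b z := by
      have hzl : z < 10752 := lt_trans (inC_lt hz) (by norm_num)
      refine ⟨(S.inR_iff z hzl).2 ?_, fun y hy => ?_⟩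
      · rcases inC_cases hz with rfl | rfl | rfl | rfl <;> decide +kernel
      · obtain ⟨g, hg, v, hv', rfl, hin⟩ := S.r_code hV hy
        have hcommR : ([0, 2, 41, 43].all fun z => [0, 23, 102, 117].all fun g => (List.range 64).all fun v =>
            !(inR tb0 0 0 (Nat.add v (Nat.mul 64 g))) || mcomm z (Nat.add v (Nat.mul 64 g))) = true := by
          decide +kernel
        simp only [List.all_eq_true, Nat.add_eq, Nat.mul_eq] at hcommR
        have h := hcommR z (by simpa using inC_cases hz) g hg v hv'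
        rw [show inR tb0 0 0 (v + 64 * g) = true from hin] at h
        simp only [Bool.not_true, Bool.false_or, mcomm, Nat.beq_eq] at h
        have hlt' : v + 64 * g < 10752 := by
          have := List.mem_range.1 hv'
          simp only [List.mem_cons, List.not_mem_nil, or_false] at hg
          omega
        rw [← S.facts.mval_mul hr0 hzl hlt', ← S.facts.mval_mul hr0 hlt' hzl]
        exact congrArg _ h
    have hconjR : U⁻¹ * mval e a b z * U ∈ R := by
      have := hF.norm _ (inv_mem hUH) _ hzR.1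
      rwa [inv_inv] at this
    obtain ⟨z', hz', he⟩ := S.central_code hF hV cenOK_both.1 hlt hconjR fun y hy => by
      have h := hzR.2 _ (hF.norm _ hUH _ hy)
      calc U⁻¹ * mval e a b z * U * y = U⁻¹ * (mval e a b z * (U * y * U⁻¹)) * U := by group
        _ = U⁻¹ * ((U * y * U⁻¹) * mval e a b z) * U := by rw [h]
        _ = _ := by group
    exact ⟨z', hz', he.symm⟩
  have hh3 : RowHyp S H kBase1 (0, 8, 2) f₃ := by
    refine ⟨hf₃H, by rw [hf₃, ← MulAut.conj_apply, MulEquiv.orderOf_eq, hh.order], ?_, ?_⟩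
    · intro z hz
      obtain ⟨z', hz', he⟩ := hUC z hz
      calc f₃ * mval e a b z = U * (f * (U⁻¹ * mval e a b z * U)) * U⁻¹ := by rw [hf₃]; group
        _ = U * ((U⁻¹ * mval e a b z * U) * f) * U⁻¹ := by rw [he, hh.centC z' hz']
        _ = _ := by rw [hf₃]; group
    · show mval e a b (mmul tb0 kBase1 0) * f₃ * (mval e a b (mmul tb0 kBase1 0))⁻¹ = _
      rw [base_facts.2.2.1]
      set Z := mmul tb0 (minv tb0 kBase1) (mcj tb0 w.2.2 (mmul tb0 kBase1 row.1))
      have hkl : mmul tb0 kBase1 row.1 < 10752 := mmul_lt hbase hr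
      obtain ⟨hc1, hc2⟩ := S.facts.mval_mcj hr0 hw hkl
      have hZ : U * mval e a b (mmul tb0 kBase1 row.1) * U⁻¹ = mval e a b kBase1 * mval e a b Z := by
        rw [show mval e a b Z = _ from S.facts.mval_mul hr0 (S.facts.mval_minv hr0 hbase).2 hc2,
          (S.facts.mval_minv hr0 hbase).1, mul_inv_cancel_left]
        exact hc1.symm
      obtain ⟨z', hz', he⟩ := hUC Z hwz
      have hzc : Commute (mval e a b Z) f₃ := by
        show mval e a b Z * f₃ = f₃ * mval e a b Z
        calc mval e a b Z * f₃ = U * ((U⁻¹ * mval e a b Z * U) * f) * U⁻¹ := by rw [hf₃]; group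
          _ = U * (f * (U⁻¹ * mval e a b Z * U)) * U⁻¹ := by rw [he, hh.centC z' hz']
          _ = _ := by rw [hf₃]; group
      calc _ = mval e a b kBase1 * (mval e a b Z * f₃ * (mval e a b Z)⁻¹) * (mval e a b kBase1)⁻¹ := by
            rw [hzc.eq, mul_inv_cancel_right]
        _ = (mval e a b kBase1 * mval e a b Z) * f₃ * (mval e a b kBase1 * mval e a b Z)⁻¹ := by group
        _ = U * (mval e a b (mmul tb0 kBase1 row.1) * f * (mval e a b (mmul tb0 kBase1 row.1))⁻¹) * U⁻¹ := by
            rw [← hZ, hf₃]; group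
        _ = f₃ ^ 2 := by rw [hh.fk, hf₃, conj_pow]
  obtain ⟨g, hg, v, hv', hin, hval, hcond⟩ :=
    row_cond hF hV S cenOK_both.1 hlt hbase base_facts.2.1 hh3
  have h := imgOK_all
  simp only [List.all_eq_true, Nat.add_eq, Nat.mul_eq] at h
  have h := h g hg v hv'
  rw [hin] at h
  simp only [show mmul tb0 kBase1 (0, 8, 2).1 = kBase1 from base_facts.2.2.1] at hcond
  rw [hcond] at h
  simp only [Bool.not_true, Bool.false_or, imgOK, List.any_eq_true] at h
  obtain ⟨⟨e2, tw, u, z⟩, -, h⟩ := h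
  simp only [Bool.and_eq_true, Nat.beq_eq, Nat.ble_eq, Nat.blt_eq, List.all_eq_true] at h
  obtain ⟨he2, htw, huS, hu, hzC, h8, h1475, hk, hCC⟩ := h
  set e2' := v + 64 * g
  have he2lt : e2' < 10752 := by
    have := List.mem_range.1 hv'
    simp only [List.mem_cons, List.not_mem_nil, or_false] at hg
    omega
  -- the twisted coordinates
  set b' := mval e a b (cbT tw) with hb'
  have htwOK : twistOK tw = true ∧ twistR tw = true := by
    rcases Nat.le_one_iff_eq_zero_or_eq_one.1 htw with rfl | rfl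
    exacts [⟨twistOK_all.1, twistR_all.1⟩, ⟨twistOK_all.2, twistR_all.2⟩]
  obtain ⟨htwOK, htwR⟩ := htwOK
  simp only [twistOK, Bool.and_eq_true, Nat.blt_eq, Nat.beq_eq, List.all_eq_true] at htwOK
  obtain ⟨hbl, hb3, hab7, hc4, hact⟩ := htwOK
  obtain ⟨hca, -⟩ := code_ab
  have hea := (mval_ca e a b).1
  have hz0 : mval e a b 0 = 1 := by rw [mval_low (by norm_num), iota_zero]
  have hbl' : cbT tw < 10752 := hbl
  have hM' : MFacts e a b' 0 := by
    refine ⟨S.facts.frame, S.facts.ha, fun i hi => ?_, S.facts.a2, ?_, ?_, by norm_num, ?_⟩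
    · have hv : ∀ i < 3, 4 ^ i ∈ [1, 4, 16] := by decide
      have h := hact _ (hv i hi)
      have hl : 4 ^ i < 64 := by interval_cases i <;> norm_num
      have hei : mval e a b (4 ^ i) = e i := by
        rw [mval_low hl]
        interval_cases i
        · exact iota_one e
        · exact iota_four e
        · exact iota_sixteen e
      have hcol : actc bMat (4 ^ i) = col bMat i := by interval_cases i <;> decide +kernel
      rw [hb', ← hei, ← (S.facts.mval_mcj hr0 hbl' (lt_trans hl (by norm_num))).1, ← hcol,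
        ← mval_low (actc_lt _ _)]
      exact congrArg _ h
    · rw [hb', ← S.facts.mval_pow hr0 hbl' 3, show edTbl 0 = tb0 from rfl, hb3, hz0]
    · have h7 := S.facts.mval_pow hr0 (mmul_lt (tb := edTbl 0) hca hbl') 7
      rw [S.facts.mval_mul hr0 hca hbl', hea] at h7
      rw [hb', ← h7, show mpowc (edTbl 0) (mmul (edTbl 0) ca (cbT tw)) 7 = 0 from hab7, hz0]
    · have l1 := mmul_lt (tb := edTbl 0) hca hbl'
      have l2 := mmul_lt (tb := edTbl 0) l1 hca
      have l3 := mmul_lt (tb := edTbl 0) l2 hbl'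
      have h4 := S.facts.mval_pow hr0 (mmul_lt (tb := edTbl 0) l3 hbl') 4
      rw [show mpowc (edTbl 0) _ 4 = 0 from hc4, hz0, S.facts.mval_mul hr0 l3 hbl',
        S.facts.mval_mul hr0 l2 hbl', S.facts.mval_mul hr0 l1 hca, S.facts.mval_mul hr0 hca hbl', hea] at h4
      rw [iota_zero, hb']
      exact h4.symm
  have hb'M : b' ∈ M := hmem _ hbl'
  have htwist : ∀ p, p < 10752 → twist tw p < 10752 ∧ mval e a b' p = mval e a b (twist tw p) := by
    intro p hp
    have key : ∀ (w : List ℕ) (x : ℕ), x < 10752 →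
        w.foldl (fun x l => mmul tb0 x (bif Nat.beq l 0 then ca else cbT tw)) x < 10752 ∧
        mval e a b (w.foldl (fun x l => mmul tb0 x (bif Nat.beq l 0 then ca else cbT tw)) x) =
          mval e a b x * prodw (lett a b') w := by
      intro w
      induction w with
      | nil => exact fun x hx => ⟨hx, by simp [prodw_nil]⟩
      | cons l w ih =>
        intro x hx
        rw [List.foldl_cons]
        cases l with
        | zero =>
          obtain ⟨i1, i2⟩ := ih (mmul tb0 x ca) (mmul_lt hx hca)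
          refine ⟨i1, ?_⟩
          show mval e a b (List.foldl _ (mmul tb0 x ca) w) = _
          rw [i2, show tb0 = edTbl 0 from rfl, S.facts.mval_mul hr0 hx hca, hea, prodw_cons, mul_assoc]
          rfl
        | succ l =>
          obtain ⟨i1, i2⟩ := ih (mmul tb0 x (cbT tw)) (mmul_lt hx hbl')
          refine ⟨i1, ?_⟩
          show mval e a b (List.foldl _ (mmul tb0 x (cbT tw)) w) = _
          rw [i2, show tb0 = edTbl 0 from rfl, S.facts.mval_mul hr0 hx hbl', ← hb', prodw_cons, mul_assoc]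
          rfl
    obtain ⟨k1, k2⟩ := key (gword (p / 64)) 0 (by norm_num)
    refine ⟨mmul_lt (show p % 64 < 10752 by omega) k1, ?_⟩
    show mval e a b' p = mval e a b (mmul (edTbl 0) (p % 64) ((gword (p / 64)).foldl
      (fun x l => mmul tb0 x (bif Nat.beq l 0 then ca else cbT tw)) 0))
    rw [S.facts.mval_mul hr0 (show p % 64 < 10752 by omega) k1, k2, hz0, one_mul,
      mval_low (Nat.mod_lt p (show 64 > 0 by norm_num)), mval]
    rfl
  have S' : Std t R V M A e a b' 0 0 := by
    refine ⟨hM', S.basis, S.ha, hb'M, fun p hp => ?_⟩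
    obtain ⟨hl, he⟩ := htwist p hp
    rw [he, S.inR_iff _ hl]
    simp only [twistR, List.all_eq_true] at htwR
    have hp64 : p / 64 < 168 := by omega
    have h := beqB_eq (htwR (p / 64) (List.mem_range.2 hp64) (p % 64)
      (List.mem_range.2 (Nat.mod_lt _ (by norm_num))))
    simp only [Nat.add_eq, Nat.mul_eq] at h
    rw [show p % 64 + 64 * (p / 64) = p by omega] at h
    rw [show edTbl 0 = tb0 from rfl, h]
  set W := mval e a b u with hW
  have hWH : W ∈ H := (S.mem_H hF hu).2 huS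
  obtain ⟨hWi, hWilt⟩ := S.facts.mval_minv hr0 hu
  set f' := W * f₃ * W⁻¹ with hf'
  have hpull : ∀ p q, p < 10752 → q < 10752 → mcj tb0 (minv tb0 u) (twist tw p) = q →
      W⁻¹ * mval e a b' p * W = mval e a b q := by
    intro p q hp _ h
    obtain ⟨hl, he⟩ := htwist p hp
    obtain ⟨c1, -⟩ := S.facts.mval_mcj hr0 hWilt hl
    rw [hWi, inv_inv] at c1
    rw [he, ← c1]
    exact congrArg _ h
  have hzl : z < 10752 := lt_trans (inC_lt hzC) (by norm_num)
  have hcentC : ∀ x, inC x = true → f' * mval e a b' x = mval e a b' x * f' := by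
    intro x hx
    have hxl : x < 10752 := lt_trans (inC_lt hx) (by norm_num)
    have hy := hCC x (by simpa using inC_cases hx)
    have hq := hpull x _ hxl (S.facts.mval_mcj hr0 hWilt (htwist x hxl).1).2 rfl
    calc f' * mval e a b' x = W * (f₃ * (W⁻¹ * mval e a b' x * W)) * W⁻¹ := by rw [hf']; group
      _ = W * ((W⁻¹ * mval e a b' x * W) * f₃) * W⁻¹ := by rw [hq, hh3.centC _ hy]
      _ = _ := by rw [hf']; group
  refine ⟨e, a, b', f', S', mul_mem (mul_mem hWH hf₃H) (inv_mem hWH),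
    by rw [hf', ← MulAut.conj_apply, MulEquiv.orderOf_eq, hh3.order], ?_, hcentC, ?_, ?_⟩
  · intro hfM
    have := orderOf_dvd_natCard (⟨f', hfM⟩ : M)
    rw [hV.cardM, Subgroup.orderOf_mk, hf', ← MulAut.conj_apply, MulEquiv.orderOf_eq, hh3.order] at this
    norm_num at this
  · obtain ⟨hl, he⟩ := htwist kBase1 hbase
    obtain ⟨c1, c2⟩ := S.facts.mval_mcj hr0 hu hbase
    obtain ⟨m1, m2⟩ := S.facts.mval_minv hr0 hl
    set Z := mmul tb0 (minv tb0 (twist tw kBase1)) (mcj tb0 u kBase1)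
    have hZ : W * mval e a b kBase1 * W⁻¹ = mval e a b' kBase1 * mval e a b Z := by
      rw [he, show mval e a b Z = _ from S.facts.mval_mul hr0 m2 c2, m1, mul_inv_cancel_left]
      exact c1.symm
    have hk0 : mval e a b kBase1 * f₃ * (mval e a b kBase1)⁻¹ = f₃ ^ 2 := by
      have := hh3.fk
      simp only [base_facts.2.2.1] at this
      exact this
    have hZ' : mval e a b' Z = mval e a b Z := by
      rw [mval_low (inC_lt hk), mval_low (inC_lt hk)]
    have hcZ : Commute (mval e a b Z) f' := by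
      rw [← hZ']; exact (hcentC Z hk).symm
    calc _ = mval e a b' kBase1 * (mval e a b Z * f' * (mval e a b Z)⁻¹) * (mval e a b' kBase1)⁻¹ := by
          rw [hcZ.eq, mul_inv_cancel_right]
      _ = (mval e a b' kBase1 * mval e a b Z) * f' * (mval e a b' kBase1 * mval e a b Z)⁻¹ := by group
      _ = W * (mval e a b kBase1 * f₃ * (mval e a b kBase1)⁻¹) * W⁻¹ := by rw [← hZ, hf']; group
      _ = f' ^ 2 := by rw [hk0]; exact conj_pow.symm
  · have hc8 : W⁻¹ * mval e a b' 8 * W = mval e a b 8 * mval e a b z := by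
      rw [hpull 8 _ (by norm_num) (mmul_lt (by norm_num) hzl) h8, show tb0 = edTbl 0 from rfl,
        S.facts.mval_mul hr0 (by norm_num) hzl]
    have hc1475 : W⁻¹ * mval e a b' 1475 * W = mval e a b e2' * mval e a b z := by
      rw [hpull 1475 _ (by norm_num) (mmul_lt he2lt hzl) h1475, show tb0 = edTbl 0 from rfl,
        S.facts.mval_mul hr0 he2lt hzl]
    calc f' * mval e a b' 8 * f'⁻¹ = W * (f₃ * (W⁻¹ * mval e a b' 8 * W) * f₃⁻¹) * W⁻¹ := by rw [hf']; group
      _ = W * (f₃ * mval e a b 8 * (f₃⁻¹ * f₃) * mval e a b z * f₃⁻¹) * W⁻¹ := by rw [hc8]; group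
      _ = W * ((f₃ * mval e a b 8 * f₃⁻¹) * (f₃ * mval e a b z * f₃⁻¹)) * W⁻¹ := by group
      _ = W * (mval e a b e2' * mval e a b z) * W⁻¹ := by
        rw [← hval, hh3.centC z hzC, mul_inv_cancel_right]
      _ = W * (W⁻¹ * mval e a b' 1475 * W) * W⁻¹ := by rw [hc1475]
      _ = _ := by group

end CfsgLib.HSRec
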