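import Mathlib

/-!
Tables for the centralizer of the involution as five cosets of its intersection with the 2-local.
-/

set_option autoImplicit false

namespace CfsgLib.HSRec

/-- The five images of the generator under the element of order five. -/
def eCodes : List ℕ :=
  [8, 1475, 6568, 6563, 1472]

/-- Elements of `R` with words in the five generators. -/
def rWords : List (ℕ × List ℕ) :=
  [(0, []), (1, [1, 3, 4]), (2, [0, 0]), (3, [1, 4, 3]), (8, [1]), (9, [3, 4]), (10, [0, 0, 1]), (11, [4, 3]), (32, [0, 4, 3]), (33, [0, 1]), (34, [0, 3, 4]), (35, [0, 0, 0, 1]), (40, [0, 1, 4, 3]), (41, [0]), (42, [0, 1, 3, 4]), (43, [0, 0, 0]), (1472, [1, 2, 3, 4]), (1473, [0, 0, 2]), (1474, [1, 2, 4, 3]), (1475, [2]), (1480, [2, 3, 4]), (1481, [2, 1]), (1482, [2, 4, 3]), (1483, [1, 2]), (1504, [0, 1, 2]), (1505, [0, 2, 3,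 4]), (1506, [0, 2, 1]), (1507, [0, 2, 4, 3]), (1512, [0, 2]), (1513, [0, 1, 2, 3, 4]), (1514, [0, 0, 0, 2]), (1515, [0, 1, 2, 4, 3]), (6528, [0, 1, 4]), (6529, [0, 3]), (6530, [0, 4, 1]), (6531, [0, 0, 0, 3]), (6536, [0, 4]), (6537, [0, 1, 3]), (6538, [0, 0, 0, 4]), (6539, [0, 3, 1]), (6560, [1, 3]), (6561, [0, 0, 4]), (6562, [3, 1]), (6563, [4]), (6568, [3]), (6569, [4, 1]), (6570, [0, 0, 3]), (6571, [1, 4]), (7488, [0, 3, 2]), (7489, [0, 1, 2, 4]), (7490, [0, 2, 3]), (7491, [0, 1, 4, 2]), (7496, [0, 1, 3, 2]), (7497, [0, 2, 4]), (7498, [0, 1, 2, 3]), (7499, [0, 4, 2]), (7520, [2, 4]), (7521, [1, 2, 3]), (7522, [4, 2]), (7523, [1, 3, 2]), (7528, [1, 2, 4]), (7529, [2, 3]), (7530, [1, 4, 2]), (7531, [3, 2])]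

/-- Words for the elements of the normal subgroup. -/
def vWords : List (List ℕ) :=
  [[], [1, 3, 4], [0, 0], [1, 4, 3], [0, 4, 2, 5, 5], [0, 4, 5, 5, 2], [0, 2, 4, 5, 5], [0, 4, 5, 3, 5], [1], [3, 4], [0, 0, 1], [4, 3], [0, 3, 5, 3, 5], [0, 2, 5, 2, 5], [0, 3, 5, 5, 2], [0, 2, 3, 5, 5], [6, 5, 1, 6, 5], [0, 6, 5, 6, 5], [6, 1, 5, 6, 5], [6, 5, 0, 6, 5], [5, 4, 3, 6, 5, 6], [5, 6, 5, 6], [2, 5, 3, 6, 5, 6], [0, 0, 5, 6, 5, 6], [1, 6, 5, 1, 6, 5], [0, 1, 6, 5, 6, 5], [1, 6, 1, 5, 6, 5], [0, 6, 5, 6, 1, 5], [0, 5, 6, 1, 5, 6], [1, 5, 6, 5, 6], [0, 5, 6, 5, 1, 6], [5, 1, 6, 5, 6], [0, 4, 3], [0, 1], [0, 3, 4], [0, 0, 0, 1], [2, 5, 2, 5], [3, 5, 5, 2], [2, 3, 5, 5], [3, 5, 3, 5], [0, 1, 4, 3], [0], [0, 1, 3, 4], [0, 0, 0], [4, 5, 5, 2], [2, 4, 5, 5], [4, 5, 3, 5], [4, 2, 5, 5], [1, 6, 5, 6, 5], [3, 4, 6, 5, 6, 5],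 [6, 5, 6, 1, 5], [4, 3, 6, 5, 6, 5], [0, 5, 1, 6, 5, 6], [5, 6, 5, 1, 6], [0, 1, 5, 6, 5, 6], [5, 6, 1, 5, 6], [6, 5, 6, 5], [0, 6, 5, 1, 6, 5], [0, 0, 6, 5, 6, 5], [0, 6, 1, 5, 6, 5], [5, 0, 6, 5, 6], [1, 5, 6, 5, 1, 6], [0, 5, 6, 5, 6], [1, 5, 6, 1, 5, 6]]

/-- Words for the cosets. -/
def gWords : List (List ℕ) :=
  [[], [1, 5, 5, 6, 5, 4], [1, 2, 3, 4], [0, 6, 5, 6, 3, 5, 5], [6], [1, 6, 5, 6, 5, 5], [1, 5, 5, 6, 5, 4, 6], [6, 6], [0, 5, 6, 3, 5, 5], [4, 5, 5, 6, 5, 1], [0, 2, 6, 1, 6], [0, 3, 2, 6], [5, 6, 5, 1, 5], [1, 6, 5, 6, 2, 5, 5], [0, 1, 4], [0, 3, 2, 6, 6], [0, 1, 4, 6], [0, 3, 2], [0, 2, 6, 1], [4, 3, 5, 5, 6, 5], [4, 5, 6, 5, 5, 2], [1, 2, 5, 5, 6, 5], [0, 1, 4, 6, 6], [4, 2, 5, 6, 5, 5]]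

/-- The element of order three. -/
def sCode : ℕ :=
  1856

/-- The three labels. -/
def kappas : List ℕ :=
  [5372, 5321, 1880]

/-- The images of three cosets. -/
def sNext : List ℕ :=
  [1, 3, 4]

/-- Relators that exclude the other central corrections. -/
def hTests : List (ℕ × List ℕ) :=
  [(1, [6, 6, 6]), (1, [5, 5, 6, 5, 5, 6, 5, 5, 6, 0]), (1, [7, 6, 7, 7, 7, 7, 6, 5, 4, 6, 5, 6])]

end CfsgLib.HSRec
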