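import Cfsg.Agent.HSRec.FiveMain
import Cfsg.Agent.HSRec.HData

/-!
The centralizer of the involution as five cosets `K fⁱ`: the labels of the coset table are forced, and
codes `(p, i)` multiply as the group elements do.
-/

set_option autoImplicit false
set_option maxRecDepth 100000

namespace CfsgLib.HSRec

open Subgroup CfsgLib.CosetEnum

/-- A conjugate of the generator. -/
def eAt (i : ℕ) : ℕ := eCodes.getD (Nat.mod i 5) 0

/-- The seven generators of `K`. -/
def kGen : ℕ → ℕ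
  | 0 => 41
  | 1 => eAt 0
  | 2 => eAt 1
  | 3 => eAt 2
  | 4 => eAt 3
  | 5 => kBase1
  | _ => sCode

/-- The shift of a generator of `R`. -/
def shiftGen (d l : ℕ) : ℕ := bif Nat.beq l 0 then 41 else eAt (Nat.add (Nat.sub l 1) d)

/-- The value of a word in the generators of `R`, shifted. -/
def shiftWord (d : ℕ) (w : List ℕ) : ℕ := w.foldl (fun x l => mmul tb0 x (shiftGen d l)) 0

/-- The word of an element of `R`. -/
def rWord (q : ℕ) : List ℕ := ((rWords.find? fun p => Nat.beq p.1 q).getD (0, [])).2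

/-- A shifted conjugate: the image of a generator under `fⁱ s f⁻ʲ`. -/
def sTarget (i j l : ℕ) : ℕ :=
  shiftWord i (rWord (mcj tb0 sCode (shiftGen (Nat.sub 5 j) l)))

/-- The labels for given values on three cosets. -/
def sEdge (k1 k2 k3 i : ℕ) : ℕ × ℕ :=
  [(sCode, 0), (k1, sNext.getD 0 0), (k2, sNext.getD 1 0), (k3, sNext.getD 2 0),
    (minv tb0 (mmul tb0 k2 k3), 2)].getD i (0, 0)

/-- The edge at a coset under a letter. -/
def hEdge (k1 k2 k3 i l : ℕ) : ℕ × ℕ :=
  bif Nat.beq l 7 then (0, Nat.mod (Nat.add i 1) 5)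
  else bif Nat.beq l 6 then sEdge k1 k2 k3 i
  else bif Nat.beq l 5 then (kBase1, Nat.mod (Nat.mul 3 i) 5)
  else (shiftGen i l, i)

/-- Walk along a word. -/
def hWalk (k1 k2 k3 : ℕ) : List ℕ → ℕ × ℕ → ℕ × ℕ
  | [], x => x
  | l :: w, x => hWalk k1 k2 k3 w (mmul tb0 x.1 (hEdge k1 k2 k3 x.2 l).1, (hEdge k1 k2 k3 x.2 l).2)

/-- The candidates for a label. -/
def kappaCands (n : ℕ) : List ℕ := [0, 2, 41, 43].map fun z => mmul tb0 (kappas.getD n 0) z

/-- Is this choice of labels excluded by a test? -/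
def hBad (k1 k2 k3 : ℕ) : Bool :=
  hTests.any fun q =>
    let a := hWalk k1 k2 k3 q.2 (0, 0)
    let b := hWalk k1 k2 k3 q.2 (0, q.1)
    Nat.beq a.1 0 && (Nat.beq a.2 0 && (Nat.blt q.1 5 && ((q.2.all fun l => Nat.blt l 8) &&
      !(Nat.beq b.1 0 && Nat.beq b.2 q.1))))

theorem kappa_spec :
    ((kappaCands 0).all fun k1 => (kappaCands 1).all fun k2 => (kappaCands 2).all fun k3 =>
      (Nat.beq k1 (kappas.getD 0 0) && (Nat.beq k2 (kappas.getD 1 0) && Nat.beq k3 (kappas.getD 2 0))) ||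
        hBad k1 k2 k3) = true := by decide +kernel

theorem eCodes_spec : eAt 0 = 8 ∧ eAt 1 = 1475 ∧ eAt 2 = img3 kBase1 2 1475 ∧
    eAt 4 = img5 kBase1 2 1475 ∧ eAt 3 = img4 kBase1 2 1475 ∧
    mmul tb0 (mcj tb0 kBase1 8) 2 = 8 ∧ mmul tb0 (mcj tb0 kBase1 (eAt 3)) 2 = eAt 1 := by
  decide +kernel

theorem gen_lt : (∀ i < 5, eAt i < 10752 ∧ inR tb0 0 0 (eAt i) = true) ∧ inR tb0 0 0 41 = true ∧
    kBase1 < 10752 ∧ sCode < 10752 ∧ mpowc tb0 sCode 3 = 0 ∧
    stabList.contains (sCode / 64) = true ∧ stabList.contains (kBase1 / 64) = true ∧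
    (∀ n < 3, kappas.getD n 0 < 10752 ∧ sNext.getD n 0 < 5 ∧
      stabList.contains ((kappas.getD n 0) / 64) = true) ∧ sNext.getD 1 0 = 3 ∧ sNext.getD 2 0 = 4 := by
  decide +kernel

theorem rWords_spec : ([0, 23, 102, 117].all fun g => (List.range 64).all fun v =>
    !(inR tb0 0 0 (Nat.add v (Nat.mul 64 g))) ||
      (((rWord (Nat.add v (Nat.mul 64 g))).all fun l => Nat.blt l 5) &&
        Nat.beq (shiftWord 0 (rWord (Nat.add v (Nat.mul 64 g)))) (Nat.add v (Nat.mul 64 g)))) = true := by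
  decide +kernel

theorem sTarget_spec : ([1, 2, 3].all fun i => (List.range 5).all fun l =>
    Nat.beq (mcj tb0 (kappas.getD (Nat.sub i 1) 0) (shiftGen 0 l))
      (sTarget i (sNext.getD (Nat.sub i 1) 0) l)) = true := by decide +kernel

theorem central_spec : (stabList.all fun g => (List.range 64).all fun v =>
    inC (Nat.add v (Nat.mul 64 g)) ||
      !((List.range 5).all fun l => mcomm (Nat.add v (Nat.mul 64 g)) (shiftGen 0 l))) = true := by
  decide +kernel

section Hom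

variable {G : Type*} [Group G] [Finite G] {t c : G} {R H V M A : Subgroup G} {e : ℕ → G} {a b f : G}

/-- The letters. -/
def hLet (e : ℕ → G) (a b f : G) (l : ℕ) : G := if l = 7 then f else mval e a b (kGen l)

/-- The element named by a code `(p, i)`. -/
def hVal (e : ℕ → G) (a b f : G) (x : ℕ × ℕ) : G := mval e a b x.1 * f ^ x.2

variable (hF : RFacts t c R H) (hV : VFacts t R V M A) (P : Five t R H V M A e a b f)
include hF hV P

theorem Five.pow_five : f ^ 5 = 1 := (congrArg (f ^ ·) P.order.symm).trans (pow_orderOf_eq_one f)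

theorem Five.conj_e (i : ℕ) : f ^ i * mval e a b 8 * (f ^ i)⁻¹ = mval e a b (eAt i) := by
  have hr0 : (0 : ℕ) ∈ [0, 34, 57, 27] := by decide
  obtain ⟨h0, h1, h2, h4, h3, hk1, hk6⟩ := eCodes_spec
  obtain ⟨hlt, -, hk0, -⟩ := gen_lt
  have h5 := P.pow_five hF hV
  let E : ℕ → G := fun i => f ^ i * mval e a b 8 * (f ^ i)⁻¹
  have hc : Commute f (mval e a b 2) := P.centC 2 (by decide)
  have hstep : ∀ j p, p < 10752 → mval e a b p = E j →
      mmul tb0 (mcj tb0 kBase1 p) 2 < 10752 ∧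
        mval e a b (mmul tb0 (mcj tb0 kBase1 p) 2) = E (2 * j) := by
    intro j p hp hpe
    obtain ⟨e1, l1⟩ := P.std.facts.mval_mcj hr0 hk0 hp
    obtain ⟨e8, l8⟩ := P.std.facts.mval_mcj hr0 hk0 (show 8 < 10752 by norm_num)
    refine ⟨mmul_lt l1 (by norm_num), ?_⟩
    have hh : mval e a b kBase1 * mval e a b 8 * (mval e a b kBase1)⁻¹ * mval e a b 2 = mval e a b 8 := by
      rw [← e8, ← P.std.facts.mval_mul hr0 l8 (by norm_num)]
      exact congrArg _ hk1
    have hkf : mval e a b kBase1 * f ^ j * (mval e a b kBase1)⁻¹ = f ^ (2 * j) := by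
      rw [← conj_pow, P.fk, ← pow_mul]
    rw [P.std.facts.mval_mul hr0 l1 (by norm_num), e1, hpe]
    calc mval e a b kBase1 * E j * (mval e a b kBase1)⁻¹ * mval e a b 2
        = (mval e a b kBase1 * f ^ j * (mval e a b kBase1)⁻¹) *
            (mval e a b kBase1 * mval e a b 8 * (mval e a b kBase1)⁻¹) *
            ((mval e a b kBase1 * f ^ j * (mval e a b kBase1)⁻¹)⁻¹ * mval e a b 2) := by simp only [E]; group
      _ = f ^ (2 * j) * (mval e a b kBase1 * mval e a b 8 * (mval e a b kBase1)⁻¹) *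
            (mval e a b 2 * (f ^ (2 * j))⁻¹) := by rw [hkf, ((hc.pow_left (2 * j)).inv_left).eq]
      _ = f ^ (2 * j) * (mval e a b kBase1 * mval e a b 8 * (mval e a b kBase1)⁻¹ * mval e a b 2) *
            (f ^ (2 * j))⁻¹ := by group
      _ = E (2 * j) := by rw [hh]
  have hper : ∀ n, E (n + 5) = E n := fun n => by simp only [E]; rw [pow_add, h5, mul_one]
  have hE1 : mval e a b 1475 = E 1 := by simp only [E, pow_one]; exact P.fe.symm
  obtain ⟨l2, v2⟩ := hstep 1 1475 (by norm_num) hE1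
  obtain ⟨l4, v4⟩ := hstep 2 _ l2 v2
  obtain ⟨l8, v8⟩ := hstep 4 _ l4 v4
  rw [show E (2 * 4) = E 3 from hper 3] at v8
  have hbase : ∀ n < 5, E n = mval e a b (eAt n) := by
    intro n hn
    interval_cases n
    · rw [h0]; simp [E]
    · rw [h1, hE1]
    · rw [h2]; exact v2.symm
    · rw [h3]; exact v8.symm
    · rw [h4]; exact v4.symm
  have hmod : E i = E (i % 5) := by
    conv_lhs => rw [← Nat.mod_add_div i 5]
    generalize i / 5 = m
    induction m with
    | zero => simp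
    | succ m ih => rw [show i % 5 + 5 * (m + 1) = i % 5 + 5 * m + 5 by ring, hper, ih]
  show E i = _
  rw [hmod, hbase _ (Nat.mod_lt _ (by norm_num))]
  show mval e a b (eCodes.getD (i % 5 % 5) 0) = mval e a b (eCodes.getD (i % 5) 0)
  rw [Nat.mod_mod]

theorem Five.conj_shift (i : ℕ) {l : ℕ} (hl : l < 5) :
    shiftGen i l < 10752 ∧ f ^ i * mval e a b (shiftGen 0 l) * (f ^ i)⁻¹ = mval e a b (shiftGen i l) := by
  obtain ⟨hlt, -⟩ := gen_lt
  cases l with
  | zero =>
    exact ⟨show (41 : ℕ) < 10752 by norm_num, by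
      show f ^ i * mval e a b 41 * (f ^ i)⁻¹ = mval e a b 41
      rw [((show Commute f (mval e a b 41) from P.centC 41 (by decide)).pow_left i).eq, mul_inv_cancel_right]⟩
  | succ n =>
    refine ⟨(hlt (Nat.mod (Nat.add (Nat.sub (n + 1) 1) i) 5) (Nat.mod_lt _ (by norm_num))).1.trans_eq' ?_, ?_⟩
    · show eCodes.getD _ 0 = eCodes.getD _ 0
      rw [show ∀ x : ℕ, Nat.mod (Nat.mod x 5) 5 = Nat.mod x 5 from fun x => Nat.mod_mod x 5]
    show f ^ i * mval e a b (eAt (n + 1 - 1 + 0)) * (f ^ i)⁻¹ = mval e a b (eAt (n + 1 - 1 + i))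
    rw [show n + 1 - 1 + 0 = n by omega, show n + 1 - 1 + i = i + n by omega, ← P.conj_e hF hV n,
      ← P.conj_e hF hV (i + n), pow_add]
    group

theorem Five.shift_word : ∀ (w : List ℕ), (∀ l ∈ w, l < 5) → ∀ i,
    shiftWord i w < 10752 ∧ mval e a b (shiftWord i w) = f ^ i * mval e a b (shiftWord 0 w) * (f ^ i)⁻¹ := by
  have hr0 : (0 : ℕ) ∈ [0, 34, 57, 27] := by decide
  intro w
  induction w using List.reverseRecOn with
  | nil =>
    intro _ i
    refine ⟨show (0 : ℕ) < 10752 by norm_num, ?_⟩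
    show mval e a b 0 = f ^ i * mval e a b 0 * (f ^ i)⁻¹
    rw [mval_low (by norm_num), iota_zero]
    group
  | append_singleton w l ih =>
    intro hw i
    have hw' : ∀ x ∈ w, x < 5 := fun x hx => hw x (by simp [hx])
    have hl : l < 5 := hw l (by simp)
    obtain ⟨a1, a2⟩ := ih hw' i
    obtain ⟨b1, b2⟩ := P.conj_shift hF hV i hl
    obtain ⟨c1, -⟩ := ih hw' 0
    obtain ⟨d1, -⟩ := P.conj_shift hF hV 0 hl
    have e1 : ∀ j, shiftWord j (w ++ [l]) = mmul tb0 (shiftWord j w) (shiftGen j l) := fun j => by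
      simp [shiftWord, List.foldl_append]
    rw [e1, e1]
    refine ⟨mmul_lt a1 b1, ?_⟩
    rw [P.std.facts.mval_mul hr0 a1 b1, P.std.facts.mval_mul hr0 c1 d1, a2, ← b2]
    group

theorem Five.r_word {q : ℕ} (hq : q < 10752) (hR : mval e a b q ∈ R) :
    (∀ l ∈ rWord q, l < 5) ∧ shiftWord 0 (rWord q) = q := by
  obtain ⟨g, hg, v, hv, he, hin⟩ := P.std.r_code hV hR
  have hinj := (mval_bij hV P.std.facts P.std.basis P.std.ha P.std.hb).2.1
  have hlt : v + 64 * g < 10752 := by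
    have := List.mem_range.1 hv
    simp only [List.mem_cons, List.not_mem_nil, or_false] at hg
    omega
  obtain rfl := hinj _ hlt _ hq he
  have h := rWords_spec
  simp only [List.all_eq_true, Nat.add_eq, Nat.mul_eq] at h
  have h := h g hg v hv
  rw [show inR tb0 0 0 (v + 64 * g) = true from hin] at h
  simp only [Bool.not_true, Bool.false_or, Bool.and_eq_true, List.all_eq_true, Nat.blt_eq, Nat.beq_eq] at h
  exact h

theorem Five.gen_mem {l : ℕ} (hl : l < 5) : mval e a b (shiftGen 0 l) ∈ R := by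
  obtain ⟨hlt, h41, -⟩ := gen_lt
  cases l with
  | zero => exact (P.std.inR_iff 41 (by norm_num)).2 h41
  | succ n =>
    show mval e a b (eAt n) ∈ R
    exact (P.std.inR_iff _ (hlt n (by omega)).1).2 (hlt n (by omega)).2

theorem Five.kappa_cases {i : ℕ} (h1 : 1 ≤ i) (h3 : i ≤ 3) :
    ∃ k ∈ kappaCands (i - 1), k < 10752 ∧
      f ^ i * mval e a b sCode = mval e a b k * f ^ (sNext.getD (i - 1) 0) := by
  have hr0 : (0 : ℕ) ∈ [0, 34, 57, 27] := by decide
  obtain ⟨-, -, -, hs, -, hsS, -, hk, -⟩ := gen_lt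
  obtain ⟨hkl, hj, hkS⟩ := hk (i - 1) (by omega)
  set j := sNext.getD (i - 1) 0
  set κ := kappas.getD (i - 1) 0
  have h5 := P.pow_five hF hV
  set S := mval e a b sCode
  have hSH : S ∈ H := (P.std.mem_H hF hs).2 hsS
  have hκH : mval e a b κ ∈ H := (P.std.mem_H hF hkl).2 hkS
  set x := f ^ i * S * f ^ (5 - j)
  set y := (mval e a b κ)⁻¹ * x
  have hyH : y ∈ H := mul_mem (inv_mem hκH) (mul_mem (mul_mem (pow_mem P.fH _) hSH) (pow_mem P.fH _))
  have hy : ∀ l < 5, y * mval e a b (shiftGen 0 l) = mval e a b (shiftGen 0 l) * y := by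
    intro l hl
    obtain ⟨g1, g2⟩ := P.conj_shift hF hV (5 - j) hl
    have gR : mval e a b (shiftGen (5 - j) l) ∈ R := g2 ▸ hF.norm _ (pow_mem P.fH _) _ (P.gen_mem hF hV hl)
    obtain ⟨s1, s2⟩ := P.std.facts.mval_mcj hr0 hs g1
    obtain ⟨w1, w2⟩ := P.r_word hF hV s2 (s1 ▸ hF.norm _ hSH _ gR)
    obtain ⟨t1, t2⟩ := P.shift_word hF hV _ w1 i
    rw [w2] at t2
    have hspec := sTarget_spec
    simp only [List.all_eq_true, Nat.beq_eq] at hspec
    have hi : i ∈ [1, 2, 3] := by interval_cases i <;> simp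
    have h := hspec i hi l (List.mem_range.2 hl)
    obtain ⟨k1, -⟩ := P.std.facts.mval_mcj hr0 hkl (P.conj_shift hF hV 0 hl).1
    have hx : x * mval e a b (shiftGen 0 l) * x⁻¹ =
        mval e a b κ * mval e a b (shiftGen 0 l) * (mval e a b κ)⁻¹ := by
      rw [← k1, show mcj (edTbl 0) κ (shiftGen 0 l) = sTarget i j l from h]
      show _ = mval e a b (shiftWord i (rWord (mcj tb0 sCode (shiftGen (5 - j) l))))
      rw [t2, s1, ← g2]
      simp only [x, S]
      group
    calc y * mval e a b (shiftGen 0 l)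
        = (mval e a b κ)⁻¹ * (x * mval e a b (shiftGen 0 l) * x⁻¹) * x := by simp only [y]; group
      _ = mval e a b (shiftGen 0 l) * y := by rw [hx]; simp only [y]; group
  have hyR : ∀ r ∈ R, y * r = r * y := by
    intro r hr
    obtain ⟨q, hq, rfl⟩ := (mval_bij hV P.std.facts P.std.basis P.std.ha P.std.hb).2.2 r (hV.r_le hr)
    obtain ⟨w1, w2⟩ := P.r_word hF hV hq hr
    rw [← w2]
    clear w2
    generalize rWord q = w' at w1 ⊢
    induction w' using List.reverseRecOn with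
    | nil =>
      show y * mval e a b 0 = mval e a b 0 * y
      rw [mval_low (by norm_num), iota_zero, mul_one, one_mul]
    | append_singleton w l ih =>
      have hw : ∀ z ∈ w, z < 5 := fun z hz => w1 z (by simp [hz])
      have hl : l < 5 := w1 l (by simp)
      rw [show shiftWord 0 (w ++ [l]) = mmul tb0 (shiftWord 0 w) (shiftGen 0 l) by
          simp [shiftWord, List.foldl_append],
        P.std.facts.mval_mul hr0 (P.shift_word hF hV w hw 0).1 (P.conj_shift hF hV 0 hl).1, ← mul_assoc,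
        ih hw, mul_assoc, hy l hl, ← mul_assoc]
  have hyM : y ∈ M := by
    rw [hV.hM, mem_normalizer_iff]
    intro v
    have hc : ∀ v ∈ V, y * v * y⁻¹ = v := fun v hv => by rw [hyR v (hV.v_le hv), mul_inv_cancel_right]
    refine ⟨fun h => (hc v h).symm ▸ h, fun h => ?_⟩
    have h2 := hc _ h
    have h3 : y * v * y⁻¹ = v := mul_left_cancel (mul_right_cancel h2)
    rwa [h3] at h
  obtain ⟨p, hp, hpy⟩ := (mval_bij hV P.std.facts P.std.basis P.std.ha P.std.hb).2.2 y hyM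
  have hpC : inC p = true := by
    have h := central_spec
    simp only [List.all_eq_true, Bool.or_eq_true, Bool.not_eq_true', Nat.add_eq, Nat.mul_eq] at h
    have hps : p / 64 ∈ stabList := List.contains_iff_mem.1 ((P.std.mem_H hF hp).1 (hpy ▸ hyH))
    have := h (p / 64) hps (p % 64) (List.mem_range.2 (Nat.mod_lt _ (by norm_num)))
    rw [show p % 64 + 64 * (p / 64) = p by omega] at this
    refine this.resolve_right fun hall => Bool.false_ne_true (hall.symm.trans (List.all_eq_true.2 ?_))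
    intro l hl
    have hl' := List.mem_range.1 hl
    obtain ⟨g1, -⟩ := P.conj_shift hF hV 0 hl'
    have := hy l hl'
    rw [← hpy, ← P.std.facts.mval_mul hr0 hp g1, ← P.std.facts.mval_mul hr0 g1 hp] at this
    exact Nat.beq_eq.mpr ((mval_bij hV P.std.facts P.std.basis P.std.ha P.std.hb).2.1 _ (mmul_lt hp g1) _
      (mmul_lt g1 hp) this)
  refine ⟨mmul tb0 κ p, List.mem_map.2 ⟨p, by simpa using inC_cases hpC, rfl⟩, mmul_lt hkl hp, ?_⟩
  rw [P.std.facts.mval_mul hr0 hkl hp, hpy]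
  simp only [y, x]
  have : f ^ (5 - j) * f ^ j = 1 := by rw [← pow_add, Nat.sub_add_cancel hj.le, h5]
  calc f ^ i * S = f ^ i * S * (f ^ (5 - j) * f ^ j) := by rw [this, mul_one]
    _ = _ := by group

theorem Five.edge_gen {k1 k2 k3 : ℕ} (hk : k1 < 10752 ∧ k2 < 10752 ∧ k3 < 10752)
    (hs1 : f * mval e a b sCode = mval e a b k1 * f ^ (sNext.getD 0 0))
    (hs2 : f ^ 2 * mval e a b sCode = mval e a b k2 * f ^ (sNext.getD 1 0))
    (hs3 : f ^ 3 * mval e a b sCode = mval e a b k3 * f ^ (sNext.getD 2 0))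
    {i l : ℕ} (hi : i < 5) (hl : l < 8) :
    (hEdge k1 k2 k3 i l).1 < 10752 ∧ (hEdge k1 k2 k3 i l).2 < 5 ∧
      f ^ i * hLet e a b f l = hVal e a b f (hEdge k1 k2 k3 i l) := by
  have hr0 : (0 : ℕ) ∈ [0, 34, 57, 27] := by decide
  obtain ⟨-, -, hk0, hs, hs3', -, -, hkap, hn1, hn2⟩ := gen_lt
  have h5 := P.pow_five hF hV
  have hpm : ∀ n, f ^ n = f ^ (n % 5) := fun n => by
    conv_lhs => rw [← Nat.mod_add_div n 5]
    rw [pow_add, pow_mul, h5, one_pow, mul_one]
  have h0 : mval e a b 0 = 1 := by rw [mval_low (by norm_num), iota_zero]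
  by_cases h7 : l = 7
  · subst h7
    refine ⟨show (0 : ℕ) < 10752 by norm_num, Nat.mod_lt _ (by norm_num), ?_⟩
    show f ^ i * f = mval e a b 0 * f ^ ((i + 1) % 5)
    rw [h0, one_mul, ← hpm, pow_succ]
  by_cases h6 : l = 6
  · subst h6
    show (sEdge k1 k2 k3 i).1 < 10752 ∧ (sEdge k1 k2 k3 i).2 < 5 ∧
      f ^ i * mval e a b sCode = hVal e a b f (sEdge k1 k2 k3 i)
    interval_cases i
    · exact ⟨hs, show 0 < 5 by norm_num, by
        show f ^ 0 * _ = mval e a b sCode * f ^ 0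
        simp⟩
    · exact ⟨hk.1, (hkap 0 (by norm_num)).2.1, by rw [pow_one]; exact hs1⟩
    · exact ⟨hk.2.1, (hkap 1 (by norm_num)).2.1, hs2⟩
    · exact ⟨hk.2.2, (hkap 2 (by norm_num)).2.1, hs3⟩
    · obtain ⟨m1, m2⟩ := P.std.facts.mval_minv hr0 (mmul_lt (tb := edTbl 0) hk.2.1 hk.2.2)
      refine ⟨m2, show 2 < 5 by norm_num, ?_⟩
      show f ^ 4 * _ = mval e a b (minv (edTbl 0) (mmul (edTbl 0) k2 k3)) * f ^ 2
      rw [m1, P.std.facts.mval_mul hr0 hk.2.1 hk.2.2, eq_inv_mul_iff_mul_eq]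
      rw [hn1] at hs2
      rw [hn2] at hs3
      have hs3p : mval e a b sCode * (mval e a b sCode * mval e a b sCode) = 1 := by
        have := P.std.facts.mval_pow hr0 hs 3
        rw [hs3', h0] at this
        rw [this, pow_succ, pow_succ, pow_one, mul_assoc]
      calc mval e a b k2 * mval e a b k3 * (f ^ 4 * mval e a b sCode)
          = mval e a b k2 * (mval e a b k3 * f ^ 4) * mval e a b sCode := by group
        _ = mval e a b k2 * (f ^ 3 * mval e a b sCode) * mval e a b sCode := by rw [hs3]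
        _ = (mval e a b k2 * f ^ 3) * mval e a b sCode * mval e a b sCode := by group
        _ = f ^ 2 * mval e a b sCode * mval e a b sCode * mval e a b sCode := by rw [hs2]
        _ = f ^ 2 := by simp only [mul_assoc]; rw [hs3p, mul_one]
  by_cases h5' : l = 5
  · subst h5'
    refine ⟨hk0, Nat.mod_lt _ (by norm_num), ?_⟩
    show f ^ i * mval e a b kBase1 = mval e a b kBase1 * f ^ (3 * i % 5)
    have h : mval e a b kBase1 * f ^ (3 * i) * (mval e a b kBase1)⁻¹ = f ^ i := by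
      rw [← conj_pow, P.fk, ← pow_mul, hpm (2 * (3 * i)), hpm i]
      congr 1
      omega
    rw [← hpm, ← h]
    group
  have hl5 : l < 5 := by omega
  obtain ⟨g1, g2⟩ := P.conj_shift hF hV i hl5
  have hbq : ∀ n, l ≠ n → Nat.beq l n = false := fun n hn => by
    cases hh : Nat.beq l n
    · rfl
    · exact absurd (Nat.eq_of_beq_eq_true hh) hn
  have he : hEdge k1 k2 k3 i l = (shiftGen i l, i) := by
    simp only [hEdge, hbq 7 h7, hbq 6 h6, hbq 5 h5', cond_false]
  have hgen : kGen l = shiftGen 0 l := by interval_cases l <;> rfl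
  rw [he, hVal, hLet, if_neg h7, hgen, ← g2]
  exact ⟨g1, hi, by group⟩

theorem Five.walk_gen {k1 k2 k3 : ℕ}
    (hedge : ∀ i l, i < 5 → l < 8 → (hEdge k1 k2 k3 i l).1 < 10752 ∧ (hEdge k1 k2 k3 i l).2 < 5 ∧
      f ^ i * hLet e a b f l = hVal e a b f (hEdge k1 k2 k3 i l)) :
    ∀ (w : List ℕ), (∀ l ∈ w, l < 8) → ∀ x : ℕ × ℕ, x.1 < 10752 → x.2 < 5 →
      (hWalk k1 k2 k3 w x).1 < 10752 ∧ (hWalk k1 k2 k3 w x).2 < 5 ∧
        hVal e a b f (hWalk k1 k2 k3 w x) = hVal e a b f x * prodw (hLet e a b f) w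
  | [], _, x, hx, hx' => ⟨hx, hx', by simp [hWalk, prodw_nil]⟩
  | l :: w, hw, x, hx, hx' => by
    have hr0 : (0 : ℕ) ∈ [0, 34, 57, 27] := by decide
    obtain ⟨e1, e2, e3⟩ := hedge x.2 l hx' (hw l List.mem_cons_self)
    obtain ⟨r1, r2, r3⟩ := Five.walk_gen hedge w (fun y hy => hw y (List.mem_cons_of_mem _ hy))
      (mmul tb0 x.1 (hEdge k1 k2 k3 x.2 l).1, (hEdge k1 k2 k3 x.2 l).2) (mmul_lt hx e1) e2
    refine ⟨r1, r2, ?_⟩
    rw [hWalk, r3, prodw_cons, ← mul_assoc (hVal e a b f x)]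
    congr 1
    show mval e a b (mmul tb0 x.1 (hEdge k1 k2 k3 x.2 l).1) * f ^ (hEdge k1 k2 k3 x.2 l).2 =
      mval e a b x.1 * f ^ x.2 * hLet e a b f l
    rw [P.std.facts.mval_mul hr0 hx e1, mul_assoc (mval e a b x.1) (f ^ x.2), e3, hVal, mul_assoc]

theorem Five.hVal_inj {x y : ℕ × ℕ} (hx : x.1 < 10752) (hx' : x.2 < 5) (hy : y.1 < 10752) (hy' : y.2 < 5)
    (h : hVal e a b f x = hVal e a b f y) : x = y := by
  obtain ⟨hmem, hinj, -⟩ := mval_bij hV P.std.facts P.std.basis P.std.ha P.std.hb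
  have h5 := P.pow_five hF hV
  have key : ∀ {u v : ℕ × ℕ}, u.1 < 10752 → v.1 < 10752 → v.2 < 5 → u.2 ≤ v.2 →
      hVal e a b f u = hVal e a b f v → u = v := by
    intro u v hu hv hv' hle h
    have hd : f ^ (v.2 - u.2) = (mval e a b v.1)⁻¹ * mval e a b u.1 := by
      rw [eq_inv_mul_iff_mul_eq]
      refine mul_right_cancel (b := f ^ u.2) ?_
      rw [mul_assoc, ← pow_add, Nat.sub_add_cancel hle]
      exact h.symm
    rcases Nat.eq_zero_or_pos (v.2 - u.2) with h0 | hpos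
    · rw [h0, pow_zero, eq_comm, inv_mul_eq_one] at hd
      exact Prod.ext (hinj _ hu _ hv hd.symm) (by omega)
    · exfalso
      have hcop : (orderOf f).Coprime (v.2 - u.2) := by
        rw [P.order]
        exact (Nat.Prime.coprime_iff_not_dvd (by norm_num)).2 fun hdvd =>
          absurd (Nat.le_of_dvd hpos hdvd) (by omega)
      obtain ⟨n, hn⟩ := exists_pow_eq_self_of_coprime hcop.symm
      exact P.not_M (hn ▸ pow_mem (hd ▸ mul_mem (inv_mem (hmem _ hv)) (hmem _ hu)) n)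
  rcases Nat.le_total x.2 y.2 with hle | hle
  · exact key hx hy hy' hle h
  · exact (key hy hx hx' hle h.symm).symm

theorem Five.edge {i l : ℕ} (hi : i < 5) (hl : l < 8) :
    (hEdge (kappas.getD 0 0) (kappas.getD 1 0) (kappas.getD 2 0) i l).1 < 10752 ∧
      (hEdge (kappas.getD 0 0) (kappas.getD 1 0) (kappas.getD 2 0) i l).2 < 5 ∧
      f ^ i * hLet e a b f l =
        hVal e a b f (hEdge (kappas.getD 0 0) (kappas.getD 1 0) (kappas.getD 2 0) i l) := by
  obtain ⟨k1, m1, l1, q1⟩ := P.kappa_cases hF hV (i := 1) le_rfl (by norm_num)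
  obtain ⟨k2, m2, l2, q2⟩ := P.kappa_cases hF hV (i := 2) (by norm_num) (by norm_num)
  obtain ⟨k3, m3, l3, q3⟩ := P.kappa_cases hF hV (i := 3) (by norm_num) le_rfl
  rw [pow_one] at q1
  have hedge : ∀ i l, i < 5 → l < 8 → _ := fun i l hi hl => P.edge_gen hF hV ⟨l1, l2, l3⟩ q1 q2 q3 hi hl
  have hspec := kappa_spec
  simp only [List.all_eq_true, Bool.or_eq_true, Bool.and_eq_true, Nat.beq_eq] at hspec
  rcases hspec k1 m1 k2 m2 k3 m3 with ⟨rfl, rfl, rfl⟩ | hbad
  · exact hedge i l hi hl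
  exfalso
  simp only [hBad, List.any_eq_true, Bool.and_eq_true, Nat.beq_eq, Nat.blt_eq, List.all_eq_true,
    Bool.not_eq_true', Bool.and_eq_false_iff] at hbad
  obtain ⟨⟨n, w⟩, -, ha, ha', hn, hw, hne⟩ := hbad
  obtain ⟨-, -, r0⟩ := P.walk_gen hF hV hedge w hw (0, 0) (show (0 : ℕ) < 10752 by norm_num) (show (0 : ℕ) < 5 by norm_num)
  have hone : hVal e a b f (0, 0) = 1 := by
    show mval e a b 0 * f ^ 0 = 1
    rw [mval_low (by norm_num), iota_zero, pow_zero, mul_one]
  rw [show hWalk k1 k2 k3 w (0, 0) = (0, 0) from Prod.ext ha ha', hone, one_mul] at r0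
  obtain ⟨b1, b2, b3⟩ := P.walk_gen hF hV hedge w hw (0, n) (show (0 : ℕ) < 10752 by norm_num) hn
  rw [← r0, mul_one] at b3
  have hb := P.hVal_inj hF hV b1 b2 (show (0, n).1 < 10752 by norm_num) hn b3
  rcases hne with h | h <;> rw [hb] at h <;> simp at h

end Hom

end CfsgLib.HSRec
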