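import Cfsg.Agent.HSRec.HModel

/-!
Multiplication of the codes `(p, i)` of the centralizer of the involution.
-/

set_option autoImplicit false
set_option maxRecDepth 100000

namespace CfsgLib.HSRec

open Subgroup CfsgLib.CosetEnum

/-- Walk with the forced labels. -/
def hw (w : List ℕ) (x : ℕ × ℕ) : ℕ × ℕ :=
  hWalk (kappas.getD 0 0) (kappas.getD 1 0) (kappas.getD 2 0) w x

/-- A word for an element of `K`. -/
def kWord (p : ℕ) : List ℕ :=
  vWords.getD (Nat.mod p 64) [] ++ gWords.getD (stabList.idxOf (Nat.div p 64)) []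

/-- Product of two codes. -/
def hmul (x y : ℕ × ℕ) : ℕ × ℕ := hw (kWord y.1 ++ List.replicate y.2 7) x

/-- Inverse of a code. -/
def hinv (x : ℕ × ℕ) : ℕ × ℕ := hmul (0, Nat.mod (Nat.sub 5 x.2) 5) (minv tb0 x.1, 0)

/-- Is this a code of an element of the centralizer? -/
def hOK (x : ℕ × ℕ) : Prop := x.1 < 10752 ∧ stabList.contains (x.1 / 64) = true ∧ x.2 < 5

/-- Is this the word of the element? -/
def kWordOK (p : ℕ) : Bool :=
  (kWord p).all (fun l => Nat.blt l 8) &&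
    (Nat.beq (hw (kWord p) (0, 0)).1 p && Nat.beq (hw (kWord p) (0, 0)).2 0)

theorem kWord_spec : (stabList.all fun g => (List.range 64).all fun v =>
    kWordOK (Nat.add v (Nat.mul 64 g))) = true := by decide +kernel

section Hom

variable {G : Type*} [Group G] [Finite G] {t c : G} {R H V M A : Subgroup G} {e : ℕ → G} {a b f : G}
variable (hF : RFacts t c R H) (hV : VFacts t R V M A) (P : Five t R H V M A e a b f)
include hF hV P

theorem Five.hLet_mem {l : ℕ} (hl : l < 8) : hLet e a b f l ∈ H := by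
  obtain ⟨hlt, h41, hk0, hs, -, hsS, hkS, -⟩ := gen_lt
  rw [hLet]
  split_ifs with h7
  · exact P.fH
  have hK : ∀ n, n < 10752 → inR tb0 0 0 n = true → mval e a b n ∈ H := fun n hn hin =>
    hF.le ((P.std.inR_iff n hn).2 hin)
  have h1 := hK 41 (by norm_num) h41
  interval_cases l
  · exact h1
  · exact hK _ (hlt 0 (by norm_num)).1 (hlt 0 (by norm_num)).2
  · exact hK _ (hlt 1 (by norm_num)).1 (hlt 1 (by norm_num)).2
  · exact hK _ (hlt 2 (by norm_num)).1 (hlt 2 (by norm_num)).2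
  · exact hK _ (hlt 3 (by norm_num)).1 (hlt 3 (by norm_num)).2
  · exact (P.std.mem_H hF hk0).2 hkS
  · exact (P.std.mem_H hF hs).2 hsS
  · exact absurd rfl h7

theorem Five.hVal_mem {x : ℕ × ℕ} (hx : hOK x) : hVal e a b f x ∈ H :=
  mul_mem ((P.std.mem_H hF hx.1).2 hx.2.1) (pow_mem P.fH _)

theorem Five.hw_spec {w : List ℕ} (hw' : ∀ l ∈ w, l < 8) {x : ℕ × ℕ} (hx : hOK x) :
    hOK (hw w x) ∧ hVal e a b f (hw w x) = hVal e a b f x * prodw (hLet e a b f) w := by
  obtain ⟨h1, h2, h3⟩ := P.walk_gen hF hV (fun i l hi hl => P.edge hF hV hi hl) w hw' x hx.1 hx.2.2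
  refine ⟨⟨h1, (P.std.mem_H hF h1).1 ?_, h2⟩, h3⟩
  have hm : hVal e a b f (hw w x) ∈ H := by
    rw [show hVal e a b f (hw w x) = _ from h3]
    refine mul_mem (P.hVal_mem hF hV hx) ?_
    clear h1 h2 h3
    induction w with
    | nil => simp [prodw_nil]
    | cons l w ih =>
      rw [prodw_cons]
      exact mul_mem (P.hLet_mem hF hV (hw' l List.mem_cons_self))
        (ih fun y hy => hw' y (List.mem_cons_of_mem _ hy))
  exact (mul_mem_cancel_right (pow_mem P.fH _)).1 hm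

theorem Five.hOK_one : hOK (0, 0) ∧ hVal e a b f (0, 0) = 1 := by
  refine ⟨⟨show (0 : ℕ) < 10752 by norm_num, by decide, show (0 : ℕ) < 5 by norm_num⟩, ?_⟩
  show mval e a b 0 * f ^ 0 = 1
  rw [mval_low (by norm_num), iota_zero, pow_zero, mul_one]

theorem Five.kWord_eq {p : ℕ} (hp : p < 10752) (hS : stabList.contains (p / 64) = true) :
    (∀ l ∈ kWord p, l < 8) ∧ prodw (hLet e a b f) (kWord p) = mval e a b p := by
  have h := kWord_spec
  simp only [List.all_eq_true, Nat.add_eq, Nat.mul_eq] at h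
  have h := h (p / 64) (List.contains_iff_mem.1 hS) (p % 64) (List.mem_range.2 (Nat.mod_lt _ (by norm_num)))
  rw [show p % 64 + 64 * (p / 64) = p by omega] at h
  simp only [kWordOK, Bool.and_eq_true, List.all_eq_true, Nat.blt_eq, Nat.beq_eq] at h
  obtain ⟨h1, h2, h3⟩ := h
  obtain ⟨o1, o2⟩ := P.hOK_one hF hV
  obtain ⟨-, e1⟩ := P.hw_spec hF hV h1 o1
  rw [o2, one_mul, show hw (kWord p) (0, 0) = (p, 0) from Prod.ext h2 h3] at e1
  refine ⟨h1, e1.symm.trans ?_⟩
  show mval e a b p * f ^ 0 = _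
  rw [pow_zero, mul_one]

theorem Five.hmul_spec {x y : ℕ × ℕ} (hx : hOK x) (hy : hOK y) :
    hOK (hmul x y) ∧ hVal e a b f (hmul x y) = hVal e a b f x * hVal e a b f y := by
  obtain ⟨k1, k2⟩ := P.kWord_eq hF hV hy.1 hy.2.1
  have hl : ∀ l ∈ kWord y.1 ++ List.replicate y.2 7, l < 8 := by
    intro l hl
    rcases List.mem_append.1 hl with h | h
    · exact k1 l h
    · rw [(List.mem_replicate.1 h).2]; norm_num
  obtain ⟨h1, h2⟩ := P.hw_spec hF hV hl hx
  refine ⟨h1, h2.trans ?_⟩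
  congr 1
  rw [prodw_append, k2]
  show _ = mval e a b y.1 * f ^ y.2
  congr 1
  generalize y.2 = n
  induction n with
  | zero => simp [prodw_nil]
  | succ n ih => rw [List.replicate_succ, prodw_cons, ih, pow_succ']; simp [hLet]

theorem Five.hinv_spec {x : ℕ × ℕ} (hx : hOK x) :
    hOK (hinv x) ∧ hVal e a b f (hinv x) = (hVal e a b f x)⁻¹ := by
  have hr0 : (0 : ℕ) ∈ [0, 34, 57, 27] := by decide
  obtain ⟨m1, m2⟩ := P.std.facts.mval_minv hr0 hx.1
  have hi : hOK (0, Nat.mod (Nat.sub 5 x.2) 5) :=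
    ⟨show (0 : ℕ) < 10752 by norm_num, show stabList.contains (0 / 64) = true by decide,
      Nat.mod_lt _ (by norm_num)⟩
  have hj : hOK (minv tb0 x.1, 0) :=
    ⟨m2, (P.std.mem_H hF m2).1 (m1 ▸ inv_mem ((P.std.mem_H hF hx.1).2 hx.2.1)), show (0 : ℕ) < 5 by norm_num⟩
  obtain ⟨h1, h2⟩ := P.hmul_spec hF hV hi hj
  refine ⟨h1, h2.trans ?_⟩
  show mval e a b 0 * f ^ ((5 - x.2) % 5) * (mval e a b (minv tb0 x.1) * f ^ 0) = (mval e a b x.1 * f ^ x.2)⁻¹
  rw [show mval e a b (minv tb0 x.1) = _ from m1, mval_low (by norm_num), iota_zero, one_mul, pow_zero,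
    mul_one, mul_inv_rev]
  congr 1
  rw [eq_inv_iff_mul_eq_one, ← pow_add]
  have h5 := P.pow_five hF hV
  have hlt := hx.2.2
  obtain h | h : ((5 - x.2) % 5 + x.2 = 0) ∨ ((5 - x.2) % 5 + x.2 = 5) := by omega
  · rw [h, pow_zero]
  · rw [h, h5]

omit [Group G] [Finite G] hF hV P in
theorem hcodes : ∃ D : Finset (ℕ × ℕ), D.card = 7680 ∧ ∀ x ∈ D, hOK x := by
  classical
  obtain ⟨T, hT, hmem⟩ : ∃ T : Finset ℕ, T.card = 24 ∧ ∀ g ∈ T, g < 168 ∧ stabList.contains g = true :=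
    ⟨stabList.toFinset, by rw [List.toFinset_card_of_nodup stab_len.2.1, stab_len.1],
      fun g hg => ⟨stab_len.2.2 g (List.mem_toFinset.1 hg), List.contains_iff_mem.2 (List.mem_toFinset.1 hg)⟩⟩
  refine ⟨(T ×ˢ Finset.range 64 ×ˢ Finset.range 5).image fun q => (q.2.1 + 64 * q.1, q.2.2), ?_, ?_⟩
  · rw [Finset.card_image_of_injOn, Finset.card_product, Finset.card_product, Finset.card_range,
      Finset.card_range, hT]
    rintro ⟨g, v, i⟩ hu ⟨g', v', i'⟩ hu' heq
    simp only [Finset.coe_product, Set.mem_prod, Finset.mem_coe, Finset.mem_range] at hu hu'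
    simp only [Prod.mk.injEq] at heq ⊢
    omega
  · intro x hx
    simp only [Finset.mem_image, Finset.mem_product, Finset.mem_range] at hx
    obtain ⟨⟨g, v, i⟩, ⟨hg, hv, hi⟩, rfl⟩ := hx
    dsimp only at hg hv hi ⊢
    obtain ⟨h1, h2⟩ := hmem g hg
    refine ⟨?_, ?_, hi⟩ <;> dsimp only
    · omega
    · rwa [show (v + 64 * g) / 64 = g by omega]

theorem Five.hVal_surj {h : G} (hh : h ∈ H) : ∃ x, hOK x ∧ hVal e a b f x = h := by
  classical
  obtain ⟨D, hcard, hD⟩ := hcodes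
  let S : Finset G := (Set.toFinite (H : Set G)).toFinset
  have hScard : S.card = 7680 := by
    rw [← hF.cardH]
    exact (Nat.card_eq_card_finite_toFinset (Set.toFinite (H : Set G))).symm
  have himg : D.image (hVal e a b f) = S := by
    refine Finset.eq_of_subset_of_card_le ?_ (le_of_eq ?_)
    · intro y hy
      obtain ⟨x, hx, rfl⟩ := Finset.mem_image.1 hy
      exact (Set.Finite.mem_toFinset _).2 (P.hVal_mem hF hV (hD x hx))
    · rw [hScard, Finset.card_image_of_injOn, hcard]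
      intro u hu v hv
      exact fun e' => P.hVal_inj hF hV (hD u hu).1 (hD u hu).2.2 (hD v hv).1 (hD v hv).2.2 e'
  have : h ∈ S := (Set.Finite.mem_toFinset _).2 hh
  rw [← himg] at this
  obtain ⟨x, hx, rfl⟩ := Finset.mem_image.1 this
  exact ⟨x, hD x hx, rfl⟩

end Hom

end CfsgLib.HSRec
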