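import Cfsg.Agent.HSRec.LogBData

/-! A logged coset enumeration: checks. -/

set_option autoImplicit false
set_option maxRecDepth 100000
set_option Elab.async false

namespace CfsgLib.HSRec.B

open CfsgLib.CosetEnum CfsgLib.HNXYZ CfsgLib.LyG2

noncomputable section

theorem chunk0 : log.chunk 10 0 = true := by decide +kernel

theorem chunk1 : log.chunk 10 1024 = true := by decide +kernel

theorem chunk2 : log.chunk 10 2048 = true := by decide +kernel

theorem chunk3 : log.chunk 10 3072 = true := by decide +kernel

theorem chunk4 : log.chunk 10 4096 = true := by decide +kernel

theorem chunk5 : log.chunk 10 5120 = true := by decide +kernel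

theorem chunk6 : log.chunk 10 6144 = true := by decide +kernel

theorem chunk7 : log.chunk 10 7168 = true := by decide +kernel

theorem chunk8 : log.chunk 10 8192 = true := by decide +kernel

theorem chunk9 : log.chunk 10 9216 = true := by decide +kernel

theorem chunk10 : log.chunk 10 10240 = true := by decide +kernel

theorem chunk11 : log.chunk 10 11264 = true := by decide +kernel

theorem chunk12 : log.chunk 10 12288 = true := by decide +kernel

theorem chunk13 : log.chunk 10 13312 = true := by decide +kernel

theorem chunk14 : log.chunk 10 14336 = true := by decide +kernel

theorem chunk15 : log.chunk 10 15360 = true := by decide +kernel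

theorem chunk16 : log.chunk 10 16384 = true := by decide +kernel

theorem chunk17 : log.chunk 10 17408 = true := by decide +kernel

theorem chunk18 : log.chunk 10 18432 = true := by decide +kernel

theorem chunk19 : log.chunk 10 19456 = true := by decide +kernel

theorem chunk20 : log.chunk 10 20480 = true := by decide +kernel

theorem chunk21 : log.chunk 10 21504 = true := by decide +kernel

theorem chunk22 : log.chunk 10 22528 = true := by decide +kernel

theorem chunk23 : log.chunk 10 23552 = true := by decide +kernel

theorem factsOK : ∀ i < log.nF, log.factOK i = true := by
  intro i hi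
  have hi : i < 24463 := hi
  by_cases h0 : i < 1024
  · exact chunk_spec _ chunk0 i (by omega) (by omega)
  by_cases h1 : i < 2048
  · exact chunk_spec _ chunk1 i (by omega) (by omega)
  by_cases h2 : i < 3072
  · exact chunk_spec _ chunk2 i (by omega) (by omega)
  by_cases h3 : i < 4096
  · exact chunk_spec _ chunk3 i (by omega) (by omega)
  by_cases h4 : i < 5120
  · exact chunk_spec _ chunk4 i (by omega) (by omega)
  by_cases h5 : i < 6144
  · exact chunk_spec _ chunk5 i (by omega) (by omega)
  by_cases h6 : i < 7168
  · exact chunk_spec _ chunk6 i (by omega) (by omega)
  by_cases h7 : i < 8192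
  · exact chunk_spec _ chunk7 i (by omega) (by omega)
  by_cases h8 : i < 9216
  · exact chunk_spec _ chunk8 i (by omega) (by omega)
  by_cases h9 : i < 10240
  · exact chunk_spec _ chunk9 i (by omega) (by omega)
  by_cases h10 : i < 11264
  · exact chunk_spec _ chunk10 i (by omega) (by omega)
  by_cases h11 : i < 12288
  · exact chunk_spec _ chunk11 i (by omega) (by omega)
  by_cases h12 : i < 13312
  · exact chunk_spec _ chunk12 i (by omega) (by omega)
  by_cases h13 : i < 14336
  · exact chunk_spec _ chunk13 i (by omega) (by omega)
  by_cases h14 : i < 15360
  · exact chunk_spec _ chunk14 i (by omega) (by omega)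
  by_cases h15 : i < 16384
  · exact chunk_spec _ chunk15 i (by omega) (by omega)
  by_cases h16 : i < 17408
  · exact chunk_spec _ chunk16 i (by omega) (by omega)
  by_cases h17 : i < 18432
  · exact chunk_spec _ chunk17 i (by omega) (by omega)
  by_cases h18 : i < 19456
  · exact chunk_spec _ chunk18 i (by omega) (by omega)
  by_cases h19 : i < 20480
  · exact chunk_spec _ chunk19 i (by omega) (by omega)
  by_cases h20 : i < 21504
  · exact chunk_spec _ chunk20 i (by omega) (by omega)
  by_cases h21 : i < 22528
  · exact chunk_spec _ chunk21 i (by omega) (by omega)
  by_cases h22 : i < 23552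
  · exact chunk_spec _ chunk22 i (by omega) (by omega)
  exact chunk_spec _ chunk23 i (by omega) (by omega)

theorem edges0 : allR (log.edgesOK closed) 10 0 = true := by decide +kernel

theorem edges1 : allR (log.edgesOK closed) 10 1024 = true := by decide +kernel

theorem edges2 : allR (log.edgesOK closed) 10 2048 = true := by decide +kernel

theorem edges3 : allR (log.edgesOK closed) 10 3072 = true := by decide +kernel

theorem edges4 : allR (log.edgesOK closed) 10 4096 = true := by decide +kernel

theorem edges5 : allR (log.edgesOK closed) 10 5120 = true := by decide +kernel

theorem edges6 : allR (log.edgesOK closed) 10 6144 = true := by decide +kernel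

theorem edges7 : allR (log.edgesOK closed) 10 7168 = true := by decide +kernel

theorem edgesOK : allR (log.edgesOK closed) 13 0 = true :=
  allR_join (allR_join (allR_join edges0 (by decide) edges1) (by decide) (allR_join edges2 (by decide) edges3))
    (by decide) (allR_join (allR_join edges4 (by decide) edges5) (by decide) (allR_join edges6 (by decide) edges7))

theorem letters_ok : log.words.all (fun w => w.all fun x => Nat.blt x 14) = true := by decide +kernel

theorem sub_words : log.words.drop log.nR = [[0], [2], [6]] := by decide +kernel

end

end CfsgLib.HSRec.B
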