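import Cfsg.Agent.HSRec.Theta
import Cfsg.Agent.HSRec.LogB

/-!
The amalgam is the Higman–Sims group: an injective homomorphism into the group.
-/

set_option autoImplicit false
set_option maxRecDepth 100000
set_option Elab.async false

namespace CfsgLib.HSRec

open Subgroup CfsgLib.CosetEnum CfsgLib.LyG2 CfsgLib.HNXYZ
open Equiv (Perm)
open CfsgLib.Mathieu.HigmanSims (hs)

theorem map_prodw' {X Y : Type*} [Group X] [Group Y] (χ : X →* Y) (v : ℕ → X) (w : List ℕ) :
    χ (prodw v w) = prodw (fun i => χ (v i)) w := by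
  simp [prodw, map_list_prod, Function.comp_def]

theorem logB_check : (B.log.words.take B.log.nR).all (fun w => wordOK w || leq w relB) = true := by
  decide +kernel

theorem relB_perm : prodw pl relB = 1 := by
  refine Equiv.ext ?_
  decide +kernel

/-- The generators of the centralizer as words. -/
def genW : ℕ → List ℕ
  | 0 => [3, 6, 3, 6, 3, 6]
  | 1 => [1, 7, 2, 1, 2, 7, 7]
  | 2 => [0, 3, 1, 1, 1, 3]
  | 3 => [0, 0, 3, 0, 3, 1]
  | 4 => [1, 2, 1, 2]
  | 5 => [0]
  | 6 => [2]
  | _ => [6]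

theorem genW_spec : ∀ l < 8, (genW l).all (fun z => Nat.blt z 4 || (Nat.ble 6 z && Nat.blt z 8)) = true ∧
    hEval (genW l) = (bif Nat.beq l 7 then (0, 1) else (kGen l, 0)) := by decide +kernel

theorem genW_let {G : Type*} [Group G] {e : ℕ → G} {a b f : G} (P : Model e a b f) {l : ℕ} (hl : l < 8) :
    (∀ z ∈ genW l, z < 4 ∨ 6 ≤ z ∧ z < 8) ∧ prodw (plet e a b f) (genW l) = hLet e a b f l := by
  obtain ⟨h1, h2⟩ := genW_spec l hl
  simp only [List.all_eq_true, Bool.or_eq_true, Bool.and_eq_true, Nat.blt_eq, Nat.ble_eq] at h1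
  refine ⟨h1, (P.hEval_spec _ h1).2.2.symm.trans ?_⟩
  rw [h2]
  by_cases h7 : l = 7
  · subst h7
    show mval e a b 0 * f ^ 1 = _
    rw [P.one.1, one_mul, pow_one]
    simp [hLet]
  · rw [hLet, if_neg h7, show Nat.beq l 7 = false from by
      cases hh : Nat.beq l 7
      · rfl
      · exact absurd (Nat.eq_of_beq_eq_true hh) h7]
    show mval e a b (kGen l) * f ^ 0 = _
    rw [pow_zero, mul_one]

theorem perm_orders : (prodw pl word7 ≠ 1 ∧ prodw pl word7 ^ 7 = 1) ∧
    (prodw pl word11 ≠ 1 ∧ prodw pl word11 ^ 11 = 1) := by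
  have key : ∀ σ : Perm (Fin 100), σ 0 ≠ 0 ∨ σ 1 ≠ 1 ∨ σ 2 ≠ 2 → σ ≠ 1 := by
    rintro σ h rfl
    simp at h
  refine ⟨⟨key _ (by decide +kernel), ?_⟩, ⟨key _ (by decide +kernel), ?_⟩⟩ <;>
    (refine Equiv.ext ?_; decide +kernel)

theorem nine_facts : prodw pl word3a ^ 3 = 1 ∧ prodw pl word3b ^ 3 = 1 ∧
    prodw pl word3a * prodw pl word3b = prodw pl word3b * prodw pl word3a := by
  refine ⟨?_, ?_, ?_⟩ <;> (refine Equiv.ext ?_; decide +kernel)

theorem nine_inj : ∀ i < 3, ∀ j < 3, i + j ≠ 0 →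
    ∃ z : Fin 100, (prodw pl word3a ^ i * prodw pl word3b ^ j) z ≠ z := by decide +kernel

theorem orb_spec : ∀ z : Fin 100, (∀ l ∈ orbWords.getD z.val [], l < 8) ∧
    (prodw pl (orbWords.getD z.val []) 0) = z := by decide +kernel

theorem word_lt : (∀ l ∈ word7, l < 8) ∧ (∀ l ∈ word11, l < 8) ∧ (∀ l ∈ word3a, l < 8) ∧
    (∀ l ∈ word3b, l < 8) ∧ stabList.contains (kBase1 / 64) = true := by decide +kernel

theorem prodw_mem {X : Type*} [Group X] {v : ℕ → X} {Q : Subgroup X} {w : List ℕ}
    (h : ∀ l ∈ w, v l ∈ Q) : prodw v w ∈ Q := by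
  induction w with
  | nil => simp [prodw]
  | cons l w ih =>
    rw [prodw_cons]
    exact mul_mem (h l List.mem_cons_self) (ih fun y hy => h y (List.mem_cons_of_mem _ hy))

/-- A subgroup of index at most five of a simple group of order 44352000 is everything. -/
theorem eq_top_of_index {X : Type*} [Group X] [Finite X] [IsSimpleGroup X] (hX : Nat.card X = 44352000)
    (Q : Subgroup X) (hd : 8870400 ∣ Nat.card Q) : Q = ⊤ := by
  classical
  by_contra hne
  have hidx : Q.index ≤ 5 := by
    have h := Q.card_mul_index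
    rw [hX] at h
    obtain ⟨k, hk⟩ := hd
    rw [hk, mul_assoc] at h
    have h5 : k * Q.index = 5 := by omega
    exact Nat.le_of_dvd (by norm_num) (Dvd.intro_left k h5)
  rcases IsSimpleGroup.eq_bot_or_eq_top_of_normal Q.normalCore inferInstance with hb | ht
  · have hinj : Function.Injective (MulAction.toPermHom X (X ⧸ Q)) := by
      rw [← MonoidHom.ker_eq_bot_iff, ← Q.normalCore_eq_ker, hb]
    have h := Nat.card_le_card_of_injective _ hinj
    haveI : Fintype (X ⧸ Q) := Fintype.ofFinite _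
    rw [hX, Nat.card_eq_fintype_card, Fintype.card_perm, ← Nat.card_eq_fintype_card, ← Subgroup.index] at h
    have := Nat.factorial_le hidx
    have h120 : Nat.factorial 5 = 120 := by decide
    omega
  · exact hne (top_le_iff.1 (ht ▸ Q.normalCore_le))

variable {G : Type*} [Group G] [Finite G] {t c : G} {R H V M A : Subgroup G} {e : ℕ → G} {a b f : G}
variable (hF : RFacts t c R H) (hV : VFacts t R V M A) (P : Five t R H V M A e a b f)
include hF hV P

theorem Five.exists_hom : ∃ φ : hs →* G, Function.Injective φ ∧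
    (∀ l, ∀ hl : l < 8, φ ⟨pl l, pl_mem hl⟩ = plet e a b f l) ∧
    ∀ x, hOK x → ∃ h : hValP x ∈ hs, φ ⟨hValP x, h⟩ = hVal e a b f x := by
  classical
  have Mo := P.model hF hV
  haveI := Mathieu.HigmanSims.hs_isSimpleGroup
  obtain ⟨θ, θinj, θval⟩ := P.exists_theta hF hV
  let g8 : ℕ → G × Perm (Fin 100) := fun l => (plet e a b f l, pl l)
  have g8iv : ∀ l, g8 (iv l) = (g8 l)⁻¹ := fun l => Prod.ext (plet_iv e a b f l) (pl_inv l)
  have hfst : ∀ w, (prodw g8 w).1 = prodw (plet e a b f) w := fun w =>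
    map_prodw' (MonoidHom.fst G (Perm (Fin 100))) g8 w
  have hsnd : ∀ w, (prodw g8 w).2 = prodw pl w := fun w =>
    map_prodw' (MonoidHom.snd G (Perm (Fin 100))) g8 w
  have hR : ∀ r, r < B.log.nR → prodw g8 (B.log.words.getD r []) = 1 :=
    rels_of_check (g := g8) (fun w => wordOK w || leq w relB) (fun w hw' => by
      refine Prod.ext ?_ ?_
      · rw [hfst]
        rcases Bool.or_eq_true_iff.1 hw' with h | h
        · exact Mo.word_one h
        · rw [leq_eq _ _ h]; exact P.relB_one hF hV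
      · rw [hsnd]
        rcases Bool.or_eq_true_iff.1 hw' with h | h
        · exact model_p.word_one h
        · rw [leq_eq _ _ h]; exact relB_perm) (by decide +kernel) logB_check
  let ψ : H →* G × Perm (Fin 100) := (H.subtype).prod θ
  have ψval : ∀ x, hOK x → (hVal e a b f x, hValP x) ∈ ψ.range := fun x hx =>
    ⟨⟨_, P.hVal_mem hF hV hx⟩, Prod.ext rfl (θval x hx _ rfl)⟩
  have hsub : ∀ w ∈ B.log.words.drop B.log.nR, prodw g8 w ∈ ψ.range := by
    intro w hw'
    rw [B.sub_words] at hw'
    have key : ∀ w : List ℕ, (∀ z ∈ w, z < 4 ∨ 6 ≤ z ∧ z < 8) → prodw g8 w ∈ ψ.range := by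
      intro w hw2
      obtain ⟨h1, h2, h3⟩ := Mo.hEval_spec w hw2
      obtain ⟨-, -, h4⟩ := model_p.hEval_spec w hw2
      have hok : hOK (hEval w) := by
        refine ⟨h1, (P.std.mem_H hF h1).1 ?_, h2⟩
        have hm : hVal e a b f (hEval w) ∈ H := by
          rw [h3]
          refine prodw_mem fun l hl => ?_
          have hm8 : ∀ l, l < 4 ∨ 6 ≤ l ∧ l < 8 → plet e a b f l ∈ H := fun l hl => by
            rw [← Mo.sub_eq hl]
            refine prodw_mem fun z hz => P.hLet_mem hF hV ?_
            have := sub_spec.2.2.2.2.2.2 l (by omega)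
            simp only [List.all_eq_true, Nat.blt_eq] at this
            exact this z hz
          exact hm8 l (hw2 l hl)
        exact (mul_mem_cancel_right (pow_mem P.fH _)).1 hm
      have := ψval _ hok
      rwa [h3, show hValP (hEval w) = prodw pl w from h4,
        show (prodw (plet e a b f) w, prodw pl w) = prodw g8 w from Prod.ext (hfst w).symm (hsnd w).symm] at this
    simp only [List.mem_cons, List.not_mem_nil, or_false] at hw'
    rcases hw' with rfl | rfl | rfl <;> exact key _ (by decide)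
  let D : Subgroup (G × Perm (Fin 100)) := closure (g8 '' {x | x < B.log.k})
  have hD : Finite D ∧ Nat.card D ≤ 5775 * Nat.card ψ.range :=
    finite_and_card_le g8iv B.log ψ.range hR (subs_of_mem ψ.range hR hsub) (letters_lt14 B.letters_ok)
      B.factsOK B.closed (d := 13) (show B.log.k ≤ 14 by decide)
      (show ∀ x, x < 8 → iv x < 8 by decide) (show 5775 ≤ 2 ^ 13 by norm_num) (show 0 < 5775 by norm_num)
      (by decide +kernel) B.edgesOK
  haveI := hD.1
  have hDcard : Nat.card D ≤ 44352000 := by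
    have := hD.2
    rw [Nat.card_congr (MonoidHom.ofInjective (f := ψ) fun u v h => Subtype.ext (congrArg Prod.fst h)).toEquiv.symm,
      hF.cardH] at this
    omega
  have hg8 : ∀ l, l < 8 → g8 l ∈ D := fun l hl => subset_closure ⟨l, hl, rfl⟩
  let π : D →* Perm (Fin 100) := (MonoidHom.snd G (Perm (Fin 100))).comp D.subtype
  have hle : π.range ≤ hs := by
    rintro _ ⟨⟨d, hd⟩, rfl⟩
    show d.2 ∈ hs
    have hc : D ≤ hs.comap (MonoidHom.snd G (Perm (Fin 100))) := (closure_le _).2 <| by
      rintro _ ⟨l, hl, rfl⟩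
      exact pl_mem hl
    exact hc hd
  have hplmem : ∀ w : List ℕ, (∀ l ∈ w, l < 8) → prodw pl w ∈ π.range := fun w hw' =>
    prodw_mem fun l hl => ⟨⟨g8 l, hg8 l (hw' l hl)⟩, rfl⟩
  have hlet : ∀ l, l < 8 → hLet pE pA pB pF l ∈ π.range := fun l hl => by
    obtain ⟨h1, h2⟩ := genW_let model_p hl
    rw [← h2]
    exact hplmem _ fun z hz => by have := h1 z hz; omega
  have hθ : θ.range ≤ π.range := by
    rintro _ ⟨h, rfl⟩
    obtain ⟨x, hx, he⟩ := P.hVal_surj hF hV h.2
    rw [θval x hx h he.symm]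
    obtain ⟨k1, k2⟩ := model_p.kWord_eq hx.1 hx.2.1
    refine mul_mem (k2 ▸ prodw_mem fun l hl => hlet l (k1 l hl)) (pow_mem ?_ _)
    exact hlet 7 (by norm_num)
  have hord : ∀ (w : List ℕ) (n : ℕ), Nat.Prime n → (∀ l ∈ w, l < 8) → prodw pl w ≠ 1 →
      prodw pl w ^ n = 1 → n ∣ Nat.card π.range := by
    intro w n hn hw' hne hpow
    haveI := Fact.mk hn
    rw [← orderOf_eq_prime hpow hne, ← Subgroup.orderOf_mk (H := π.range) _ (hplmem w hw')]
    exact orderOf_dvd_natCard _
  obtain ⟨⟨o7, o7'⟩, o11, o11'⟩ := perm_orders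
  obtain ⟨w7, w11, w3a, w3b, -⟩ := word_lt
  have d9 : 9 ∣ Nat.card π.range := by
    obtain ⟨q3, z3, hqz⟩ := nine_facts
    set q := prodw pl word3a
    set z := prodw pl word3b
    have hcm : ∀ (x : zpowers q) (y : zpowers z), Commute ((zpowers q).subtype x) ((zpowers z).subtype y) := by
      rintro ⟨_, i, rfl⟩ ⟨_, j, rfl⟩
      exact (show Commute q z from hqz).zpow_zpow i j
    let Φ := MonoidHom.noncommCoprod (zpowers q).subtype (zpowers z).subtype hcm
    have hq1 : q ≠ 1 := fun h => by
      obtain ⟨x, hx⟩ := nine_inj 1 (by norm_num) 0 (by norm_num) (by norm_num)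
      simp [q] at h
      rw [h] at hx
      simp at hx
    have hz1 : z ≠ 1 := fun h => by
      obtain ⟨x, hx⟩ := nine_inj 0 (by norm_num) 1 (by norm_num) (by norm_num)
      simp [z] at h
      rw [h] at hx
      simp at hx
    haveI := Fact.mk (show Nat.Prime 3 by norm_num)
    have oq : orderOf q = 3 := orderOf_eq_prime q3 hq1
    have oz : orderOf z = 3 := orderOf_eq_prime z3 hz1
    have hΦ : Function.Injective Φ := by
      refine (injective_iff_map_eq_one Φ).2 ?_
      rintro ⟨⟨x, hx⟩, ⟨y, hy⟩⟩ h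
      obtain ⟨i, hi, rfl⟩ : ∃ i < 3, q ^ i = x := by
        obtain ⟨n, rfl⟩ := mem_powers_iff_mem_zpowers.2 hx
        exact ⟨n % 3, Nat.mod_lt _ (by norm_num), by rw [← oq, pow_mod_orderOf]⟩
      obtain ⟨j, hj, rfl⟩ : ∃ j < 3, z ^ j = y := by
        obtain ⟨n, rfl⟩ := mem_powers_iff_mem_zpowers.2 hy
        exact ⟨n % 3, Nat.mod_lt _ (by norm_num), by rw [← oz, pow_mod_orderOf]⟩
      by_cases h0 : i + j = 0
      · obtain ⟨rfl, rfl⟩ : i = 0 ∧ j = 0 := by omega
        simp
      · exfalso
        obtain ⟨x, hx⟩ := nine_inj i hi j hj h0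
        have h' : q ^ i * z ^ j = 1 := by simpa [Φ] using h
        exact hx (by rw [show prodw pl word3a ^ i * prodw pl word3b ^ j = 1 from h']; rfl)
    have hr : Φ.range ≤ π.range := by
      rintro _ ⟨⟨⟨x, hx⟩, ⟨y, hy⟩⟩, rfl⟩
      exact mul_mem (zpowers_le.2 (hplmem _ w3a) hx) (zpowers_le.2 (hplmem _ w3b) hy)
    have hc := Subgroup.card_dvd_of_le hr
    rw [Nat.card_congr (MonoidHom.ofInjective hΦ).toEquiv.symm, Nat.card_prod, Nat.card_zpowers,
      Nat.card_zpowers, oq, oz] at hc
    exact hc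
  have d100 : 100 ∣ Nat.card π.range := by
    haveI : MulAction.IsPretransitive π.range (Fin 100) := by
      refine MulAction.IsPretransitive.mk fun u v => ?_
      obtain ⟨h1, e1⟩ := orb_spec u
      obtain ⟨h2, e2⟩ := orb_spec v
      refine ⟨⟨_, hplmem _ h2⟩ * (⟨_, hplmem _ h1⟩)⁻¹, ?_⟩
      show (prodw pl (orbWords.getD v.val []) * (prodw pl (orbWords.getD u.val []))⁻¹) u = v
      rw [Equiv.Perm.mul_apply, show (prodw pl (orbWords.getD u.val []))⁻¹ u = 0 from
        Equiv.Perm.inv_eq_iff_eq.2 e1.symm, e2]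
    have h := Subgroup.index_dvd_card (MulAction.stabilizer π.range (0 : Fin 100))
    rwa [MulAction.index_stabilizer_of_transitive, Nat.card_eq_fintype_card (α := Fin 100),
      Fintype.card_fin] at h
  have d7680 : 7680 ∣ Nat.card π.range := by
    have hc := Subgroup.card_dvd_of_le hθ
    rwa [Nat.card_congr (MonoidHom.ofInjective θinj).toEquiv.symm, hF.cardH] at hc
  have hd : 8870400 ∣ Nat.card π.range := by
    have h7 := hord _ 7 (by norm_num) w7 o7 o7'
    have h11 := hord _ 11 (by norm_num) w11 o11 o11'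
    revert d9 d100 d7680 h7 h11
    generalize Nat.card π.range = n
    intro d9 d100 d7680 h7 h11
    exact Nat.Coprime.mul_dvd_of_dvd_of_dvd (m := 512 * 9 * 25 * 7) (n := 11) (by norm_num)
      (Nat.Coprime.mul_dvd_of_dvd_of_dvd (by norm_num)
        (Nat.Coprime.mul_dvd_of_dvd_of_dvd (by norm_num)
          (Nat.Coprime.mul_dvd_of_dvd_of_dvd (by norm_num)
            ((show 512 ∣ 7680 by norm_num).trans d7680) d9) ((show 25 ∣ 100 by norm_num).trans d100)) h7) h11
  have htop : π.range.subgroupOf hs = ⊤ := by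
    refine eq_top_of_index Mathieu.HigmanSims.card_hs _ ?_
    rw [Nat.card_congr (Subgroup.subgroupOfEquivOfLe hle).toEquiv]
    exact hd
  let π' : D →* hs := π.codRestrict hs fun d => hle ⟨d, rfl⟩
  have hsurj : Function.Surjective π' := by
    intro u
    obtain ⟨d, hd'⟩ : (u : Perm (Fin 100)) ∈ π.range := by
      have : u ∈ π.range.subgroupOf hs := htop ▸ mem_top u
      exact this
    exact ⟨d, Subtype.ext hd'⟩
  have hbij : Function.Bijective π' := by
    refine hsurj.bijective_of_nat_card_le ?_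
    rw [Mathieu.HigmanSims.card_hs]
    exact hDcard
  let E : D ≃* hs := MulEquiv.ofBijective π' hbij
  let φ : hs →* G := ((MonoidHom.fst G (Perm (Fin 100))).comp D.subtype).comp E.symm.toMonoidHom
  have hval : ∀ d : D, φ (π' d) = (d : G × Perm (Fin 100)).1 := fun d => by
    show ((E.symm (E d) : D) : G × Perm (Fin 100)).1 = _
    rw [E.symm_apply_apply]
  refine ⟨φ, ?_, fun l hl => hval ⟨g8 l, hg8 l hl⟩, ?_⟩
  · refine (injective_iff_map_eq_one φ).2 fun u hu => ?_
    rcases IsSimpleGroup.eq_bot_or_eq_top_of_normal φ.ker inferInstance with hb | ht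
    · exact (Subgroup.eq_bot_iff_forall _).1 hb u hu
    · exfalso
      have : plet e a b f 6 = 1 := by
        rw [show plet e a b f 6 = φ ⟨pl 6, pl_mem (by norm_num)⟩ from
          (hval ⟨g8 6, hg8 6 (by norm_num)⟩).symm]
        exact MonoidHom.mem_ker.1 (ht ▸ mem_top _)
      have h5 := P.order
      rw [show f = plet e a b f 6 by simp [plet, lv_eq, pgen], this, orderOf_one] at h5
      norm_num at h5
  · intro x hx
    obtain ⟨k1, k2⟩ := Mo.kWord_eq hx.1 hx.2.1
    obtain ⟨p1, p2⟩ := model_p.kWord_eq hx.1 hx.2.1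
    let W : List ℕ := ((kWord x.1 ++ List.replicate x.2 7).map genW).flatten
    have hW : ∀ z ∈ W, z < 8 := by
      intro z hz
      obtain ⟨v, hv, hzv⟩ := List.mem_flatten.1 hz
      obtain ⟨l, hl, rfl⟩ := List.mem_map.1 hv
      have hl8 : l < 8 := by
        rcases List.mem_append.1 hl with h | h
        · exact k1 l h
        · rw [(List.mem_replicate.1 h).2]; norm_num
      have := (genW_let Mo hl8).1 z hzv
      omega
    have expand : ∀ (v : ℕ → G × Perm (Fin 100)) (ws : List (List ℕ)),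
        prodw v ws.flatten = (ws.map (prodw v)).prod := fun v ws => by
      induction ws with
      | nil => rfl
      | cons w ws ih => rw [List.flatten_cons, prodw_append, ih]; simp
    have hpair : prodw g8 W = (hVal e a b f x, hValP x) := by
      have hmap : ((kWord x.1 ++ List.replicate x.2 7).map genW).map (prodw g8) =
          (kWord x.1 ++ List.replicate x.2 7).map fun l => (hLet e a b f l, hLet pE pA pB pF l) := by
        rw [List.map_map]
        refine List.map_congr_left fun l hl => ?_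
        have hl8 : l < 8 := by
          rcases List.mem_append.1 hl with h | h
          · exact k1 l h
          · rw [(List.mem_replicate.1 h).2]; norm_num
        refine Prod.ext ?_ ?_
        · exact (hfst _).trans (genW_let Mo hl8).2
        · exact (hsnd _).trans (genW_let model_p hl8).2
      rw [show prodw g8 W = _ from expand g8 _, hmap]
      show prodw (fun l => (hLet e a b f l, hLet pE pA pB pF l)) _ = _
      refine Prod.ext ?_ ?_
      · refine (map_prodw' (MonoidHom.fst G (Perm (Fin 100))) _ _).trans ?_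
        show prodw (hLet e a b f) _ = _
        rw [prodw_append, k2, hVal]
        simp [prodw, hLet]
      · refine (map_prodw' (MonoidHom.snd G (Perm (Fin 100))) _ _).trans ?_
        show prodw (hLet pE pA pB pF) _ = _
        rw [prodw_append, p2, hValP, hVal]
        simp [prodw, hLet]
        rfl
    have hmem : (hVal e a b f x, hValP x) ∈ D := hpair ▸ prodw_mem fun z hz => hg8 z (hW z hz)
    exact ⟨hle ⟨⟨_, hmem⟩, rfl⟩, hval ⟨_, hmem⟩⟩

end CfsgLib.HSRec
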