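import Cfsg.Agent.LocalStructure.Cores
import Cfsg.Agent.ExtraspecialBasic.DoubleCentralizer

/-!
The group `R = C ∘ E` of order 64, with `C` cyclic of order four and `E` extraspecial of order 32, as the
2-core of an involution centralizer `H` with `H/R ≅ S₅`.
-/

set_option autoImplicit false

namespace CfsgLib.HSRec

open Subgroup
open scoped commutatorElement

variable {G : Type*} [Group G]

/-- The facts about `R` and `H` that are used. -/
structure RFacts (t c : G) (R H : Subgroup G) : Prop where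
  ht : orderOf t = 2
  hH : H = centralizer ({t} : Set G)
  le : R ≤ H
  norm : ∀ h ∈ H, ∀ x ∈ R, h * x * h⁻¹ ∈ R
  cardR : Nat.card R = 64
  cardH : Nat.card H = 7680
  t_mem : t ∈ R
  sq : ∀ x ∈ R, x * x = 1 ∨ x * x = t
  comm : ∀ x ∈ R, ∀ y ∈ R, x * y = y * x ∨ x * y = t * (y * x)
  c_mem : c ∈ R
  c_comm : ∀ x ∈ R, c * x = x * c
  c_sq : c * c = t
  abel : ∀ X : Subgroup G, X ≤ R → (∀ x ∈ X, ∀ y ∈ X, x * y = y * x) → Nat.card X ≤ 16
  quot : ∃ π : H →* Equiv.Perm (Fin 5), Function.Surjective π ∧ ∀ h : H, π h = 1 ↔ (h : G) ∈ R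

/-- An abelian subgroup of an extraspecial group of order 32 that contains the centre has order at most 8. -/
theorem card_le_eight {P : Type*} [Group P] [Finite P] (hP : Cfsg.IsExtraspecial 2 P)
    (h32 : Nat.card P = 32) {K : Subgroup P} (hK : center P ≤ K)
    (hab : K ≤ centralizer (K : Set P)) : Nat.card K ≤ 8 := by
  haveI := Fact.mk Nat.prime_two
  have h := ExtraspecialBasic.card_centralizer_mul_card hP hK
  have hle := Subgroup.card_le_of_le hab
  rw [h32] at h
  by_contra hlt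
  have h9 : 9 ≤ Nat.card K := by omega
  have := Nat.mul_le_mul (hle.trans' h9) h9
  omega

theorem exists_rFacts [Finite G] (t : G) (ht : orderOf t = 2) (H : Subgroup G)
    (hH : H = centralizer ({t} : Set G)) (R : Subgroup G) (hR : R = (Cfsg.pCore 2 H).map H.subtype)
    (Cy E : Subgroup G) (hCy : IsCyclic Cy) (hCycard : Nat.card Cy = 4)
    (hCyle : Cy ≤ R ⊓ centralizer (R : Set G)) (hEle : E ≤ R) (hEex : Cfsg.IsExtraspecial 2 E)
    (hEcard : Nat.card E = 32) (hprod : Cy ⊔ E = R)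
    (hmeet : Cy ⊓ E = E ⊓ centralizer (E : Set G))
    (eH : H ⧸ Cfsg.pCore 2 H ≃* Equiv.Perm (Fin 5)) : ∃ c, RFacts t c R H := by
  haveI := Fact.mk Nat.prime_two
  have hcen : ∀ y ∈ Cy, ∀ x ∈ R, y * x = x * y := fun y hy x hx =>
    (mem_centralizer_iff.1 (hCyle hy).2 x hx).symm
  -- the product map
  let f : Cy × E →* G := MonoidHom.mk' (fun p => (p.1 : G) * (p.2 : G)) fun p q => by
    show ((p.1 : G) * q.1) * ((p.2 : G) * q.2) = (p.1 : G) * p.2 * ((q.1 : G) * q.2)
    simp only [mul_assoc]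
    congr 1
    rw [← mul_assoc, hcen _ q.1.2 _ (hEle p.2.2), mul_assoc]
  have hrange : f.range = R := by
    refine le_antisymm ?_ ?_
    · rintro _ ⟨p, rfl⟩
      exact mul_mem (hCyle p.1.2).1 (hEle p.2.2)
    · rw [← hprod]
      exact sup_le (fun y hy => ⟨(⟨y, hy⟩, 1), by simp [f]⟩) fun e he => ⟨(1, ⟨e, he⟩), by simp [f]⟩
  -- the centre of `E`
  have hZ : (center E).map E.subtype = E ⊓ centralizer (E : Set G) := by
    ext x
    simp only [mem_map, mem_inf, mem_center_iff, mem_centralizer_iff, coe_subtype]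
    constructor
    · rintro ⟨y, hy, rfl⟩
      exact ⟨y.2, fun g hg => congrArg Subtype.val (hy ⟨g, hg⟩)⟩
    · rintro ⟨hx, h⟩
      exact ⟨⟨x, hx⟩, fun g => Subtype.ext (h g g.2), rfl⟩
  have hcap : Nat.card (Cy ⊓ E : Subgroup G) = 2 := by
    rw [hmeet, ← hZ, card_map_of_injective E.subtype_injective, hEex.2]
  have hker : Nat.card f.ker = 2 := by
    rw [← hcap]
    refine Nat.card_congr
      { toFun := fun p => ⟨(p.1.1 : G), p.1.1.2, by
          rw [show ((p.1.1 : G)) = (p.1.2 : G)⁻¹ from eq_inv_of_mul_eq_one_left (MonoidHom.mem_ker.1 p.2)]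
          exact Subgroup.inv_mem E p.1.2.2⟩
        invFun := fun x => ⟨(⟨x.1, x.2.1⟩, ⟨x.1⁻¹, inv_mem x.2.2⟩),
          MonoidHom.mem_ker.2 (mul_inv_cancel x.1)⟩
        left_inv := fun p => Subtype.ext (Prod.ext (Subtype.ext rfl) (Subtype.ext
          (inv_eq_of_mul_eq_one_right (MonoidHom.mem_ker.1 p.2))))
        right_inv := fun x => rfl }
  have hcardR : Nat.card R = 64 := by
    have := f.ker.card_mul_index
    rw [index_ker, hker, hrange, Nat.card_prod, hCycard, hEcard] at this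
    omega
  have hcardH : Nat.card H = 7680 := by
    have h1 : Nat.card (Cfsg.pCore 2 H) = 64 := by
      rw [← hcardR, hR, card_map_of_injective H.subtype_injective]
    rw [card_eq_card_quotient_mul_card_subgroup (Cfsg.pCore 2 H), h1, Nat.card_congr eH.toEquiv,
      Nat.card_perm, Nat.card_fin]
    rfl
  have hle : R ≤ H := hR ▸ map_subtype_le _
  haveI hN : (Cfsg.pCore 2 H).Normal := LocalStructure.pCore_normal
  have hnorm : ∀ h ∈ H, ∀ x ∈ R, h * x * h⁻¹ ∈ R := by
    intro h hh x hx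
    rw [hR] at hx ⊢
    obtain ⟨x', hx', rfl⟩ := hx
    exact ⟨⟨h, hh⟩ * x' * ⟨h, hh⟩⁻¹, hN.conj_mem _ hx' _, rfl⟩
  have htH : t ∈ H := hH ▸ mem_centralizer_singleton_iff.2 rfl
  have ht2 : t * t = 1 := by rw [← pow_two, ← ht, pow_orderOf_eq_one]
  have hcentral : ∀ x ∈ R, t * x = x * t := fun x hx =>
    (mem_centralizer_singleton_iff.1 (hH ▸ hle hx)).symm
  have htR : t ∈ R := by
    rw [hR]
    refine ⟨⟨t, htH⟩, ?_, rfl⟩
    have hn : (zpowers (⟨t, htH⟩ : H)).Normal := ⟨fun y hy g => by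
      have hc : ∀ z : H, (⟨t, htH⟩ : H) * z = z * ⟨t, htH⟩ := fun z => Subtype.ext
        ((mem_centralizer_singleton_iff.1 (hH ▸ z.2)).symm)
      obtain ⟨k, rfl⟩ := mem_zpowers_iff.1 hy
      rw [((Commute.zpow_left (hc g) k).symm).eq, mul_inv_cancel_right]
      exact zpow_mem (mem_zpowers _) k⟩
    refine LocalStructure.le_pCore (N := zpowers (⟨t, htH⟩ : H)) ?_ (mem_zpowers _)
    refine IsPGroup.of_card (n := 1) ?_
    rw [Nat.card_zpowers, ← orderOf_injective H.subtype H.subtype_injective, pow_one]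
    exact ht
  -- the generator of `C` squares to `t`
  obtain ⟨g, hg⟩ := hCy.exists_generator
  have hc4 : orderOf (g : G) = 4 := by
    rw [Subgroup.orderOf_coe, orderOf_eq_card_of_forall_mem_zpowers hg,
      hCycard]
  have hg4 : (g : G) ^ 4 = 1 := hc4 ▸ pow_orderOf_eq_one _
  have hinv : ∀ y ∈ Cy, y * y = 1 → y = 1 ∨ y = (g : G) * g := by
    intro y hy hy2
    obtain ⟨k, hk⟩ : ∃ k : ℕ, g ^ k = ⟨y, hy⟩ :=
      (mem_powers_iff_mem_zpowers.2 (hg ⟨y, hy⟩))
    have hk' : (g : G) ^ k = y := congrArg Subtype.val hk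
    rw [← hk', ← pow_mod_orderOf, hc4] at hy2 ⊢
    rw [← pow_add, ← pow_mod_orderOf, hc4] at hy2
    have : k % 4 < 4 := Nat.mod_lt _ (by norm_num)
    have hne : ∀ m, 0 < m → m < 4 → (g : G) ^ m ≠ 1 := fun m h0 h4 =>
      pow_ne_one_of_lt_orderOf (by omega) (by omega)
    interval_cases h : k % 4
    · exact Or.inl (pow_zero _)
    · exact absurd hy2 (hne _ (by norm_num) (by norm_num))
    · exact Or.inr (pow_two _)
    · exact absurd hy2 (hne _ (by norm_num) (by norm_num))
  have hcapgen : ∀ x ∈ Cy ⊓ E, x = 1 ∨ x = (g : G) * g := by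
    intro x hx
    refine hinv x hx.1 ?_
    have : (⟨x, hx⟩ : (Cy ⊓ E : Subgroup G)) ^ 2 = 1 := by rw [← hcap]; exact pow_card_eq_one'
    rw [← pow_two]
    exact congrArg Subtype.val this
  have htgg : t = (g : G) * g := by
    have ht' : t ∈ f.range := hrange ▸ htR
    obtain ⟨p, hp⟩ := ht'
    have hp' : (p.1 : G) * p.2 = t := hp
    have he : (p.2 : G) ∈ E ⊓ centralizer (E : Set G) := by
      refine ⟨p.2.2, mem_centralizer_iff.2 fun x hx => ?_⟩
      have h1 := hcentral x (hEle hx)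
      rw [← hp', mul_assoc, ← mul_assoc x, ← hcen _ p.1.2 _ (hEle hx), mul_assoc] at h1
      exact (mul_left_cancel h1).symm
    rw [← hmeet] at he
    have htC : t ∈ Cy := hp' ▸ mul_mem p.1.2 he.1
    rcases hinv t htC ht2 with h | h
    · rw [h, orderOf_one] at ht; norm_num at ht
    · exact h
  have hzt : ∀ z : E, z ∈ center E → (z : G) = 1 ∨ (z : G) = t := by
    intro z hz
    have : (z : G) ∈ Cy ⊓ E := by rw [hmeet, ← hZ]; exact ⟨z, hz, rfl⟩
    exact (hcapgen _ this).imp_right fun h => h.trans htgg.symm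
  have hdec : ∀ x ∈ R, ∃ y ∈ Cy, ∃ e : E, x = y * e := fun x hx => by
    obtain ⟨p, hp⟩ : x ∈ f.range := hrange ▸ hx
    exact ⟨p.1, p.1.2, p.2, hp.symm⟩
  have hysq : ∀ y ∈ Cy, y * y = 1 ∨ y * y = t := by
    intro y hy
    refine (hinv _ (mul_mem hy hy) ?_).imp_right fun h => h.trans htgg.symm
    have : (⟨y, hy⟩ : Cy) ^ 4 = 1 := by rw [← hCycard]; exact pow_card_eq_one'
    have h4 : y ^ 4 = 1 := congrArg Subtype.val this
    rw [← h4, pow_succ, pow_succ, pow_succ, pow_one, mul_assoc (y * y)]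
  refine ⟨g, ht, hH, hle, hnorm, hcardR, hcardH, htR, ?_, ?_, (hCyle g.2).1, hcen _ g.2, htgg.symm, ?_,
    ⟨eH.toMonoidHom.comp (QuotientGroup.mk' _), eH.surjective.comp (QuotientGroup.mk'_surjective _),
      fun h => ?_⟩⟩
  · intro x hx
    obtain ⟨y, hy, e, rfl⟩ := hdec x hx
    have h1 : y * e * (y * e) = y * y * (e * e : G) := by
      rw [mul_assoc, ← mul_assoc (e : G), ← hcen y hy _ (hEle e.2)]
      simp only [mul_assoc]
    rw [h1]
    rcases hysq y hy with a | a <;> rcases hzt _ (ExtraspecialBasic.pow_mem_center hEex e) with b | b <;>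
      rw [SubmonoidClass.coe_pow, pow_two] at b <;> rw [a, b] <;> simp [ht2]
  · intro x hx x' hx'
    obtain ⟨y, hy, e, rfl⟩ := hdec x hx
    obtain ⟨y', hy', e', rfl⟩ := hdec x' hx'
    have h1 : ∀ (u v : G) (a b : E), u ∈ Cy → v ∈ Cy → u * a * (v * b) = u * v * (a * b : G) := by
      intro u v a b _ hv
      rw [mul_assoc, ← mul_assoc (a : G), ← hcen v hv _ (hEle a.2)]
      simp only [mul_assoc]
    rw [h1 _ _ _ _ hy hy', h1 _ _ _ _ hy' hy, hcen y hy y' (hCyle hy').1]
    have hk := hzt _ (ExtraspecialBasic.commutator_mem_center hEex e e')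
    have e1 : (e : G) * e' = ((⁅e, e'⁆ : E) : G) * (e' * e) := by
      simp only [commutatorElement_def, Subgroup.coe_mul, Subgroup.coe_inv]
      group
    rcases hk with h | h <;> rw [h] at e1
    · exact Or.inl (by rw [e1, one_mul])
    · refine Or.inr ?_
      rw [e1, ← mul_assoc, ← hcentral _ (mul_mem (hCyle hy').1 (hCyle hy).1)]
      simp only [mul_assoc]
  · intro X hX hab
    let B : Subgroup G :=
      { carrier := {e | e ∈ E ∧ ∃ y ∈ Cy, y * e ∈ X}
        one_mem' := ⟨one_mem _, 1, one_mem _, by rw [one_mul]; exact one_mem _⟩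
        mul_mem' := by
          rintro a b ⟨ha, y, hy, hya⟩ ⟨hb, y', hy', hyb⟩
          refine ⟨mul_mem ha hb, y * y', mul_mem hy hy', ?_⟩
          have := mul_mem hya hyb
          rwa [mul_assoc, ← mul_assoc a, ← hcen y' hy' a (hEle ha), mul_assoc, ← mul_assoc y] at this
        inv_mem' := by
          rintro a ⟨ha, y, hy, hya⟩
          refine ⟨inv_mem ha, y⁻¹, inv_mem hy, ?_⟩
          have := inv_mem hya
          rwa [mul_inv_rev, ← hcen _ (inv_mem hy) _ (hEle (inv_mem ha))] at this }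
    have hBc : ∀ a ∈ B, ∀ b ∈ B, a * b = b * a := by
      rintro a ⟨ha, y, hy, hya⟩ b ⟨hb, y', hy', hyb⟩
      have h := hab _ hya _ hyb
      have e1 : ∀ (u v : G), v ∈ Cy → ∀ p q : G, p ∈ E → u * p * (v * q) = u * v * (p * q) := by
        intro u v hv p q hp
        rw [mul_assoc, ← mul_assoc p, ← hcen v hv p (hEle hp)]
        simp only [mul_assoc]
      rw [e1 _ _ hy' _ _ ha, e1 _ _ hy _ _ hb, hcen y hy y' (hCyle hy').1] at h
      exact mul_left_cancel h
    let B' : Subgroup E := B.subgroupOf E ⊔ center E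
    have hB'ab : B' ≤ centralizer (B' : Set E) := by
      have hgen : ∀ a ∈ B', ∀ b ∈ B.subgroupOf E, a * b = b * a := by
        intro a ha b hb
        have : a ∈ centralizer ({b} : Set E) := by
          refine (sup_le (fun z hz => ?_) (fun z hz => ?_) : B' ≤ centralizer ({b} : Set E)) ha
          · exact mem_centralizer_singleton_iff.2 (Subtype.ext (hBc _ hz _ hb))
          · exact mem_centralizer_singleton_iff.2 (mem_center_iff.1 hz b).symm
        exact mem_centralizer_singleton_iff.1 this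
      intro a ha
      refine mem_centralizer_iff.2 fun b hb => ?_
      have : b ∈ centralizer ({a} : Set E) := by
        refine (sup_le (fun z hz => ?_) (fun z hz => ?_) : B' ≤ centralizer ({a} : Set E)) hb
        · exact mem_centralizer_singleton_iff.2 (hgen a ha z hz).symm
        · exact mem_centralizer_singleton_iff.2 (mem_center_iff.1 hz a).symm
      exact mem_centralizer_singleton_iff.1 this
    have h8 := card_le_eight hEex hEcard (le_sup_right : center E ≤ B') hB'ab
    let f' : Cy × B' →* G := f.comp (MonoidHom.prodMap (MonoidHom.id Cy) B'.subtype)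
    have hXle : X ≤ f'.range := by
      intro x hx
      obtain ⟨y, hy, e, rfl⟩ := hdec x (hX hx)
      exact ⟨(⟨y, hy⟩, ⟨e, mem_sup_left (show (e : G) ∈ B from ⟨e.2, y, hy, hx⟩)⟩), rfl⟩
    have hker' : 2 ≤ Nat.card f'.ker := by
      obtain ⟨z, hz, hz1⟩ : ∃ z : E, z ∈ center E ∧ z ≠ 1 := by
        have : Nontrivial (center E) := Finite.one_lt_card_iff_nontrivial.1 (by rw [hEex.2]; norm_num)
        obtain ⟨z, hz⟩ := exists_ne (1 : center E)
        exact ⟨z, z.2, fun h => hz (Subtype.ext h)⟩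
      have hzC : (z : G) ∈ Cy := (show (z : G) ∈ Cy ⊓ E by rw [hmeet, ← hZ]; exact ⟨z, hz, rfl⟩).1
      haveI : Nontrivial f'.ker := ⟨⟨(⟨z, hzC⟩⁻¹, ⟨z, mem_sup_right hz⟩),
        MonoidHom.mem_ker.2 (inv_mul_cancel (z : G))⟩, 1, fun h => hz1
          (congrArg (fun p : f'.ker => ((p.1.2 : B') : E)) h)⟩
      exact Finite.one_lt_card
    have := f'.ker.card_mul_index
    rw [index_ker, Nat.card_prod, hCycard] at this
    have h2 := Subgroup.card_le_of_le hXle
    have h3 : 2 * Nat.card f'.range ≤ 32 := by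
      calc 2 * Nat.card f'.range ≤ Nat.card f'.ker * Nat.card f'.range := Nat.mul_le_mul_right _ hker'
        _ = 4 * Nat.card B' := this
        _ ≤ 4 * 8 := Nat.mul_le_mul_left _ h8
    omega
  · show eH (QuotientGroup.mk' _ h) = 1 ↔ _
    rw [eH.map_eq_one_iff, QuotientGroup.mk'_apply, QuotientGroup.eq_one_iff, hR]
    exact (mem_map_iff_mem H.subtype_injective).symm

end CfsgLib.HSRec
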