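import Cfsg.Agent.HSRec.LogAData

/-! A logged coset enumeration: checks. -/

set_option autoImplicit false
set_option maxRecDepth 100000
set_option Elab.async false

namespace CfsgLib.HSRec.A

open CfsgLib.CosetEnum CfsgLib.HNXYZ CfsgLib.LyG2

noncomputable section

theorem chunk0 : log.chunk 7 0 = true := by decide +kernel

theorem chunk1 : log.chunk 7 128 = true := by decide +kernel

theorem factsOK : ∀ i < log.nF, log.factOK i = true := by
  intro i hi
  have hi : i < 224 := hi
  by_cases h0 : i < 128
  · exact chunk_spec _ chunk0 i (by omega) (by omega)
  exact chunk_spec _ chunk1 i (by omega) (by omega)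

theorem loop0_ok : log.loopOK [4] loop0 = true := by decide +kernel

theorem letters_ok : log.words.all (fun w => w.all fun x => Nat.blt x 14) = true := by decide +kernel

theorem sub_words : log.words.drop log.nR = [[0], [2], [6]] := by decide +kernel

end

end CfsgLib.HSRec.A
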