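import Cfsg.Agent.HSRec.Arith
import Cfsg.Agent.HSRec.MData
import Cfsg.Agent.CosetEnum.Engine

/-!
A multiplication table for a group `(ℤ/4)³ · L₃(2)` given by generators and relations: the edges of the
coset table over the normal subgroup are labelled, and each label is proved by scanning a relator.
-/

set_option autoImplicit false

namespace CfsgLib.HSRec

open CfsgLib.CosetEnum

/-- Extract a field from a packed table. -/
def pfield (w tbl i : ℕ) : ℕ :=
  Nat.land (Nat.shiftRight tbl (Nat.mul w i)) (Nat.sub (Nat.pow 2 w) 1)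

/-- The word of a coset. -/
def gword (g : ℕ) : List ℕ :=
  (List.range (Nat.land (pfield 20 gwTbl g) 15)).map fun i =>
    Nat.land (Nat.shiftRight (pfield 20 gwTbl g) (Nat.add 4 i)) 1

/-- The coset table. -/
def nx (g l : ℕ) : ℕ := pfield 8 nxTbl (Nat.add (Nat.mul 2 g) l)

/-- The action of the word of a coset. -/
def gmat (g : ℕ) : ℕ := pfield 18 matTbl g

/-- The action of a letter. -/
def lmat : ℕ → ℕ
  | 0 => aMat
  | _ => bMat

/-- The action of a word. -/
def actw : List ℕ → ℕ → ℕ
  | [], u => u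
  | l :: w, u => actc (lmat l) (actw w u)

/-- The action of a coset word. -/
def gact (g u : ℕ) : ℕ := actc (gmat g) u

/-- The labels of the edges, for a given value of the fourth power of the commutator. -/
def edTbl (r : ℕ) : ℕ := ((edTbls.find? fun p => Nat.beq p.1 r).getD (0, 0)).2

/-- The label of an edge. -/
def ed (tb g l : ℕ) : ℕ := pfield 6 tb (Nat.add (Nat.mul 2 g) l)

/-- The word whose value is the parameter. -/
def wc : List ℕ := [0, 1, 0, 1, 1, 0, 1, 0, 1, 1, 0, 1, 0, 1, 1, 0, 1, 0, 1, 1]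

/-- The relators with their values. -/
def mrels (r : ℕ) : List (List ℕ × ℕ) :=
  [([0, 0], 0), ([1, 1, 1], 0), ([0, 1, 0, 1, 0, 1, 0, 1, 0, 1, 0, 1, 0, 1], 0), (wc, r)]

theorem gmat_spec : ∀ g < 168, (gword g).all (fun l => Nat.blt l 2) = true ∧
    ∀ i < 3, col (gmat g) i = actw (gword g) (Nat.pow 4 i) := by
  decide +kernel

variable {G : Type*} [Group G]

/-- The generators and relations. -/
structure MFacts (e : ℕ → G) (a b : G) (r : ℕ) : Prop where
  frame : Frame e
  ha : ∀ i, i < 3 → a * e i * a⁻¹ = iota e (col aMat i)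
  hb : ∀ i, i < 3 → b * e i * b⁻¹ = iota e (col bMat i)
  a2 : a ^ 2 = 1
  b3 : b ^ 3 = 1
  ab7 : (a * b) ^ 7 = 1
  hr : r < 64
  hc : (a * b * a * b * b) ^ 4 = iota e r

/-- The two letters. -/
def lett (a b : G) : ℕ → G
  | 0 => a
  | _ => b

/-- The word of a coset, evaluated. -/
def wg (a b : G) (g : ℕ) : G := prodw (lett a b) (gword g)

/-- The element named by a code. -/
def mval (e : ℕ → G) (a b : G) (p : ℕ) : G := iota e (p % 64) * wg a b (p / 64)

/-- Sum of the labels along a path. -/
def plab (tb : ℕ) : List ℕ → ℕ → ℕ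
  | [], _ => 0
  | l :: w, g => padd (ed tb g l) (plab tb w (nx g l))

/-- End of a path. -/
def pend : List ℕ → ℕ → ℕ
  | [], g => g
  | l :: w, g => pend w (nx g l)

/-- Is the edge recorded? -/
def ebit (B g l : ℕ) : Bool := bit B (Nat.add (Nat.mul 2 g) l)

/-- All edges of a path are recorded. -/
def pknown (B : ℕ) : List ℕ → ℕ → Bool
  | [], _ => true
  | l :: w, g => Nat.blt g 168 && (Nat.blt l 2 && (ebit B g l && pknown B w (nx g l)))

/-- One deduction. -/
def mstep (r tb B st : ℕ) : ℕ :=
  let g := Nat.shiftRight st 10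
  let q := (mrels r).getD (Nat.land (Nat.shiftRight st 6) 15) ([], 0)
  let pre := q.1.take (Nat.land st 63)
  match q.1.drop (Nat.land st 63) with
  | [] => B
  | l :: post =>
    let u := pend pre g
    bif Nat.blt g 168 && (Nat.blt u 168 && (Nat.blt l 2 && (pknown B pre g &&
        (pknown B post (nx u l) && (Nat.beq (pend post (nx u l)) g &&
          Nat.beq (padd (padd (plab tb pre g) (ed tb u l)) (plab tb post (nx u l))) (gact g q.2)))))) then
      Nat.lor B (Nat.shiftLeft 1 (Nat.add (Nat.mul 2 u) l))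
    else B

/-- All deductions. -/
def mrun (r tb : ℕ) : ℕ := mSteps.foldl (mstep r tb) treeMask

theorem mrun_full : ∀ r ∈ [0, 34, 57, 27], mrun r (edTbl r) = 2 ^ 336 - 1 := by
  decide +kernel

theorem tree_spec : ∀ r ∈ [0, 34, 57, 27], ∀ g < 168, ∀ l < 2, ebit treeMask g l = true →
    ed (edTbl r) g l = 0 ∧ gword (nx g l) = gword g ++ [l] := by
  decide +kernel

theorem ed_lt (tb g l : ℕ) : ed tb g l < 64 := Nat.lt_succ_of_le Nat.and_le_right

theorem plab_lt (tb : ℕ) : ∀ w g, plab tb w g < 64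
  | [], _ => Nat.zero_lt_succ _
  | l :: w, g => (padd_table _ (ed_lt tb g l) _ (plab_lt tb w (nx g l))).1

theorem bit_or {B i j : ℕ} (h : bit (Nat.lor B (Nat.shiftLeft 1 i)) j = true) :
    bit B j = true ∨ i = j := by
  rw [bit_eq] at h ⊢
  change Nat.testBit (B ||| 1 <<< i) j = true at h
  simpa only [Nat.testBit_or, Nat.one_shiftLeft, Nat.testBit_two_pow, Bool.or_eq_true,
    decide_eq_true_eq] using h

namespace MFacts

variable {e : ℕ → G} {a b : G} {r : ℕ} (h : MFacts e a b r)
include h

theorem conj_letter {l : ℕ} (u : ℕ) :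
    lett a b l * iota e u * (lett a b l)⁻¹ = iota e (actc (lmat l) u) := by
  match l with
  | 0 => exact h.frame.conj_iota h.ha u
  | _ + 1 => exact h.frame.conj_iota h.hb u

theorem conj_word : ∀ (w : List ℕ) (u : ℕ),
    prodw (lett a b) w * iota e u * (prodw (lett a b) w)⁻¹ = iota e (actw w u)
  | [], u => by simp [prodw_nil, actw]
  | l :: w, u => by
    rw [prodw_cons, actw, ← h.conj_letter, ← conj_word w u]
    group

theorem conj_wg {g : ℕ} (hg : g < 168) (u : ℕ) :
    wg a b g * iota e u * (wg a b g)⁻¹ = iota e (gact g u) := by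
  refine h.frame.conj_iota (fun i hi => ?_) u
  rw [(gmat_spec g hg).2 i hi, ← h.conj_word]
  interval_cases i
  · rw [show Nat.pow 4 0 = 1 from rfl, iota_one]; rfl
  · rw [show Nat.pow 4 1 = 4 from rfl, iota_four]; rfl
  · rw [show Nat.pow 4 2 = 16 from rfl, iota_sixteen]; rfl

/-- Meaning of a recorded edge. -/
def EdgeOK (_ : MFacts e a b r) (tb B : ℕ) : Prop := ∀ g l, g < 168 → l < 2 → ebit B g l = true →
  wg a b g * lett a b l = iota e (ed tb g l) * wg a b (nx g l)

theorem path_sound {tb B : ℕ} (hB : h.EdgeOK tb B) : ∀ (w : List ℕ) (g : ℕ), pknown B w g = true →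
    wg a b g * prodw (lett a b) w = iota e (plab tb w g) * wg a b (pend w g)
  | [], g, _ => by simp [prodw_nil, plab, pend, iota_zero]
  | l :: w, g, hk => by
    simp only [pknown, Bool.and_eq_true, Nat.blt_eq] at hk
    rw [prodw_cons, ← mul_assoc, hB g l hk.1 hk.2.1 hk.2.2.1, mul_assoc, path_sound hB w _ hk.2.2.2,
      ← mul_assoc, ← h.frame.iota_padd (ed_lt tb g l) (plab_lt tb w _), plab, pend]

theorem rel_sound : ∀ q ∈ mrels r, prodw (lett a b) q.1 = iota e q.2 ∧ q.2 < 64 := by
  intro q hq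
  simp only [mrels, List.mem_cons, List.not_mem_nil, or_false] at hq
  rcases hq with rfl | rfl | rfl | rfl
  · exact ⟨by simpa [prodw, lett, iota_zero, pow_two] using h.a2, by norm_num⟩
  · exact ⟨by simpa [prodw, lett, iota_zero, pow_succ, mul_assoc] using h.b3, by norm_num⟩
  · exact ⟨by simpa [prodw, lett, iota_zero, pow_succ, mul_assoc] using h.ab7, by norm_num⟩
  · exact ⟨by simpa [prodw, lett, wc, pow_succ, mul_assoc] using h.hc, h.hr⟩

theorem step_sound {tb B : ℕ} (hB : h.EdgeOK tb B) (st : ℕ) : h.EdgeOK tb (mstep r tb B st) := by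
  unfold mstep
  simp only
  generalize Nat.shiftRight st 10 = g
  generalize hq : (mrels r).getD (Nat.land (Nat.shiftRight st 6) 15) ([], 0) = q
  generalize Nat.land st 63 = j
  split
  · exact hB
  rename_i l post hdrop
  generalize hu : pend (q.1.take j) g = u
  cases hc : (Nat.blt g 168 && (Nat.blt u 168 && (Nat.blt l 2 && (pknown B (q.1.take j) g &&
      (pknown B post (nx u l) && (Nat.beq (pend post (nx u l)) g &&
        Nat.beq (padd (padd (plab tb (q.1.take j) g) (ed tb u l)) (plab tb post (nx u l))) (gact g q.2)))))))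
  · exact hB
  simp only [cond_true]
  simp only [Bool.and_eq_true, Nat.blt_eq, Nat.beq_eq] at hc
  obtain ⟨hg, -, hl, hpre, hpost, hend, hsum⟩ := hc
  intro g' l' hg' hl' hb'
  rcases bit_or hb' with hb' | heq
  · exact hB g' l' hg' hl' hb'
  simp only [Nat.add_eq, Nat.mul_eq] at heq
  obtain rfl : u = g' := by omega
  obtain rfl : l = l' := by omega
  have hmem : q ∈ mrels r := by
    by_cases hlt : Nat.land (Nat.shiftRight st 6) 15 < (mrels r).length
    · rw [← hq, List.getD_eq_getElem _ _ hlt]; exact List.getElem_mem hlt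
    · rw [List.getD_eq_default _ _ (Nat.le_of_not_lt hlt)] at hq
      rw [← hq] at hdrop
      simp at hdrop
  obtain ⟨hrel, hq2⟩ := h.rel_sound q hmem
  have hp := h.path_sound hB _ _ hpre
  rw [hu] at hp
  have ho := h.path_sound hB _ _ hpost
  rw [hend] at ho
  have hw : prodw (lett a b) (q.1.take j) * lett a b l * prodw (lett a b) post = iota e q.2 := by
    rw [mul_assoc, ← prodw_cons, ← hdrop, ← prodw_append, List.take_append_drop, hrel]
  have htot : wg a b g * iota e q.2 = iota e (gact g q.2) * wg a b g := by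
    rw [← h.conj_wg hg, inv_mul_cancel_right]
  rw [← hsum, h.frame.iota_padd (padd_table _ (plab_lt _ _ _) _ (ed_lt _ _ _)).1 (plab_lt _ _ _),
    h.frame.iota_padd (plab_lt _ _ _) (ed_lt _ _ _), ← hw, ← mul_assoc, ← mul_assoc, hp] at htot
  -- cancel the two known stretches
  have h1 : wg a b u * lett a b l * prodw (lett a b) post =
      iota e (ed tb u l) * (wg a b (nx u l) * prodw (lett a b) post) := by
    rw [ho]
    simp only [mul_assoc] at htot ⊢
    exact mul_left_cancel htot
  rw [← mul_assoc] at h1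
  exact mul_right_cancel h1

theorem edge (hr : r ∈ [0, 34, 57, 27]) {g l : ℕ} (hg : g < 168) (hl : l < 2) :
    wg a b g * lett a b l = iota e (ed (edTbl r) g l) * wg a b (nx g l) := by
  have h0 : h.EdgeOK (edTbl r) treeMask := by
    intro g l hg hl hb
    obtain ⟨h1, h2⟩ := tree_spec r hr g hg l hl hb
    simp only [wg, h1, h2, iota_zero, one_mul, prodw_append, prodw_cons, prodw_nil, mul_one]
  have hall : ∀ (L : List ℕ) B, h.EdgeOK (edTbl r) B →
      h.EdgeOK (edTbl r) (L.foldl (mstep r (edTbl r)) B) := by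
    intro L
    induction L with
    | nil => exact fun B hB => hB
    | cons s L ih => exact fun B hB => ih _ (h.step_sound hB s)
  refine hall mSteps treeMask h0 g l hg hl ?_
  show ebit (mrun r (edTbl r)) g l = true
  rw [mrun_full r hr, ebit, bit_eq, Nat.testBit_two_pow_sub_one, decide_eq_true_eq]
  show 2 * g + l < 336
  omega

end MFacts

/-- Right multiplication by a letter. -/
def mrm (tb p l : ℕ) : ℕ :=
  Nat.add (padd (Nat.mod p 64) (ed tb (Nat.div p 64) l)) (Nat.mul 64 (nx (Nat.div p 64) l))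

/-- Right multiplication by a word. -/
def mwalk (tb : ℕ) : List ℕ → ℕ → ℕ
  | [], p => p
  | l :: w, p => mwalk tb w (mrm tb p l)

/-- Multiplication of codes. -/
def mmul (tb p q : ℕ) : ℕ :=
  mwalk tb (gword (Nat.div q 64))
    (Nat.add (padd (Nat.mod p 64) (gact (Nat.div p 64) (Nat.mod q 64))) (Nat.mul 64 (Nat.div p 64)))

theorem nx_lt : ∀ g < 168, ∀ l < 2, nx g l < 168 := by decide +kernel

theorem mrm_lt {tb p l : ℕ} (hp : p < 10752) (hl : l < 2) : mrm tb p l < 10752 := by
  have h1 := (padd_table (p % 64) (Nat.mod_lt _ (by norm_num)) _ (ed_lt tb (p / 64) l)).1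
  have h2 := nx_lt (p / 64) (by omega) l hl
  show padd (p % 64) (ed tb (p / 64) l) + 64 * nx (p / 64) l < 10752
  omega

theorem mwalk_lt {tb : ℕ} : ∀ (w : List ℕ), (∀ l ∈ w, l < 2) → ∀ p, p < 10752 → mwalk tb w p < 10752
  | [], _, _, hp => hp
  | l :: w, hw, p, hp =>
    mwalk_lt w (fun x hx => hw x (List.mem_cons_of_mem _ hx)) _ (mrm_lt hp (hw l List.mem_cons_self))

theorem gword_let {g : ℕ} (hg : g < 168) : ∀ l ∈ gword g, l < 2 := by
  intro l hl
  have := List.all_eq_true.1 (gmat_spec g hg).1 l hl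
  simpa using this

theorem mmul_lt {tb p q : ℕ} (hp : p < 10752) (hq : q < 10752) : mmul tb p q < 10752 := by
  refine mwalk_lt _ (gword_let (show q / 64 < 168 by omega)) _ ?_
  have := (padd_table (p % 64) (Nat.mod_lt _ (by norm_num)) _ (actc_lt (gmat (p / 64)) (q % 64))).1
  show padd (p % 64) (gact (p / 64) (q % 64)) + 64 * (p / 64) < 10752
  unfold gact at *
  omega

theorem mval_mk {e : ℕ → G} {a b : G} {v g : ℕ} (hv : v < 64) :
    mval e a b (v + 64 * g) = iota e v * wg a b g := by
  rw [mval, show (v + 64 * g) % 64 = v by omega, show (v + 64 * g) / 64 = g by omega]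

theorem mval_low {e : ℕ → G} {a b : G} {v : ℕ} (hv : v < 64) : mval e a b v = iota e v := by
  rw [mval, Nat.mod_eq_of_lt hv, Nat.div_eq_of_lt hv, wg, show gword 0 = [] by decide +kernel,
    prodw_nil, mul_one]

namespace MFacts

variable {e : ℕ → G} {a b : G} {r : ℕ} (h : MFacts e a b r) (hr : r ∈ [0, 34, 57, 27])
include h hr

theorem mval_mrm {p l : ℕ} (hp : p < 10752) (hl : l < 2) :
    mval e a b (mrm (edTbl r) p l) = mval e a b p * lett a b l := by
  show mval e a b (padd (p % 64) (ed (edTbl r) (p / 64) l) + 64 * nx (p / 64) l) = _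
  rw [mval_mk (padd_table _ (Nat.mod_lt _ (by norm_num)) _ (ed_lt _ _ _)).1,
    h.frame.iota_padd (Nat.mod_lt _ (by norm_num)) (ed_lt _ _ _), mul_assoc,
    ← h.edge hr (show p / 64 < 168 by omega) hl, mval, mul_assoc]

theorem mval_walk : ∀ (w : List ℕ), (∀ l ∈ w, l < 2) → ∀ p, p < 10752 →
    mval e a b (mwalk (edTbl r) w p) = mval e a b p * prodw (lett a b) w
  | [], _, p, _ => by simp [mwalk, prodw_nil]
  | l :: w, hw, p, hp => by
    rw [mwalk, mval_walk w (fun x hx => hw x (List.mem_cons_of_mem _ hx)) _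
      (mrm_lt hp (hw l List.mem_cons_self)), h.mval_mrm hr hp (hw l List.mem_cons_self), prodw_cons,
      mul_assoc]

theorem mval_mul {p q : ℕ} (hp : p < 10752) (hq : q < 10752) :
    mval e a b (mmul (edTbl r) p q) = mval e a b p * mval e a b q := by
  have hv : padd (p % 64) (gact (p / 64) (q % 64)) < 64 :=
    (padd_table (p % 64) (Nat.mod_lt _ (by norm_num)) _ (actc_lt (gmat (p / 64)) (q % 64))).1
  show mval e a b (mwalk (edTbl r) (gword (q / 64))
    (padd (p % 64) (gact (p / 64) (q % 64)) + 64 * (p / 64))) = _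
  rw [h.mval_walk hr _ (gword_let (show q / 64 < 168 by omega)) _ (by
    show padd (p % 64) (gact (p / 64) (q % 64)) + 64 * (p / 64) < 10752
    omega)]
  show mval e a b (padd (p % 64) (gact (p / 64) (q % 64)) + 64 * (p / 64)) * wg a b (q / 64) = _
  rw [mval_mk hv, h.frame.iota_padd (Nat.mod_lt _ (by norm_num))
      (show gact (p / 64) (q % 64) < 64 from actc_lt _ _),
    ← h.conj_wg (show p / 64 < 168 by omega), mval, mval]
  group

end MFacts

end CfsgLib.HSRec
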