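import Cfsg.Agent.HSRec.Whole
import Cfsg.Agent.RankThree.HigmanSimsLattice

/-!
Recognition of the Higman–Sims group by the centralizer of an involution and a 2-local subgroup.
-/

set_option autoImplicit false
set_option maxRecDepth 100000
set_option Elab.async false

namespace CfsgLib.HSRec

open Subgroup
open CfsgLib.Mathieu.HigmanSims (hs)

variable {G : Type*} [Group G] [Finite G] {t c : G} {R H V M A : Subgroup G}

theorem nonempty_equiv (hF : RFacts t c R H) (hV : VFacts t R V M A) : Nonempty (hs ≃* G) := by
  obtain ⟨e, a, b, f, P⟩ := exists_five hF hV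
  obtain ⟨φ, hφ, -, hval⟩ := P.exists_hom hF hV
  obtain ⟨tp, up, htp, hup, htt, hupu, htpt, houp, hotp, htu⟩ := exists_reps hF hV P hφ hval
  have htop := range_top hF hV P hφ hval htp hup htt hupu htpt houp hotp htu
  exact ⟨MulEquiv.ofBijective φ ⟨hφ, MonoidHom.range_eq_top.1 htop⟩⟩

end CfsgLib.HSRec
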