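import Cfsg.Agent.HSRec.Coord

/-!
An involution `a` over a transvection and an element `b` of order three, normalised to the standard
action and to one of two values of the fourth power of their commutator.
-/

set_option autoImplicit false
set_option maxRecDepth 100000

namespace CfsgLib.HSRec

open Subgroup CfsgLib.CosetEnum

/-- The action of `(ab)` in companion form, the six possible images of `e₀` being `e₀ + 2δ`. -/
def pinvMat : ℕ := 226241

/-- Parity of `a` in the companion basis. -/
def paMat : ℕ := 17429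

/-- Parity of `ab` in the companion basis. -/
def pxMat : ℕ := 70660

/-- Parity of an element of `R` outside `A`. -/
def p23Mat : ℕ := 69953

/-- A parity conjugating `p23Mat` to `paMat`. -/
def phMat : ℕ := 16468

/-- Lifts of a parity matrix. -/
def lift9 (P d : ℕ) : ℕ :=
  pk (Nat.add (col P 0) (Nat.mul 2 (halves.getD (d % 8) 0)))
    (Nat.add (col P 1) (Nat.mul 2 (halves.getD (d / 8 % 8) 0)))
    (Nat.add (col P 2) (Nat.mul 2 (halves.getD (d / 64) 0)))

/-- The candidates for the action of `ab`. -/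
def xCands : List ℕ :=
  ((List.range 8).map fun d => lift9 pxMat (Nat.mul 64 d)).filter fun T =>
    Nat.beq (mpow T 7) (pk 1 4 16)

/-- The new basis in terms of the old one. -/
def substMat (mx δ : ℕ) : ℕ :=
  mcomp (pk (padd 1 (Nat.mul 2 δ)) (actc mx (padd 1 (Nat.mul 2 δ)))
    (actc mx (actc mx (padd 1 (Nat.mul 2 δ))))) pinvMat

/-- The check for one pair of lifts. -/
def normOK (ma mx : ℕ) : Bool :=
  if Nat.beq (mcomp ma ma) (pk 1 4 16) then
    if Nat.beq (mpow (mcomp ma mx) 3) (pk 1 4 16) then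
      halves.any fun δ =>
        Nat.beq (mcomp ma (substMat mx δ)) (mcomp (substMat mx δ) aMat) &&
          (Nat.beq (mcomp (mcomp ma mx) (substMat mx δ)) (mcomp (substMat mx δ) bMat) &&
            (Nat.beq (actc (substMat mx δ) 2) 2 &&
              (List.range 64).all fun u => Nat.beq u 0 || !(Nat.beq (actc (substMat mx δ) u) 0)))
    else true
  else true

theorem normOK_all : (List.range 512).all (fun d => xCands.all fun mx => normOK (lift9 paMat d) mx) = true := by
  decide +kernel

theorem lift_complete : (∀ x < 64, ∀ k ∈ halves, Nat.land x 21 = k →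
      ∃ i < 8, x = Nat.add k (Nat.mul 2 (halves.getD i 0))) := by
  decide +kernel

theorem mpow_eq_lift {P T : ℕ} (h : par T = P) (hT : pk (col T 0) (col T 1) (col T 2) = T) :
    ∃ d < 512, lift9 P d = T := by
  obtain ⟨i, hi, ei⟩ := lift_complete _ (col_lt T 0) _ (par_table.2 _ (col_lt T 0)).2 rfl
  obtain ⟨j, hj, ej⟩ := lift_complete _ (col_lt T 1) _ (par_table.2 _ (col_lt T 1)).2 rfl
  obtain ⟨k, hk, ek⟩ := lift_complete _ (col_lt T 2) _ (par_table.2 _ (col_lt T 2)).2 rfl
  refine ⟨i + 8 * j + 64 * k, by omega, ?_⟩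
  rw [lift9, show (i + 8 * j + 64 * k) % 8 = i by omega, show (i + 8 * j + 64 * k) / 8 % 8 = j by omega,
    show (i + 8 * j + 64 * k) / 64 = k by omega, ← h, col_par T 0 (by norm_num), col_par T 1 (by norm_num),
    col_par T 2 (by norm_num), ← ei, ← ej, ← ek, hT]

section Actions

variable {G : Type*} [Group G] {e : ℕ → G}

/-- Two elements with the same action have the same matrix columns. -/
theorem Acts.unique {t : G} {A : Subgroup G} (B : Basis t A e) {m : G} {T U : ℕ} (h : Acts e m T)
    (h' : Acts e m U) {i : ℕ} (hi : i < 3) : col T i = col U i :=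
  B.inj _ (col_lt _ _) _ (col_lt _ _) ((h i hi).symm.trans (h' i hi))

theorem land_padd : ∀ u < 64, ∀ v < 64,
    Nat.land (padd u v) 21 = Nat.xor (Nat.land u 21) (Nat.land v 21) := by
  decide +kernel

theorem actc_parity (T u : ℕ) (hu : u < 64) :
    Nat.land (actc T u) 21 = Nat.land (actc (par T) (Nat.land u 21)) 21 := by
  have h1 : ∀ i < 4, ∀ c < 64,
      Nat.land (psmul i c) 21 = Nat.land (psmul (i % 2) (Nat.land c 21)) 21 := by decide +kernel
  have h2 : ∀ u < 64, d0 (Nat.land u 21) = d0 u % 2 ∧ d1 (Nat.land u 21) = d1 u % 2 ∧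
      d2 (Nat.land u 21) = d2 u % 2 := by decide +kernel
  obtain ⟨a, b, c⟩ := h2 u hu
  obtain ⟨e0, e1, e2⟩ := digit_lt u hu
  have p := fun i => psmul_lt (col_lt T i)
  have q := fun i => psmul_lt (col_lt (par T) i)
  rw [actc, actc, land_padd _ (padd_table _ (p 0 _) _ (p 1 _)).1 _ (p 2 _), land_padd _ (p 0 _) _ (p 1 _),
    land_padd _ (padd_table _ (q 0 _) _ (q 1 _)).1 _ (q 2 _), land_padd _ (q 0 _) _ (q 1 _),
    h1 _ e0 _ (col_lt T 0), h1 _ e1 _ (col_lt T 1), h1 _ e2 _ (col_lt T 2), col_par T 0 (by norm_num),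
    col_par T 1 (by norm_num), col_par T 2 (by norm_num), a, b, c]

theorem par_mcomp (T U : ℕ) : par (mcomp T U) = par (mcomp (par T) (par U)) := by
  have h : ∀ i, i < 3 →
      Nat.land (col (mcomp T U) i) 21 = Nat.land (col (mcomp (par T) (par U)) i) 21 := fun i hi => by
    rw [col_mcomp _ _ _ hi, col_mcomp _ _ _ hi, actc_parity _ _ (col_lt _ _), col_par U i hi]
  simp only [par] at h ⊢
  rw [h 0 (by norm_num), h 1 (by norm_num), h 2 (by norm_num)]

theorem par_mpow (T : ℕ) : ∀ n, par (mpow T n) = par (mpow (par T) n) := by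
  intro n
  induction n with
  | zero => rfl
  | succ n ih =>
    rw [mpow, mpow, par_mcomp, ih, par_mcomp (mpow (par T) n),
      show par (par T) = par T from ?_]
    simp only [par]
    have h : ∀ u < 64, Nat.land (Nat.land u 21) 21 = Nat.land u 21 := by decide +kernel
    have c := col_par T
    simp only [par] at c
    rw [c 0 (by norm_num), c 1 (by norm_num), c 2 (by norm_num), h _ (col_lt _ _), h _ (col_lt _ _),
      h _ (col_lt _ _)]

theorem iota_two (e : ℕ → G) : iota e 2 = e 0 ^ 2 := by simp [iota, show d0 2 = 2 from rfl,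
  show d1 2 = 0 from rfl, show d2 2 = 0 from rfl]

theorem pk_cols {T : ℕ} (h : T < 2 ^ 18) : pk (col T 0) (col T 1) (col T 2) = T := by
  have e : ∀ i, col T i = T / 2 ^ (6 * i) % 64 := fun i => by
    rw [← Nat.shiftRight_eq_div_pow, show (64 : ℕ) = 2 ^ 6 by norm_num, ← Nat.and_two_pow_sub_one_eq_mod]
    rfl
  simp only [e, pk]
  norm_num at h ⊢
  omega

end Actions

section Setup

variable {G : Type*} [Group G] [Finite G] {t c : G} {R H V M A : Subgroup G}

/-- An element of `R` has one of four parities. -/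
theorem par_of_r (hF : RFacts t c R H) (hV : VFacts t R V M A) {e : ℕ → G} (B : Basis t A e) {x : G}
    (hx : x ∈ R) {T : ℕ} (hT : Acts e x T) :
    par T ∈ [pk 1 4 16, pk 1 4 17, pk 1 5 16, pk 1 5 17] := by
  have key : ∀ i, i < 3 → Nat.land (col T i) 21 = 4 ^ i ∨
      (0 < i ∧ Nat.land (col T i) 21 = Nat.xor 1 (4 ^ i)) := by
    intro i hi
    have hu : 4 ^ i < 64 := by interval_cases i <;> norm_num
    have hv : iota e (Nat.mul 2 (4 ^ i)) ∈ V := by
      have h : ∀ i < 3, Nat.mul 2 (4 ^ i) < 64 ∧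
          padd (Nat.mul 2 (4 ^ i)) (Nat.mul 2 (4 ^ i)) = 0 := by decide +kernel
      exact (hV.v_mem _).2 ⟨B.mem _ (h i hi).1, by
        rw [← B.frame.iota_padd (h i hi).1 (h i hi).1, (h i hi).2, iota_zero]⟩
    have hei : e i = iota e (4 ^ i) := by
      interval_cases i
      · exact (iota_one e).symm
      · exact (iota_four e).symm
      · exact (iota_sixteen e).symm
    have h2 : iota e (4 ^ i) * iota e (4 ^ i) = iota e (Nat.mul 2 (4 ^ i)) := by
      rw [iota_sq e B.frame _ hu]
      interval_cases i <;> rfl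
    have hconj : x * iota e (Nat.mul 2 (4 ^ i)) * x⁻¹ =
        iota e (Nat.mul 2 (Nat.land (col T i) 21)) := by
      rw [← h2, ← conj_mul, ← hei, hT i hi, iota_sq e B.frame _ (col_lt _ _)]
    have hcases : ∀ u < 64, ∀ i < 3, (Nat.mul 2 (Nat.land u 21) = Nat.mul 2 (4 ^ i) → Nat.land u 21 = 4 ^ i) ∧
        (Nat.mul 2 (Nat.land u 21) = padd 2 (Nat.mul 2 (4 ^ i)) →
          (0 < i ∧ Nat.land u 21 = Nat.xor 1 (4 ^ i)) ∨ (i = 0 ∧ Nat.land u 21 = 0)) := by decide +kernel
    have hlt : Nat.mul 2 (4 ^ i) < 64 := by interval_cases i <;> norm_num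
    rcases hF.comm x hx _ (hV.v_le hv) with h | h
    · left
      refine (hcases _ (col_lt T i) i hi).1 (B.inj _ (par_table.2 _ (col_lt _ _)).1 _ hlt ?_)
      rw [← hconj, h, mul_inv_cancel_right]
    · have h' : iota e (Nat.mul 2 (Nat.land (col T i) 21)) = iota e (padd 2 (Nat.mul 2 (4 ^ i))) := by
        rw [← hconj, h, B.frame.iota_padd (by norm_num) hlt, ← B.t_eq, mul_assoc t, mul_inv_cancel_right]
      rcases (hcases _ (col_lt T i) i hi).2
          (B.inj _ (par_table.2 _ (col_lt _ _)).1 _ (padd_table 2 (by norm_num) _ hlt).1 h') with h'' | ⟨h0, h''⟩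
      · exact Or.inr h''
      · exfalso
        subst h0
        rw [h''] at hconj
        rw [show Nat.mul 2 0 = 0 from rfl, iota_zero, conj_eq_one_iff,
          show Nat.mul 2 (4 ^ 0) = 2 from rfl, ← B.t_eq] at hconj
        have := hF.ht
        rw [hconj, orderOf_one] at this
        norm_num at this
  obtain ⟨k0, k1, k2⟩ := And.intro (key 0 (by norm_num)) (And.intro (key 1 (by norm_num)) (key 2 (by norm_num)))
  rcases k0 with k0 | ⟨k0, -⟩
  swap
  · omega
  rcases k1 with k1 | ⟨-, k1⟩ <;> rcases k2 with k2 | ⟨-, k2⟩ <;> simp only [par, k0, k1, k2] <;> decide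

/-- `R ∩ A` has order 16 and `R` realises four parities. -/
theorem r_parities (hF : RFacts t c R H) (hV : VFacts t R V M A) {e : ℕ → G} (B : Basis t A e) :
    c ∈ A ∧ Nat.card (R ⊓ A : Subgroup G) = 16 ∧ ∀ P ∈ [pk 1 4 16, pk 1 4 17, pk 1 5 16, pk 1 5 17],
      ∃ x ∈ R, Par e x P := by
  classical
  haveI := Fintype.ofFinite R
  have hx : ∀ x : R, ∃ T, Acts e (x : G) T := fun x => exists_acts hV B (hV.r_le x.2)
  choose T hT using hx
  have hpar : ∀ x : R, par (T x) ∈ [pk 1 4 16, pk 1 4 17, pk 1 5 16, pk 1 5 17] := fun x =>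
    par_of_r hF hV B x.2 (hT x)
  have hab : Nat.card (R ⊓ A : Subgroup G) ≤ 16 :=
    hF.abel _ inf_le_left fun x hx y hy => hV.a_comm x hx.2 y hy.2
  set L := [pk 1 4 16, pk 1 4 17, pk 1 5 16, pk 1 5 17] with hL
  have himg : (Finset.univ.image fun x => par (T x)) ⊆ L.toFinset := fun z hz => by
    obtain ⟨x, -, rfl⟩ := Finset.mem_image.1 hz
    exact List.mem_toFinset.2 (hpar x)
  have hfib : ∀ z ∈ Finset.univ.image (fun x => par (T x)),
      (Finset.univ.filter fun x => par (T x) = z).card ≤ Nat.card (R ⊓ A : Subgroup G) := by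
    intro z hz
    obtain ⟨m, -, rfl⟩ := Finset.mem_image.1 hz
    let g : {n // n ∈ Finset.univ.filter fun n => par (T n) = par (T m)} → (R ⊓ A : Subgroup G) := fun n =>
      ⟨(m : G)⁻¹ * (n.1 : G), R.mul_mem (R.inv_mem m.2) n.1.2,
        mem_of_par_eq hV B (hV.r_le n.1.2) (hV.r_le m.2) (hT _) (hT _) (Finset.mem_filter.1 n.2).2⟩
    have := Nat.card_le_card_of_injective g fun p q h =>
      Subtype.ext (Subtype.ext (mul_left_cancel (congrArg Subtype.val h)))
    rwa [Nat.card_eq_finsetCard] at this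
  have hcount := Finset.card_le_mul_card_image Finset.univ _ hfib
  rw [Finset.card_univ, ← Nat.card_eq_fintype_card, hF.cardR] at hcount
  have h4 : L.toFinset.card ≤ 4 := List.toFinset_card_le L
  have hle4 := Finset.card_le_card himg
  have h16 : Nat.card (R ⊓ A : Subgroup G) = 16 := by
    have := Nat.mul_le_mul_left (Nat.card (R ⊓ A : Subgroup G)) (hle4.trans h4)
    omega
  rw [h16] at hcount
  have heq := Finset.eq_of_subset_of_card_le himg (by omega)
  refine ⟨?_, h16, fun P hP => ?_⟩
  · -- `c` lies in `A`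
    let X : Subgroup G := closure (insert c ((R ⊓ A : Subgroup G) : Set G))
    have hXR : X ≤ R := (closure_le _).2 (Set.insert_subset hF.c_mem fun x hx => hx.1)
    have hXc : ∀ x ∈ X, ∀ y ∈ X, x * y = y * x := by
      have hgen : ∀ x ∈ insert c ((R ⊓ A : Subgroup G) : Set G),
          ∀ y ∈ insert c ((R ⊓ A : Subgroup G) : Set G), x * y = y * x := by
        rintro x (rfl | hx) y (rfl | hy)
        · rfl
        · exact hF.c_comm y hy.1
        · exact (hF.c_comm x hx.1).symm
        · exact hV.a_comm x hx.2 y hy.2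
      intro x hx y hy
      have : x ∈ centralizer ({y} : Set G) := by
        refine (closure_le _).2 (fun z hz => mem_centralizer_singleton_iff.2 ?_) hx
        have : y ∈ centralizer ({z} : Set G) :=
          (closure_le _).2 (fun w hw => mem_centralizer_singleton_iff.2 (hgen w hw z hz)) hy
        exact (mem_centralizer_singleton_iff.1 this).symm
      exact mem_centralizer_singleton_iff.1 this
    have hle : (R ⊓ A : Subgroup G) ≤ X := fun x hx => subset_closure (Set.mem_insert_of_mem _ hx)
    have := eq_of_le_of_card_ge hle (h16 ▸ hF.abel X hXR hXc)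
    have hc : c ∈ (R ⊓ A : Subgroup G) := by rw [this]; exact subset_closure (Set.mem_insert _ _)
    exact hc.2
  · obtain ⟨x, -, hx⟩ := Finset.mem_image.1 (heq.symm ▸ List.mem_toFinset.2 hP)
    exact ⟨x, x.2, T x, hT x, hx⟩

end Setup

end CfsgLib.HSRec
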