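import Cfsg.Agent.HSRec.Pull
import Cfsg.Agent.HSRec.PermData
import Cfsg.Agent.Mathieu.HigmanSims

/-!
The symmetry group of the Higman–Sims graph satisfies the same relations.
-/

set_option autoImplicit false
set_option maxRecDepth 100000
set_option Elab.async false

namespace CfsgLib.HSRec

open Subgroup CfsgLib.CosetEnum CfsgLib.LyG2
open Equiv (Perm)
open CfsgLib.Mathieu.HigmanSims (hs autGraph swapsProd adjB)

/-- The image of a point under a packed symmetry. -/
def papp (T : ℕ) (i : Fin 100) : Fin 100 :=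
  ⟨Nat.mod (Nat.land (Nat.shiftRight T (Nat.mul 7 i.val)) 127) 100, Nat.mod_lt _ (by norm_num)⟩

/-- The symmetry given by a table and its inverse. -/
def pPerm (T U : ℕ) (h : ∀ i, papp U (papp T i) = i) (h' : ∀ i, papp T (papp U i) = i) : Perm (Fin 100) :=
  ⟨papp T, papp U, h, h'⟩

/-- The image of `x`. -/
def pX : Perm (Fin 100) := pPerm pxTbl pxTblInv (by decide +kernel) (by decide +kernel)
/-- The image of `y`. -/
def pY : Perm (Fin 100) := pPerm pyTbl pyTblInv (by decide +kernel) (by decide +kernel)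
/-- The image of `z`. -/
def pZ : Perm (Fin 100) := pPerm pzTbl pzTblInv (by decide +kernel) (by decide +kernel)
/-- The image of `a`. -/
def pA : Perm (Fin 100) := pPerm paTbl paTblInv (by decide +kernel) (by decide +kernel)
/-- The image of `b`. -/
def pB : Perm (Fin 100) := pPerm pbTbl pbTblInv (by decide +kernel) (by decide +kernel)
/-- The image of `f`. -/
def pF : Perm (Fin 100) := pPerm pfTbl pfTblInv (by decide +kernel) (by decide +kernel)

/-- The images of the coordinates. -/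
def pE : ℕ → Perm (Fin 100)
  | 0 => pX
  | 1 => pY
  | _ => pZ

theorem frame_p : Frame pE := by
  refine ⟨?_, ?_⟩
  · intro i j hi hj
    interval_cases i <;> interval_cases j <;> (refine Equiv.ext ?_; decide +kernel)
  · intro i hi
    interval_cases i <;> (refine Equiv.ext ?_; decide +kernel)

theorem facts_p : MFacts pE pA pB 0 where
  frame := frame_p
  ha i hi := by interval_cases i <;> (refine Equiv.ext ?_; decide +kernel)
  hb i hi := by interval_cases i <;> (refine Equiv.ext ?_; decide +kernel)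
  a2 := by refine Equiv.ext ?_; decide +kernel
  b3 := by refine Equiv.ext ?_; decide +kernel
  ab7 := by refine Equiv.ext ?_; decide +kernel
  hr := by norm_num
  hc := by refine Equiv.ext ?_; decide +kernel

/-- An edge in the symmetry group. -/
def pEdgeOK (i l : ℕ) : Bool :=
  let E := hEdge (kappas.getD 0 0) (kappas.getD 1 0) (kappas.getD 2 0) i l
  force E.1 fun p => force E.2 fun j => Nat.blt p 10752 && (Nat.blt j 5 &&
    decide (∀ x : Fin 100, (pF ^ i * hLet pE pA pB pF l) x = hVal pE pA pB pF (p, j) x))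

theorem pEdge_spec : ((List.range 5).all fun i => (List.range 8).all fun l => pEdgeOK i l) = true := by
  decide +kernel

theorem model_p : Model pE pA pB pF := by
  refine ⟨facts_p, fun i l hi hl => ?_⟩
  have h := pEdge_spec
  simp only [List.all_eq_true] at h
  have h := h i (List.mem_range.2 hi) l (List.mem_range.2 hl)
  simp only [pEdgeOK, force_eq, Bool.and_eq_true, Nat.blt_eq, decide_eq_true_eq] at h
  exact ⟨h.1, h.2.1, Equiv.ext h.2.2⟩

/-- The letters in the symmetry group. -/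
def pl : ℕ → Perm (Fin 100) := plet pE pA pB pF

theorem gens_eq : pl 0 = swapsProd swK ∧ pl 2 = swapsProd swS ∧ pl 4 = swapsProd swA ∧
    pl 6 = swapsProd swF := by
  refine ⟨?_, ?_, ?_, ?_⟩ <;> (refine Equiv.ext ?_; decide +kernel)

/-- A packed symmetry preserves adjacency. -/
def adjPres (T : ℕ) : Bool :=
  (List.range 100).all fun i =>
    (fun r r' => (List.range 100).all fun j =>
      Nat.beq (Nat.land (Nat.shiftRight r j) 1)
        (Nat.land (Nat.shiftRight r' (Nat.mod (Nat.land (Nat.shiftRight T (Nat.mul 7 j)) 127) 100)) 1))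
      (Mathieu.HigmanSims.rows.getD i 0)
      (Mathieu.HigmanSims.rows.getD (Nat.mod (Nat.land (Nat.shiftRight T (Nat.mul 7 i)) 127) 100) 0)

theorem adjPres_all :
    (adjPres pkTbl && (adjPres psTbl && (adjPres paTbl && adjPres pfTbl))) = true := by decide +kernel

theorem adj_of_pres {T : ℕ} (h : adjPres T = true) (σ : Perm (Fin 100)) (hσ : ∀ x, σ x = papp T x) :
    ∀ u v, adjB (σ u) (σ v) = adjB u v := by
  intro u v
  rw [hσ, hσ]
  simp only [adjPres, List.all_eq_true, Nat.beq_eq] at h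
  have h := h u.val (List.mem_range.2 u.isLt) v.val (List.mem_range.2 v.isLt)
  unfold adjB Nat.testBit
  have hb : ∀ r j : ℕ, (1 &&& r >>> j != 0) = (Nat.land (Nat.shiftRight r j) 1 == 1) := by
    intro r j
    show (1 &&& r >>> j != 0) = (r >>> j &&& 1 == 1)
    rw [Nat.and_comm]
    have : r >>> j &&& 1 < 2 := Nat.lt_succ_of_le Nat.and_le_right
    rcases (show r >>> j &&& 1 = 0 ∨ r >>> j &&& 1 = 1 by omega) with e | e <;> simp [e]
  rw [hb, hb, h]
  rfl

theorem tables_eq : (∀ x, pl 0 x = papp pkTbl x) ∧ (∀ x, pl 2 x = papp psTbl x) ∧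
    (∀ x, pl 4 x = papp paTbl x) ∧ (∀ x, pl 6 x = papp pfTbl x) := by
  refine ⟨?_, ?_, ?_, ?_⟩ <;> decide +kernel

theorem adj_gens : (∀ u v, adjB (pl 0 u) (pl 0 v) = adjB u v) ∧ (∀ u v, adjB (pl 2 u) (pl 2 v) = adjB u v) ∧
    (∀ u v, adjB (pl 4 u) (pl 4 v) = adjB u v) ∧ (∀ u v, adjB (pl 6 u) (pl 6 v) = adjB u v) := by
  have h := adjPres_all
  simp only [Bool.and_eq_true] at h
  obtain ⟨t0, t2, t4, t6⟩ := tables_eq
  exact ⟨adj_of_pres h.1 _ t0, adj_of_pres h.2.1 _ t2, adj_of_pres h.2.2.1 _ t4, adj_of_pres h.2.2.2 _ t6⟩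

theorem sign_swaps {l : List (Fin 100 × Fin 100)} (h : ∀ p ∈ l, p.1 ≠ p.2) (he : Even l.length) :
    swapsProd l ∈ alternatingGroup (Fin 100) := by
  rw [Equiv.Perm.mem_alternatingGroup, swapsProd, Equiv.Perm.sign_prod_list_swap, List.length_map,
    he.neg_one_pow]
  intro g hg
  obtain ⟨p, hp, rfl⟩ := List.mem_map.1 hg
  exact ⟨p.1, p.2, h p hp, rfl⟩

theorem mem_hs {σ : Perm (Fin 100)} {l : List (Fin 100 × Fin 100)}
    (ha : ∀ u v, adjB (σ u) (σ v) = adjB u v) (he : σ = swapsProd l) (hne : ∀ p ∈ l, p.1 ≠ p.2)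
    (hev : Even l.length) : σ ∈ hs :=
  Subgroup.mem_inf.2 ⟨ha, by rw [he]; exact sign_swaps hne hev⟩

/-- Transpositions of distinct points, evenly many. -/
def swOK (l : List (Fin 100 × Fin 100)) : Bool :=
  l.all (fun p => !Nat.beq p.1.val p.2.val) && Nat.beq (Nat.mod l.length 2) 0

theorem of_swOK {l : List (Fin 100 × Fin 100)} (h : swOK l = true) :
    (∀ p ∈ l, p.1 ≠ p.2) ∧ Even l.length := by
  simp only [swOK, Bool.and_eq_true, List.all_eq_true, Bool.not_eq_true', Nat.beq_eq] at h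
  refine ⟨fun p hp he => ?_, Nat.even_iff.2 h.2⟩
  have := h.1 p hp
  rw [he, show Nat.beq p.2.val p.2.val = true from Nat.beq_refl _] at this
  exact Bool.false_ne_true this.symm

theorem swaps_ok : ((∀ p ∈ swK, p.1 ≠ p.2) ∧ Even swK.length) ∧ ((∀ p ∈ swS, p.1 ≠ p.2) ∧ Even swS.length) ∧
    ((∀ p ∈ swA, p.1 ≠ p.2) ∧ Even swA.length) ∧ ((∀ p ∈ swF, p.1 ≠ p.2) ∧ Even swF.length) :=
  ⟨of_swOK (by decide +kernel), of_swOK (by decide +kernel), of_swOK (by decide +kernel),
    of_swOK (by decide +kernel)⟩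

theorem pl_inv : ∀ x, pl (iv x) = (pl x)⁻¹ := fun x => plet_iv pE pA pB pF x

theorem pl_mem {l : ℕ} (hl : l < 8) : pl l ∈ hs := by
  obtain ⟨a0, a2, a4, a6⟩ := adj_gens
  obtain ⟨e0, e2, e4, e6⟩ := gens_eq
  obtain ⟨⟨n0, v0⟩, ⟨n2, v2⟩, ⟨n4, v4⟩, n6, v6⟩ := swaps_ok
  have h : ∀ i < 4, pl (2 * i) ∈ hs := by
    intro i hi
    interval_cases i
    · exact mem_hs a0 e0 n0 v0
    · exact mem_hs a2 e2 n2 v2
    · exact mem_hs a4 e4 n4 v4
    · exact mem_hs a6 e6 n6 v6
  rcases Nat.even_or_odd' l with ⟨i, rfl | rfl⟩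
  · exact h i (by omega)
  · rw [← iv_even i, pl_inv]
    exact inv_mem (h i (by omega))

end CfsgLib.HSRec
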