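import Cfsg.Agent.HNXYZ.Log

/-!
Auxiliary facts about words in letters and their inverses.
-/

set_option autoImplicit false

namespace CfsgLib.HSRec

open CfsgLib.CosetEnum CfsgLib.LyG2 CfsgLib.HNXYZ

variable {G : Type*} [Group G] {g : ℕ → G}

/-- Two words with the same reduction. -/
def sameRedW (a b : List ℕ) : Bool :=
  (a.all fun x => Nat.blt x 14) && ((b.all fun x => Nat.blt x 14) &&
    leq (redRev a []) (redRev b []))

theorem prodw_of_sameRedW (hg : ∀ x, g (iv x) = (g x)⁻¹) {a b : List ℕ} (h : sameRedW a b = true) :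
    prodw g a = prodw g b := by
  simp only [sameRedW, Bool.and_eq_true, List.all_eq_true, Nat.blt_eq] at h
  obtain ⟨ha, hb, he⟩ := h
  have h1 := rv_redRev hg a [] ha
  have h2 := rv_redRev hg b [] hb
  rw [leq_eq _ _ he] at h1
  rw [h2] at h1
  exact (mul_left_cancel h1).symm

/-- The inverse word. -/
def winv (w : List ℕ) : List ℕ := w.reverse.map iv

theorem prodw_winv (hg : ∀ x, g (iv x) = (g x)⁻¹) (w : List ℕ) : prodw g (winv w) = (prodw g w)⁻¹ := by
  induction w with
  | nil => simp [winv, prodw]
  | cons x w ih =>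
    rw [winv, List.reverse_cons, List.map_append, prodw_append, ← winv, ih, prodw_cons, mul_inv_rev]
    simp [prodw, hg]

theorem letters_lt14 {words : List (List ℕ)}
    (h : words.all (fun w => w.all fun x => Nat.blt x 14) = true) :
    ∀ r, ∀ x ∈ words.getD r [], x < 14 := by
  intro r x hx
  rw [List.getD_eq_getElem?_getD] at hx
  by_cases hr : r < words.length
  · rw [List.getElem?_eq_getElem hr, Option.getD_some] at hx
    simpa using List.all_eq_true.1 (List.all_eq_true.1 h _ (List.getElem_mem hr)) x hx
  · rw [List.getElem?_eq_none (by omega)] at hx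
    simp at hx

theorem rels_of_check {words : List (List ℕ)} {nR : ℕ} (ok : List ℕ → Bool)
    (hok : ∀ w, ok w = true → prodw g w = 1) (hn : nR ≤ words.length)
    (hc : (words.take nR).all ok = true) : ∀ r, r < nR → prodw g (words.getD r []) = 1 := by
  intro r hr
  refine hok _ (List.all_eq_true.1 hc _ ?_)
  rw [List.getD_eq_getElem _ _ (by omega)]
  exact List.mem_take_iff_getElem.2 ⟨r, by omega, rfl⟩

theorem subs_of_mem {words : List (List ℕ)} {nR : ℕ} (H : Subgroup G)
    (hR : ∀ r, r < nR → prodw g (words.getD r []) = 1)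
    (hS : ∀ w ∈ words.drop nR, prodw g w ∈ H) :
    ∀ r, r < words.length → prodw g (words.getD r []) ∈ H := by
  intro r hr
  by_cases h : r < nR
  · rw [hR r h]; exact H.one_mem
  · refine hS _ ?_
    rw [List.getD_eq_getElem _ _ hr]
    exact List.mem_drop_iff_getElem.2 ⟨r - nR, by omega, by congr 1; omega⟩

end CfsgLib.HSRec
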