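import Cfsg.Agent.HSRec.HModel2
import Cfsg.Agent.HSRec.Words

/-!
Evaluation of words in `k, k⁻¹, s, s⁻¹, a, a, f, f⁻¹` in the two local models, and the missing relation:
an element of the centralizer is moved through both models along a fixed path.
-/

set_option autoImplicit false
set_option maxRecDepth 100000

namespace CfsgLib.HSRec

open Subgroup CfsgLib.CosetEnum CfsgLib.LyG2

/-- The codes of the letters in the 2-local. -/
def mLet : ℕ → ℕ
  | 0 => kBase1
  | 1 => minv tb0 kBase1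
  | 2 => sCode
  | 3 => minv tb0 sCode
  | 4 => 64
  | _ => minv tb0 64

/-- The value of a word in the 2-local. -/
def mEval (w : List ℕ) : ℕ := w.foldl (fun x l => mmul tb0 x (mLet l)) 0

/-- The letters of the centralizer as words in its generators. -/
def hSub : ℕ → List ℕ
  | 0 => [5]
  | 1 => [5, 5, 5, 5, 5, 5, 5]
  | 2 => [6]
  | 3 => [6, 6]
  | 6 => [7]
  | _ => [7, 7, 7, 7]

/-- The value of a word in the centralizer. -/
def hEval (w : List ℕ) : ℕ × ℕ := w.foldl (fun x l => hw (hSub l) x) (0, 0)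

/-- Is the word the identity in one of the models? -/
def wordOK (w : List ℕ) : Bool :=
  ((w.all fun l => Nat.blt l 6) && Nat.beq (mEval w) 0) ||
    ((w.all fun l => Nat.blt l 4 || (Nat.ble 6 l && Nat.blt l 8)) &&
      (Nat.beq (hEval w).1 0 && Nat.beq (hEval w).2 0))

/-- The four generators. -/
def pgen {G : Type*} [Group G] (e : ℕ → G) (a b f : G) : ℕ → G
  | 0 => mval e a b kBase1
  | 1 => mval e a b sCode
  | 2 => mval e a b 64
  | _ => f

/-- The eight letters. -/
def plet {G : Type*} [Group G] (e : ℕ → G) (a b f : G) : ℕ → G := lv (pgen e a b f)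

theorem plet_iv {G : Type*} [Group G] (e : ℕ → G) (a b f : G) (x : ℕ) :
    plet e a b f (iv x) = (plet e a b f x)⁻¹ := lv_iv _ x

/-- A group with the two models. -/
structure Model {G : Type*} [Group G] (e : ℕ → G) (a b f : G) : Prop where
  facts : MFacts e a b 0
  edge : ∀ i l, i < 5 → l < 8 →
    (hEdge (kappas.getD 0 0) (kappas.getD 1 0) (kappas.getD 2 0) i l).1 < 10752 ∧
      (hEdge (kappas.getD 0 0) (kappas.getD 1 0) (kappas.getD 2 0) i l).2 < 5 ∧
      f ^ i * hLet e a b f l =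
        hVal e a b f (hEdge (kappas.getD 0 0) (kappas.getD 1 0) (kappas.getD 2 0) i l)

theorem sub_spec : mmul tb0 (mmul tb0 kBase1 (minv tb0 kBase1)) 0 = 0 ∧ mpowc tb0 kBase1 8 = 0 ∧
    mpowc tb0 sCode 3 = 0 ∧ mmul tb0 64 64 = 0 ∧ stabList.contains (64 / 64) = false ∧
    (∀ l < 6, mLet l < 10752) ∧
      (∀ l < 8, (hSub l).all (fun x => Nat.blt x 8) = true) := by decide +kernel

section Any

variable {G : Type*} [Group G] {e : ℕ → G} {a b f : G} (P : Model e a b f)
include P

theorem Model.one : mval e a b 0 = 1 ∧ hVal e a b f (0, 0) = 1 := by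
  have h : mval e a b 0 = 1 := by rw [mval_low (by norm_num), iota_zero]
  exact ⟨h, by show mval e a b 0 * f ^ 0 = 1; rw [h, pow_zero, mul_one]⟩

theorem Model.walk : ∀ (w : List ℕ), (∀ l ∈ w, l < 8) → ∀ x : ℕ × ℕ, x.1 < 10752 → x.2 < 5 →
    (hw w x).1 < 10752 ∧ (hw w x).2 < 5 ∧
      hVal e a b f (hw w x) = hVal e a b f x * prodw (hLet e a b f) w
  | [], _, x, hx, hx' => ⟨hx, hx', by simp [hw, hWalk, prodw_nil]⟩
  | l :: w, hw', x, hx, hx' => by
    have hr0 : (0 : ℕ) ∈ [0, 34, 57, 27] := by decide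
    obtain ⟨e1, e2, e3⟩ := P.edge x.2 l hx' (hw' l List.mem_cons_self)
    obtain ⟨r1, r2, r3⟩ := Model.walk w (fun y hy => hw' y (List.mem_cons_of_mem _ hy))
      (mmul tb0 x.1 (hEdge (kappas.getD 0 0) (kappas.getD 1 0) (kappas.getD 2 0) x.2 l).1,
        (hEdge (kappas.getD 0 0) (kappas.getD 1 0) (kappas.getD 2 0) x.2 l).2) (mmul_lt hx e1) e2
    refine ⟨r1, r2, ?_⟩
    rw [show hw (l :: w) x = hw w _ from rfl, r3, prodw_cons, ← mul_assoc (hVal e a b f x)]
    congr 1
    show mval e a b (mmul tb0 x.1 _) * f ^ _ = mval e a b x.1 * f ^ x.2 * hLet e a b f l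
    rw [P.facts.mval_mul hr0 hx e1, mul_assoc (mval e a b x.1) (f ^ x.2), e3, hVal, mul_assoc]

theorem Model.f5 : f ^ 5 = 1 := by
  obtain ⟨h0, h00⟩ := P.one
  obtain ⟨-, -, h⟩ := P.walk [7, 7, 7, 7, 7] (by decide) (0, 0) (show (0 : ℕ) < 10752 by norm_num)
    (show (0 : ℕ) < 5 by norm_num)
  rw [show hw [7, 7, 7, 7, 7] (0, 0) = (0, 0) by decide +kernel, h00, one_mul] at h
  simpa [prodw, hLet, pow_succ, mul_assoc] using h.symm

theorem Model.sub_eq {l : ℕ} (hl : l < 4 ∨ 6 ≤ l ∧ l < 8) :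
    prodw (hLet e a b f) (hSub l) = plet e a b f l := by
  have hr0 : (0 : ℕ) ∈ [0, 34, 57, 27] := by decide
  obtain ⟨h0, -⟩ := P.one
  obtain ⟨-, hk, hs, -⟩ := sub_spec
  obtain ⟨-, -, hk0, hsl, -⟩ := gen_lt
  have k8 : mval e a b kBase1 ^ 8 = 1 := by
    rw [← P.facts.mval_pow hr0 hk0 8, hk, h0]
  have s3 : mval e a b sCode ^ 3 = 1 := by
    rw [← P.facts.mval_pow hr0 hsl 3, hs, h0]
  have f5 := P.f5
  rcases hl with h | ⟨h1, h2⟩
  · interval_cases l
    · simp [hSub, prodw, hLet, plet, lv_eq, pgen, kGen]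
    · show prodw (hLet e a b f) (List.replicate 7 5) = (mval e a b kBase1)⁻¹
      rw [prodw, List.map_replicate, List.prod_replicate]
      show (mval e a b kBase1) ^ 7 = _
      rw [eq_inv_iff_mul_eq_one, ← pow_succ]
      exact k8
    · simp [hSub, prodw, hLet, plet, lv_eq, pgen, kGen]
    · show prodw (hLet e a b f) (List.replicate 2 6) = (mval e a b sCode)⁻¹
      rw [prodw, List.map_replicate, List.prod_replicate]
      show (mval e a b sCode) ^ 2 = _
      rw [eq_inv_iff_mul_eq_one, ← pow_succ]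
      exact s3
  · interval_cases l
    · simp [hSub, prodw, hLet, plet, lv_eq, pgen]
    · show prodw (hLet e a b f) (List.replicate 4 7) = f⁻¹
      rw [prodw, List.map_replicate, List.prod_replicate]
      show (f) ^ 4 = _
      rw [eq_inv_iff_mul_eq_one, ← pow_succ]
      exact f5

theorem Model.hEval_spec : ∀ (w : List ℕ), (∀ l ∈ w, l < 4 ∨ 6 ≤ l ∧ l < 8) →
    (hEval w).1 < 10752 ∧ (hEval w).2 < 5 ∧ hVal e a b f (hEval w) = prodw (plet e a b f) w := by
  intro w
  induction w using List.reverseRecOn with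
  | nil =>
    intro _
    exact ⟨show (0 : ℕ) < 10752 by norm_num, show (0 : ℕ) < 5 by norm_num, P.one.2⟩
  | append_singleton w l ih =>
    intro hw'
    obtain ⟨i1, i2, i3⟩ := ih fun x hx => hw' x (by simp [hx])
    have hl := hw' l (by simp)
    have hl8 : ∀ x ∈ hSub l, x < 8 := by
      have := sub_spec.2.2.2.2.2.2 l (by omega)
      simpa using this
    rw [show hEval (w ++ [l]) = hw (hSub l) (hEval w) by simp [hEval, List.foldl_append]]
    obtain ⟨j1, j2, j3⟩ := P.walk (hSub l) hl8 _ i1 i2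
    refine ⟨j1, j2, ?_⟩
    rw [j3, i3, P.sub_eq hl, prodw_append]
    simp [prodw]

theorem Model.mEval_spec : ∀ (w : List ℕ), (∀ l ∈ w, l < 6) →
    mEval w < 10752 ∧ mval e a b (mEval w) = prodw (plet e a b f) w := by
  have hr0 : (0 : ℕ) ∈ [0, 34, 57, 27] := by decide
  intro w
  induction w using List.reverseRecOn with
  | nil =>
    intro _
    exact ⟨show (0 : ℕ) < 10752 by norm_num, P.one.1⟩
  | append_singleton w l ih =>
    intro hw'
    obtain ⟨i1, i2⟩ := ih fun x hx => hw' x (by simp [hx])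
    have hl : l < 6 := hw' l (by simp)
    have hm : mLet l < 10752 := sub_spec.2.2.2.2.2.1 l hl
    rw [show mEval (w ++ [l]) = mmul tb0 (mEval w) (mLet l) by simp [mEval, List.foldl_append]]
    refine ⟨mmul_lt i1 hm, ?_⟩
    rw [P.facts.mval_mul hr0 i1 hm, i2, prodw_append]
    congr 1
    have hk0 := gen_lt.2.2.1
    have hsl := gen_lt.2.2.2.1
    interval_cases l
    · simp [mLet, prodw, plet, lv_eq, pgen]
    · simpa [mLet, prodw, plet, lv_eq, pgen] using (P.facts.mval_minv hr0 hk0).1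
    · simp [mLet, prodw, plet, lv_eq, pgen]
    · simpa [mLet, prodw, plet, lv_eq, pgen] using (P.facts.mval_minv hr0 hsl).1
    · simp [mLet, prodw, plet, lv_eq, pgen]
    · simpa [mLet, prodw, plet, lv_eq, pgen] using
        (P.facts.mval_minv hr0 (show 64 < 10752 by norm_num)).1

theorem Model.word_one {w : List ℕ} (h : wordOK w = true) : prodw (plet e a b f) w = 1 := by
  simp only [wordOK, Bool.or_eq_true, Bool.and_eq_true, List.all_eq_true, Nat.blt_eq, Nat.ble_eq,
    Nat.beq_eq] at h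
  rcases h with ⟨h1, h2⟩ | ⟨h1, h2, h3⟩
  · rw [← (P.mEval_spec w h1).2, h2, P.one.1]
  · rw [← (P.hEval_spec w h1).2.2, show hEval w = (0, 0) from Prod.ext h2 h3, P.one.2]

end Any

end CfsgLib.HSRec
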