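import Cfsg.Agent.HSRec.HModel2

/-!
The two possible images under the fixed path.
-/

set_option autoImplicit false
set_option maxRecDepth 100000
set_option Elab.async false

namespace CfsgLib.HSRec

/-- Equality of codes. -/
def heq (x y : ℕ × ℕ) : Bool := Nat.beq x.1 y.1 && Nat.beq x.2 y.2

/-- The constraints on the image. -/
def yOK (y : ℕ × ℕ) : Bool :=
  !(heq (hmul y (832, 0)) (hmul (832, 0) y) &&
      (heq (hmul y (hmul y y)) (832, 0) &&
        heq (hmul (hmul y (890, 0)) (hmul y (890, 0))) (1504, 0))) ||
    (heq y (8549, 2) || heq y (9414, 2))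

/-- The constraints at six of the cosets. -/
def yRow (n : ℕ) : Bool :=
  ((stabList.drop (Nat.mul 6 n)).take 6).all fun g => (List.range 64).all fun v =>
    (List.range 5).all fun i => yOK (Nat.add v (Nat.mul 64 g), i)

theorem yRow0 : yRow 0 = true := by decide +kernel

theorem yRow1 : yRow 1 = true := by decide +kernel

theorem yRow2 : yRow 2 = true := by decide +kernel

theorem yRow3 : yRow 3 = true := by decide +kernel

theorem yOK_all {y : ℕ × ℕ} (h : hOK y) : yOK y = true := by
  obtain ⟨h1, h2, h3⟩ := h
  obtain ⟨p, i⟩ := y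
  have hg : p / 64 ∈ stabList := List.contains_iff_mem.1 h2
  have hsplit : stabList = (stabList.drop 0).take 6 ++ (stabList.drop 6).take 6 ++
      (stabList.drop 12).take 6 ++ (stabList.drop 18).take 6 := by decide
  rw [hsplit] at hg
  have key : ∀ n, yRow n = true → p / 64 ∈ (stabList.drop (6 * n)).take 6 → yOK (p, i) = true := by
    intro n hn hm
    simp only [yRow, List.all_eq_true, Nat.mul_eq, Nat.add_eq] at hn
    have := hn (p / 64) hm (p % 64) (List.mem_range.2 (Nat.mod_lt _ (by norm_num))) i (List.mem_range.2 h3)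
    rwa [show p % 64 + 64 * (p / 64) = p by omega] at this
  simp only [List.mem_append] at hg
  rcases hg with ((h | h) | h) | h
  · exact key 0 yRow0 h
  · exact key 1 yRow1 h
  · exact key 2 yRow2 h
  · exact key 3 yRow3 h

end CfsgLib.HSRec
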