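import Cfsg.Agent.HSRec.Pull
import Cfsg.Agent.HSRec.PullData
import Cfsg.Agent.HSRec.LogA

/-!
The relation between the two models: one of the two possibilities collapses.
-/

set_option autoImplicit false
set_option maxRecDepth 100000

namespace CfsgLib.HSRec

open Subgroup CfsgLib.CosetEnum CfsgLib.LyG2 CfsgLib.HNXYZ

/-- The path. -/
def gPath : List ℕ := [1, 2, 0, 3, 4, 3, 0] ++ [0, 6] ++ [4]

/-- The element moved. -/
def xWord : List ℕ := [1, 6, 3, 6, 3, 0]

/-- The collapsing relation. -/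
def relA : List ℕ := [5, 7, 1, 1, 2, 5, 2, 1, 3, 6, 3, 6, 0, 3, 4, 3, 0, 0, 6, 4, 2, 0, 6, 2]

/-- The relation. -/
def relB : List ℕ := [5, 7, 1, 1, 2, 5, 2, 1, 3, 6, 3, 6, 0, 3, 4, 3, 0, 0, 6, 4, 0, 0, 3, 1, 6]

/-- Conjugation of codes. -/
def hconj (h x : ℕ × ℕ) : ℕ × ℕ := hmul (hmul h x) (hinv h)

/-- Moving along the path. -/
def pullTo (p q : ℕ) : Bool :=
  let u := mcj tb0 (minv tb0 1728) p
  let r := hconj (hinv (2000, 1)) (u, 0)
  Nat.blt p 10752 && (stabList.contains (Nat.div u 64) &&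
    (Nat.beq r.2 0 && Nat.beq (mcj tb0 (minv tb0 64) r.1) q))

theorem pull_facts : (pullTo 1550 2 && (pullTo 2 832 && (pullTo 36 890 && pullTo 7489 1504))) = true ∧
    (heq (hmul (6778, 2) (1550, 0)) (hmul (1550, 0) (6778, 2)) &&
      (heq (hmul (6778, 2) (2, 0)) (hmul (2, 0) (6778, 2)) &&
        (heq (hmul (6778, 2) (hmul (6778, 2) (6778, 2))) (2, 0) &&
          heq (hmul (hmul (6778, 2) (36, 0)) (hmul (6778, 2) (36, 0))) (7489, 0)))) = true ∧
    stabList.contains (6778 / 64) = true ∧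
    stabList.contains (1550 / 64) = true ∧ stabList.contains (2 / 64) = true ∧
    stabList.contains (36 / 64) = true ∧ stabList.contains (7489 / 64) = true ∧
    stabList.contains (832 / 64) = true ∧ stabList.contains (890 / 64) = true ∧
    stabList.contains (1504 / 64) = true ∧ stabList.contains (2000 / 64) = true := by decide +kernel

theorem path_words : (mEval [1, 2, 0, 3, 4, 3, 0] = 1728 ∧ hEval [0, 6] = (2000, 1) ∧ mEval [4] = 64) ∧
    hEval xWord = (6778, 2) ∧ hEval [7, 0, 2, 1, 1] = (8549, 2) ∧ hEval [3, 7, 1, 3] = (9414, 2) ∧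
    sameRedW (winv gPath ++ xWord ++ gPath ++ winv [7, 0, 2, 1, 1]) relB = true ∧
    sameRedW (winv gPath ++ xWord ++ gPath ++ winv [3, 7, 1, 3]) relA = true := by decide +kernel

theorem heq_eq {x y : ℕ × ℕ} (h : heq x y = true) : x = y := by
  simp only [heq, Bool.and_eq_true, Nat.beq_eq] at h
  exact Prod.ext h.1 h.2

theorem logA_check : (A.log.words.take A.log.nR).all (fun w => wordOK w || leq w relA) = true := by
  decide +kernel

variable {G : Type*} [Group G] [Finite G] {t c : G} {R H V M A : Subgroup G} {e : ℕ → G} {a b f : G}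
variable (hF : RFacts t c R H) (hV : VFacts t R V M A) (P : Five t R H V M A e a b f)
include hF hV P

theorem Five.model : Model e a b f :=
  ⟨P.std.facts, fun _ _ hi hl => P.edge hF hV hi hl⟩

theorem Five.pull_spec {p q : ℕ} (h : pullTo p q = true) :
    (prodw (plet e a b f) gPath)⁻¹ * mval e a b p * prodw (plet e a b f) gPath = mval e a b q := by
  have hr0 : (0 : ℕ) ∈ [0, 34, 57, 27] := by decide
  have Mo := P.model hF hV
  obtain ⟨⟨w1, w2, w3⟩, -⟩ := path_words
  have e1 := (Mo.mEval_spec [1, 2, 0, 3, 4, 3, 0] (by decide)).2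
  have e2 := (Mo.hEval_spec [0, 6] (by decide)).2.2
  have e3 := (Mo.mEval_spec [4] (by decide)).2
  rw [w1] at e1
  rw [w2] at e2
  rw [w3] at e3
  rw [gPath, prodw_append, prodw_append, ← e1, ← e2, ← e3]
  simp only [pullTo, Bool.and_eq_true, Nat.blt_eq, Nat.beq_eq] at h
  obtain ⟨hp, hS, hr2, hq⟩ := h
  obtain ⟨m1, l1⟩ := P.std.facts.mval_minv hr0 (show 1728 < 10752 by norm_num)
  obtain ⟨m3, l3⟩ := P.std.facts.mval_minv hr0 (show 64 < 10752 by norm_num)
  obtain ⟨u1, ul⟩ := P.std.facts.mval_mcj hr0 l1 hp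
  set u := mcj tb0 (minv tb0 1728) p with hu
  have hx : hOK (u, 0) := ⟨ul, hS, show (0 : ℕ) < 5 by norm_num⟩
  have hh : hOK (2000, 1) :=
    ⟨show 2000 < 10752 by norm_num, pull_facts.2.2.2.2.2.2.2.2.2.2, show (1 : ℕ) < 5 by norm_num⟩
  obtain ⟨i1, i2⟩ := P.hinv_spec hF hV hh
  obtain ⟨j1, j2⟩ := P.hmul_spec hF hV i1 hx
  obtain ⟨k1, k2⟩ := P.hinv_spec hF hV i1
  obtain ⟨r1, r2⟩ := P.hmul_spec hF hV j1 k1
  have hr : hVal e a b f (hconj (hinv (2000, 1)) (u, 0)) =
      (hVal e a b f (2000, 1))⁻¹ * hVal e a b f (u, 0) * hVal e a b f (2000, 1) := by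
    rw [hconj, r2, j2, k2, i2, inv_inv]
  set r := hconj (hinv (2000, 1)) (u, 0) with hrdef
  have hrl : r.1 < 10752 := r1.1
  obtain ⟨v1, -⟩ := P.std.facts.mval_mcj hr0 l3 hrl
  have hz : ∀ z, hVal e a b f (z, 0) = mval e a b z := fun z => by
    show mval e a b z * f ^ 0 = _
    rw [pow_zero, mul_one]
  have hr' : hVal e a b f r = mval e a b r.1 := by
    rw [show r = (r.1, 0) from Prod.ext rfl hr2, hz]
  rw [← hq, v1, ← hr', hr, hz, u1, m1, m3]
  group

theorem Five.relB_one : prodw (plet e a b f) relB = 1 := by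
  classical
  have Mo := P.model hF hV
  set g := prodw (plet e a b f) gPath
  obtain ⟨hp, hx, sx, s1, s2, s3, s4, s5, s6, s7, -⟩ := pull_facts
  simp only [Bool.and_eq_true] at hp hx
  obtain ⟨p1, p2, p3, p4⟩ := hp
  obtain ⟨x1, x2, x3, x4⟩ := hx
  obtain ⟨-, wx, wy1, wy2, red1, red2⟩ := path_words
  have hz : ∀ z, hVal e a b f (z, 0) = mval e a b z := fun z => by
    show mval e a b z * f ^ 0 = _
    rw [pow_zero, mul_one]
  have ok0 : ∀ p, p < 10752 → stabList.contains (p / 64) = true → hOK (p, 0) := fun p h h' =>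
    ⟨h, h', show (0 : ℕ) < 5 by norm_num⟩
  have okx : hOK (6778, 2) := ⟨show 6778 < 10752 by norm_num, sx, show (2 : ℕ) < 5 by norm_num⟩
  set X := hVal e a b f (6778, 2) with hX
  set y := g⁻¹ * X * g with hy
  have hm : ∀ {u v : ℕ × ℕ}, hOK u → hOK v → hVal e a b f (hmul u v) = hVal e a b f u * hVal e a b f v :=
    fun hu hv => (P.hmul_spec hF hV hu hv).2
  have cw : X * mval e a b 1550 = mval e a b 1550 * X := by
    have o := ok0 1550 (by norm_num) s1
    rw [hX, ← hz, ← hm okx o, ← hm o okx, heq_eq x1]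
  have ct : X * mval e a b 2 = mval e a b 2 * X := by
    have o := ok0 2 (by norm_num) s2
    rw [hX, ← hz, ← hm okx o, ← hm o okx, heq_eq x2]
  have c3 : X * (X * X) = mval e a b 2 := by
    rw [hX, ← hz 2, ← hm okx okx, ← hm okx (P.hmul_spec hF hV okx okx).1, heq_eq x3]
  have c36 : (X * mval e a b 36) * (X * mval e a b 36) = mval e a b 7489 := by
    have o := ok0 36 (by norm_num) s3
    have o2 := (P.hmul_spec hF hV okx o).1
    rw [hX, ← hz, ← hz 7489, ← hm okx o, ← hm o2 o2, heq_eq x4]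
  have g1 := P.pull_spec hF hV p1
  have g2 := P.pull_spec hF hV p2
  have g3 := P.pull_spec hF hV p3
  have g4 := P.pull_spec hF hV p4
  change g⁻¹ * _ * g = _ at g1 g2 g3 g4
  have ht : mval e a b 2 = t := t_code P.std.basis a b
  have hyH : y ∈ H := by
    rw [hF.hH, mem_centralizer_singleton_iff, ← ht, ← g1, hy]
    calc _ = g⁻¹ * (X * mval e a b 1550) * g := by group
      _ = g⁻¹ * (mval e a b 1550 * X) * g := by rw [cw]
      _ = _ := by group
  obtain ⟨z, hzok, hzy⟩ := P.hVal_surj hF hV hyH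
  have o832 := ok0 832 (by norm_num) s5
  have o890 := ok0 890 (by norm_num) s6
  have o1504 := ok0 1504 (by norm_num) s7
  have z1 : hmul z (832, 0) = hmul (832, 0) z := by
    have a1 := (P.hmul_spec hF hV hzok o832).1
    have a2 := (P.hmul_spec hF hV o832 hzok).1
    refine P.hVal_inj hF hV a1.1 a1.2.2 a2.1 a2.2.2 ?_
    rw [hm hzok o832, hm o832 hzok, hzy, hz, hy, ← g2]
    calc _ = g⁻¹ * (X * mval e a b 2) * g := by group
      _ = g⁻¹ * (mval e a b 2 * X) * g := by rw [ct]
      _ = _ := by group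
  have z2 : hmul z (hmul z z) = (832, 0) := by
    have a0 := (P.hmul_spec hF hV hzok hzok).1
    have a1 := (P.hmul_spec hF hV hzok a0).1
    refine P.hVal_inj hF hV a1.1 a1.2.2 o832.1 o832.2.2 ?_
    rw [hm hzok a0, hm hzok hzok, hzy, hz, hy, ← g2, ← c3]
    group
  have z3 : hmul (hmul z (890, 0)) (hmul z (890, 0)) = (1504, 0) := by
    have a0 := (P.hmul_spec hF hV hzok o890).1
    have a1 := (P.hmul_spec hF hV a0 a0).1
    refine P.hVal_inj hF hV a1.1 a1.2.2 o1504.1 o1504.2.2 ?_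
    rw [hm a0 a0, hm hzok o890, hzy, hz, hz, hy, ← g3, ← g4, ← c36]
    group
  have hrw : ∀ yw : List ℕ, hEval yw = z → (∀ l ∈ yw, l < 4 ∨ 6 ≤ l ∧ l < 8) →
      prodw (plet e a b f) (winv gPath ++ xWord ++ gPath ++ winv yw) = 1 := by
    intro yw h1 h2
    have ex := (Mo.hEval_spec xWord (by decide)).2.2
    have ey := (Mo.hEval_spec yw h2).2.2
    rw [wx] at ex
    rw [h1, hzy] at ey
    rw [prodw_append, prodw_append, prodw_append, prodw_winv (plet_iv e a b f),
      prodw_winv (plet_iv e a b f), ← ex, ← ey, hy, hX]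
    show g⁻¹ * _ * g * _ = (1 : G)
    group
  have hc := yOK_all hzok
  rw [yOK, z1, z2, z3] at hc
  have hrefl : ∀ q : ℕ × ℕ, heq q q = true := fun q => by simp [heq]
  simp only [hrefl, Bool.and_self, Bool.not_true, Bool.false_or, Bool.or_eq_true] at hc
  rcases hc with h | h <;> have hzc := heq_eq h
  · rw [← prodw_of_sameRedW (plet_iv e a b f) red1]
    exact hrw _ (wy1.trans hzc.symm) (by decide)
  exfalso
  have hrelA : prodw (plet e a b f) relA = 1 := by
    rw [← prodw_of_sameRedW (plet_iv e a b f) red2]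
    exact hrw _ (wy2.trans hzc.symm) (by decide)
  have hR := rels_of_check (g := plet e a b f) (fun w => wordOK w || leq w relA) (fun w hw' => by
      rcases Bool.or_eq_true_iff.1 hw' with h' | h'
      · exact Mo.word_one h'
      · rw [leq_eq _ _ h']; exact hrelA) (by decide +kernel) logA_check
  let K : Subgroup G := closure {plet e a b f 0, plet e a b f 2, plet e a b f 6}
  have hS : ∀ w ∈ CfsgLib.HSRec.A.log.words.drop CfsgLib.HSRec.A.log.nR, prodw (plet e a b f) w ∈ K := by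
    intro w hw'
    rw [CfsgLib.HSRec.A.sub_words] at hw'
    simp only [List.mem_cons, List.not_mem_nil, or_false] at hw'
    rcases hw' with rfl | rfl | rfl <;>
      · simp only [prodw, List.map_cons, List.map_nil, List.prod_cons, List.prod_nil, mul_one]
        exact subset_closure (by simp)
  have hmem := loop_sound (plet_iv e a b f) CfsgLib.HSRec.A.log K hR (subs_of_mem K hR hS) (letters_lt14 CfsgLib.HSRec.A.letters_ok)
    CfsgLib.HSRec.A.factsOK CfsgLib.HSRec.A.loop0_ok
  obtain ⟨-, -, hk0, hsl, -, hsS, hkS, -⟩ := gen_lt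
  have hKH : K ≤ H := by
    refine (closure_le _).2 ?_
    rintro _ (rfl | rfl | rfl)
    · simpa [plet, lv_eq, pgen] using (P.std.mem_H hF hk0).2 hkS
    · simpa [plet, lv_eq, pgen] using (P.std.mem_H hF hsl).2 hsS
    · simpa [plet, lv_eq, pgen] using P.fH
  have h64 : mval e a b 64 ∈ H := by simpa [prodw, plet, lv_eq, pgen] using hKH hmem
  have := (P.std.mem_H hF (show 64 < 10752 by norm_num)).1 h64
  rw [sub_spec.2.2.2.2.1] at this
  exact Bool.false_ne_true this

end CfsgLib.HSRec
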