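import Mathlib

/-!
Tables for the choice of `R` and of the element of order five.
-/

set_option autoImplicit false

namespace CfsgLib.HSRec

/-- Packed inverse cosets. -/
def giTbl : ℕ :=
  233466775341244290945123681616986663681107710797825429914810919997684140368653479301244707107931795326929395896000576082642755182127881156685392384210615840637676692149156814131617771632899711862011123798346290219875399979738793436224037599500289620780424381087618938056716798780840069769649648823069450005211410194478187882662530012573242147949925727051240400746311908153406001703613381553758393988350208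

/-- Cosets whose words fix the code `2`. -/
def stabList : List ℕ :=
  [0, 13, 23, 24, 29, 31, 36, 42, 52, 80, 83, 90, 92, 97, 102, 105, 109, 117, 122, 133, 138, 147, 159, 162]

/-- Coset representatives of the centre in a candidate for `R`. -/
def rList1 : List ℕ :=
  [0, 1, 8, 9, 1472, 1473, 1480, 1481, 6528, 6529, 6536, 6537, 7488, 7489, 7496, 7497]

/-- The chosen four-cycle. -/
def kBase1 : ℕ :=
  2000

/-- Conjugators to the chosen four-cycle. -/
def conjList1 : List ℕ :=
  [0, 16, 832, 848, 1856, 1872]

/-- For each representative a generator modulo the centre and the correction. -/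
def phiRows1 : List (ℕ × ℕ × ℕ) :=
  [(0, 8, 2), (1, 8, 2), (8, 8, 2), (9, 8, 2), (1472, 8, 0), (1473, 8, 0), (1480, 8, 0), (1481, 8, 0), (6528, 8, 0), (6529, 8, 0), (6536, 8, 0), (6537, 8, 0), (7488, 8, 2), (7489, 8, 2), (7496, 8, 2), (7497, 8, 2)]

/-- Coset representatives of the centre in a candidate for `R`. -/
def rList2 : List ℕ :=
  [0, 1, 8, 9, 1488, 1489, 1496, 1497, 6548, 6549, 6556, 6557, 7492, 7493, 7500, 7501]

/-- The chosen four-cycle. -/
def kBase2 : ℕ :=
  836

/-- Conjugators to the chosen four-cycle. -/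
def conjList2 : List ℕ :=
  [0, 4, 1536, 1540, 2688, 2692]

/-- For each representative a generator modulo the centre and the correction. -/
def phiRows2 : List (ℕ × ℕ × ℕ) :=
  [(0, 9, 2), (1, 9, 2), (8, 9, 2), (9, 9, 2), (1488, 9, 2), (1489, 9, 2), (1496, 9, 2), (1497, 9, 2), (6548, 9, 0), (6549, 9, 0), (6556, 9, 0), (6557, 9, 0), (7492, 9, 0), (7493, 9, 0), (7500, 9, 0), (7501, 9, 0)]

/-- Conjugators and twists to the chosen four-cycle. -/
def normWit : List (ℕ × ℕ × ℕ) :=
  [(0, 0, 0), (1, 0, 4), (8, 0, 1), (9, 0, 5), (7488, 0, 1476), (7489, 0, 1472), (7496, 0, 1477), (7497, 0, 1473)]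

/-- Conjugators and twists to the chosen image. -/
def imgWit : List (ℕ × ℕ × ℕ × ℕ) :=
  [(1472, 0, 7493, 0), (1473, 0, 8, 0), (1474, 0, 7501, 0), (1475, 0, 0, 0), (1504, 1, 17, 0), (1505, 1, 7508, 0), (1506, 1, 25, 0), (1507, 1, 7516, 0), (6528, 1, 1992, 2), (6530, 1, 1984, 2), (6537, 1, 2316, 2), (6539, 1, 2308, 2), (6561, 0, 2008, 2), (6563, 0, 2000, 2), (6568, 0, 2324, 2), (6570, 0, 2332, 2)]

end CfsgLib.HSRec
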