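import Cfsg.Agent.HSRec.Standard
import Cfsg.Agent.HSRec.RData

/-!
The extension splits and `R` is one of two explicit subgroups of `C_M(t)`.
-/

set_option autoImplicit false
set_option maxRecDepth 100000

namespace CfsgLib.HSRec

open Subgroup CfsgLib.CosetEnum

/-- The inverse of a code. -/
def minv (tb p : ℕ) : ℕ :=
  mmul tb (Nat.mul 64 (pfield 8 giTbl (Nat.div p 64)))
    (pneg (Nat.mod (mmul tb p (Nat.mul 64 (pfield 8 giTbl (Nat.div p 64)))) 64))

/-- Conjugation of codes. -/
def mcj (tb k p : ℕ) : ℕ := mmul tb (mmul tb k p) (minv tb k)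

/-- The codes of `R ∩ A`. -/
def inT (v : ℕ) : Bool := Nat.ble (Nat.land v 21) 1

/-- Membership in the candidate given by two offsets. -/
def inR (tb v1 v2 p : ℕ) : Bool :=
  let g := Nat.div p 64
  let v := Nat.mod p 64
  bif Nat.beq g 0 then inT v
  else bif Nat.beq g 23 then inT (padd v (pneg v1))
  else bif Nat.beq g 102 then inT (padd v (pneg v2))
  else Nat.beq g 117 &&
    inT (padd v (pneg (Nat.mod (mmul tb (Nat.add v1 (Nat.mul 64 23)) (Nat.add v2 (Nat.mul 64 102))) 64)))

/-- The conditions on a candidate. -/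
def rCandOK (tb v1 v2 : ℕ) : Bool :=
  let p := Nat.add v1 (Nat.mul 64 23)
  let q := Nat.add v2 (Nat.mul 64 102)
  let m := mmul tb
  let sqOK := fun x => Nat.beq (m x x) 0 || Nat.beq (m x x) 2
  let coOK := fun x y => Nat.beq (m x y) (m y x) || Nat.beq (m x y) (m 2 (m y x))
  sqOK p && (sqOK q && (sqOK (m p q) &&
    (([1, 8, 32, p, q].all fun x => [1, 8, 32, p, q].all (coOK x)) &&
      ([1, 4, 16, Nat.mul 64 13, Nat.mul 64 29].all fun k =>
        inR tb v1 v2 (mcj tb k p) && inR tb v1 v2 (mcj tb k q)))))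

/-- The residues of offsets. -/
def offsets : List ℕ := [0, 4, 16, 20]

theorem rCand_spec :
    (∀ v1 ∈ offsets, ∀ v2 ∈ offsets, rCandOK (edTbl 57) v1 v2 = false) ∧
      ∀ v1 ∈ offsets, ∀ v2 ∈ offsets, rCandOK (edTbl 0) v1 v2 = true →
        (v1 = 0 ∧ v2 = 0) ∨ (v1 = 16 ∧ v2 = 20) := by
  decide +kernel

theorem gi_spec : ∀ g < 168,
    pfield 8 giTbl g < 168 ∧ pend (gword (pfield 8 giTbl g)) g = 0 := by decide +kernel

theorem kGen_spec : ∀ r ∈ [0, 57], ∀ k ∈ [1, 4, 16, Nat.mul 64 13, Nat.mul 64 29], k < 10752 ∧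
    mmul (edTbl r) k 2 = mmul (edTbl r) 2 k := by decide +kernel

theorem mrm_div (tb p l : ℕ) : mrm tb p l / 64 = nx (p / 64) l := by
  have h := (padd_table _ (Nat.mod_lt p (show 64 > 0 by norm_num)) _ (ed_lt tb (p / 64) l)).1
  show (padd (p % 64) (ed tb (p / 64) l) + 64 * nx (p / 64) l) / 64 = _
  omega

theorem mwalk_div (tb : ℕ) : ∀ (w : List ℕ) (p : ℕ), mwalk tb w p / 64 = pend w (p / 64)
  | [], _ => rfl
  | l :: w, p => by rw [mwalk, mwalk_div tb w, mrm_div, pend]

theorem mmul_div (tb p q : ℕ) : mmul tb p q / 64 = pend (gword (q / 64)) (p / 64) := by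
  show mwalk tb (gword (q / 64)) (padd (p % 64) (gact (p / 64) (q % 64)) + 64 * (p / 64)) / 64 = _
  rw [mwalk_div]
  congr 1
  have := (padd_table (p % 64) (Nat.mod_lt _ (by norm_num)) (gact (p / 64) (q % 64)) (actc_lt _ _)).1
  omega

section Hom

variable {G : Type*} [Group G] {e : ℕ → G} {a b : G} {r : ℕ}

theorem MFacts.mval_minv (h : MFacts e a b r) (hr : r ∈ [0, 34, 57, 27]) {p : ℕ} (hp : p < 10752) :
    mval e a b (minv (edTbl r) p) = (mval e a b p)⁻¹ ∧ minv (edTbl r) p < 10752 := by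
  obtain ⟨hg, he⟩ := gi_spec (p / 64) (by omega)
  set q := 64 * pfield 8 giTbl (p / 64)
  have hq : q < 10752 := by omega
  set z := mmul (edTbl r) p q
  have hz : z % 64 = z := by
    have h0 : z / 64 = 0 := by
      rw [mmul_div, show q / 64 = pfield 8 giTbl (p / 64) by omega, he]
    omega
  have hz64 : z < 64 := by omega
  have hzp : pneg z < 10752 := lt_trans (pneg_spec z hz64).1 (by norm_num)
  show mval e a b (mmul (edTbl r) q (pneg (z % 64))) = _ ∧ mmul (edTbl r) q (pneg (z % 64)) < _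
  rw [hz]
  refine ⟨?_, mmul_lt hq hzp⟩
  have hpq := h.mval_mul hr hp hq
  rw [show mval e a b (mmul (edTbl r) p q) = iota e z from mval_low hz64] at hpq
  rw [h.mval_mul hr hq hzp, mval_low (pneg_spec z hz64).1, h.frame.iota_pneg hz64, hpq, mul_inv_rev,
    mul_inv_cancel_left]

theorem MFacts.mval_mcj (h : MFacts e a b r) (hr : r ∈ [0, 34, 57, 27]) {k p : ℕ} (hk : k < 10752)
    (hp : p < 10752) :
    mval e a b (mcj (edTbl r) k p) = mval e a b k * mval e a b p * (mval e a b k)⁻¹ ∧
      mcj (edTbl r) k p < 10752 := by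
  obtain ⟨h1, h2⟩ := h.mval_minv hr hk
  exact ⟨by rw [mcj, h.mval_mul hr (mmul_lt hk hp) h2, h.mval_mul hr hk hp, h1],
    mmul_lt (mmul_lt hk hp) h2⟩

end Hom

section Setup

variable {G : Type*} [Group G] [Finite G] {t c : G} {R H V M A : Subgroup G}

/-- Standard coordinates for the split extension, with the codes of `R`. -/
structure Std (t : G) (R V M A : Subgroup G) (e : ℕ → G) (a b : G) (v1 v2 : ℕ) : Prop where
  facts : MFacts e a b 0
  basis : Basis t A e
  ha : a ∈ M
  hb : b ∈ M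
  inR_iff : ∀ p < 10752, mval e a b p ∈ R ↔ inR (edTbl 0) v1 v2 p = true

theorem t_code {e : ℕ → G} (B : Basis t A e) (a b : G) : mval e a b 2 = t := by
  rw [mval_low (by norm_num), ← B.t_eq]

theorem inT_table : ∀ u < 64, (Nat.mul 2 (Nat.land u 21) = 0 ∨ Nat.mul 2 (Nat.land u 21) = 2 → inT u = true) ∧
    (∃ o ∈ offsets, inT (padd u (pneg o)) = true) ∧
      ∀ o ∈ offsets, padd (padd u (pneg o)) o = u ∧ padd (padd o (pneg u)) u = o ∧
        (inT (padd u (pneg o)) = true → inT (padd o (pneg u)) = true) := by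
  decide +kernel

theorem exists_std (hF : RFacts t c R H) (hV : VFacts t R V M A) :
    ∃ (e : ℕ → G) (a b : G) (v1 v2 : ℕ), ((v1 = 0 ∧ v2 = 0) ∨ (v1 = 16 ∧ v2 = 20)) ∧
      Std t R V M A e a b v1 v2 := by
  classical
  obtain ⟨e, a, b, r, hr, hM, B, ha, hb⟩ := exists_standard hF hV
  have hrm : r ∈ [0, 34, 57, 27] := by rcases hr with rfl | rfl <;> decide
  obtain ⟨hmem, hinj, hsurj⟩ := mval_bij hV hM B ha hb
  obtain ⟨hcA, h16, hpar⟩ := r_parities hF hV B
  have hTeq : ∀ u < 64, iota e u ∈ R ↔ inT u = true := by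
    have hsub : ∀ u < 64, iota e u ∈ R → inT u = true := by
      intro u hu h
      refine (inT_table u hu).1 ?_
      rcases hF.sq _ h with h2 | h2 <;> rw [iota_sq e B.frame u hu] at h2
      · exact Or.inl (B.inj _ (par_table.2 u hu).1 0 (by norm_num) (h2.trans (iota_zero e).symm))
      · exact Or.inr (B.inj _ (par_table.2 u hu).1 2 (by norm_num) (h2.trans B.t_eq))
    haveI := Fintype.ofFinite (R ⊓ A : Subgroup G)
    choose code hlt hcode using fun x : (R ⊓ A : Subgroup G) => B.surj x x.2.2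
    have himg : Finset.univ.image code = (Finset.range 64).filter fun u => inT u = true := by
      refine Finset.eq_of_subset_of_card_le (fun u hu => ?_) ?_
      · obtain ⟨x, -, rfl⟩ := Finset.mem_image.1 hu
        exact Finset.mem_filter.2 ⟨Finset.mem_range.2 (hlt x), hsub _ (hlt x) (by rw [hcode x]; exact x.2.1)⟩
      · rw [Finset.card_image_of_injective _ (fun x y h => Subtype.ext (by rw [← hcode x, h, hcode y])),
          Finset.card_univ, ← Nat.card_eq_fintype_card, h16]
        decide +kernel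
    refine fun u hu => ⟨hsub u hu, fun h => ?_⟩
    have : u ∈ Finset.univ.image code := himg.symm ▸ Finset.mem_filter.2 ⟨Finset.mem_range.2 hu, h⟩
    obtain ⟨x, -, rfl⟩ := Finset.mem_image.1 this
    rw [hcode x]
    exact x.2.1
  have h5 : ∀ g < 168, par (mcomp (pk 1 4 16) (gmat g)) = par (gmat g) := by decide +kernel
  have hpar' : ∀ g < 168, ∀ v < 64, ∀ T, Acts e (mval e a b (v + 64 * g)) T → par T = par (gmat g) := by
    intro g hg v hv T hT
    have h1 : Acts e (wg a b g) (gmat g) := fun i hi => by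
      have := hM.conj_wg hg (4 ^ i)
      interval_cases i <;> simpa [gact, actc, d0, d1, d2, psmul, iota_one, iota_four, iota_sixteen,
        show padd 0 0 = 0 from rfl, show ∀ u, u < 64 → padd 0 u = u ∧ padd u 0 = u by decide +kernel,
        col_lt] using this
    have h2 : Acts e (mval e a b (v + 64 * g)) (mcomp (pk 1 4 16) (gmat g)) := by
      rw [mval_mk hv]
      exact (acts_of_mem hV B (B.mem _ hv)).mul B.frame h1
    have h3 := hT.mat_eq B h2
    rw [pk_mcomp] at h3
    have h4 : par (pk (col T 0) (col T 1) (col T 2)) = par T := by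
      obtain ⟨x, y, z⟩ := col_pk (col_lt T 0) (col_lt T 1) (col_lt T 2)
      simp only [par, x, y, z]
    rw [← h4, h3]
    exact h5 g hg
  -- representatives of the two classes
  have hget : ∀ g, g < 168 → par (gmat g) ∈ [pk 1 4 16, pk 1 4 17, pk 1 5 16, pk 1 5 17] →
      ∃ o ∈ offsets, mval e a b (o + 64 * g) ∈ R := by
    intro g hg hP
    obtain ⟨x, hxR, T, hT, hTp⟩ := hpar _ hP
    obtain ⟨p, hp, rfl⟩ := hsurj x (hV.r_le hxR)
    have hp' : p = p % 64 + 64 * (p / 64) := by omega
    rw [hp'] at hT hxR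
    have hv : p % 64 < 64 := Nat.mod_lt _ (by norm_num)
    have := gact_par_inj _ (show p / 64 < 168 by omega) g hg ((hpar' _ (by omega) _ hv T hT).symm.trans hTp)
    rw [this] at hxR
    obtain ⟨-, ⟨o, ho, hT1⟩, hto⟩ := inT_table _ hv
    obtain ⟨-, ho2, ho3⟩ := hto o ho
    have ho64 : o < 64 := by simp only [offsets, List.mem_cons, List.not_mem_nil, or_false] at ho; omega
    refine ⟨o, ho, ?_⟩
    have hpn := (pneg_spec _ hv).1
    have hR1 : iota e (padd o (pneg (p % 64))) * mval e a b (p % 64 + 64 * g) ∈ R :=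
      mul_mem ((hTeq _ (padd_table _ ho64 _ hpn).1).2 (ho3 hT1)) hxR
    rwa [mval_mk hv, ← mul_assoc, ← B.frame.iota_padd (padd_table _ ho64 _ hpn).1 hv, ho2,
      ← mval_mk ho64] at hR1
  obtain ⟨v1, hv1, h1R⟩ := hget 23 (by norm_num) (by decide +kernel)
  obtain ⟨v2, hv2, h2R⟩ := hget 102 (by norm_num) (by decide +kernel)
  have hv1' : v1 < 64 := by simp only [offsets, List.mem_cons, List.not_mem_nil, or_false] at hv1; omega
  have hv2' : v2 < 64 := by simp only [offsets, List.mem_cons, List.not_mem_nil, or_false] at hv2; omega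
  set tb := edTbl r with htb
  set P := v1 + 64 * 23 with hPdef
  set Q := v2 + 64 * 102 with hQdef
  have hP : P < 10752 := by omega
  have hQ : Q < 10752 := by omega
  have h3div : mmul tb P Q / 64 = 117 := by
    rw [mmul_div, show Q / 64 = 102 by omega, show P / 64 = 23 by omega]; decide +kernel
  have h3R : mval e a b (mmul tb P Q) ∈ R := by rw [hM.mval_mul hrm hP hQ]; exact mul_mem h1R h2R
  set v3 := mmul tb P Q % 64
  have h3' : mmul tb P Q = v3 + 64 * 117 := by omega
  have hiff : ∀ p < 10752, mval e a b p ∈ R ↔ inR tb v1 v2 p = true := by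
    intro p hp
    have hv : p % 64 < 64 := Nat.mod_lt _ (by norm_num)
    have hp' : p = p % 64 + 64 * (p / 64) := by omega
    have hkey : ∀ g o, o < 64 → mval e a b (o + 64 * g) ∈ R → p / 64 = g →
        (mval e a b p ∈ R ↔ inT (padd (p % 64) (pneg o)) = true) := by
      intro g o ho hoR hg
      rw [← hTeq _ (padd_table _ hv _ (pneg_spec o ho).1).1]
      have e1 : mval e a b p = iota e (padd (p % 64) (pneg o)) * mval e a b (o + 64 * g) := by
        rw [mval_mk ho, ← mul_assoc, B.frame.iota_padd hv (pneg_spec o ho).1, B.frame.iota_pneg ho,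
          inv_mul_cancel_right, mval, hg]
      rw [e1]
      exact Subgroup.mul_mem_cancel_right R hoR
    have hzero : p / 64 = 0 → (mval e a b p ∈ R ↔ inT (p % 64) = true) := fun h0 => by
      rw [← hTeq _ hv, show mval e a b p = mval e a b (p % 64) from congrArg _ (by omega), mval_low hv]
    show _ ↔ (bif Nat.beq (p / 64) 0 then inT (p % 64)
      else bif Nat.beq (p / 64) 23 then inT (padd (p % 64) (pneg v1))
      else bif Nat.beq (p / 64) 102 then inT (padd (p % 64) (pneg v2))
      else Nat.beq (p / 64) 117 && inT (padd (p % 64) (pneg v3))) = true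
    by_cases g0 : p / 64 = 0
    · simp [g0, hzero g0]
    by_cases g1 : p / 64 = 23
    · simp [g1, hkey 23 v1 hv1' h1R g1]
    by_cases g2 : p / 64 = 102
    · simp [g2, hkey 102 v2 hv2' h2R g2]
    by_cases g3 : p / 64 = 117
    · simp [g3, hkey 117 v3 (Nat.mod_lt _ (by norm_num)) (h3' ▸ h3R) g3]
    have b : ∀ n, p / 64 ≠ n → Nat.beq (p / 64) n = false := fun n h => by
      cases hb : Nat.beq (p / 64) n
      · rfl
      · exact absurd (Nat.eq_of_beq_eq_true hb) h
    simp only [b _ g0, b _ g1, b _ g2, b _ g3, cond_false, Bool.false_and, Bool.false_eq_true, iff_false]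
    intro hR
    obtain ⟨T, hT⟩ := exists_acts hV B (hmem p hp)
    have hgp := hpar' (p / 64) (by omega) _ hv T (hp' ▸ hT)
    have hlist : ∀ g < 168, par (gmat g) ∈ [pk 1 4 16, pk 1 4 17, pk 1 5 16, pk 1 5 17] →
        g ∈ [0, 23, 102, 117] := by decide +kernel
    -- the four parities are those of the four known classes
    have hR4 : par T ∈ [pk 1 4 16, pk 1 4 17, pk 1 5 16, pk 1 5 17] := par_of_r hF hV B hR hT
    have := hlist (p / 64) (by omega) (hgp ▸ hR4)
    simp [g0, g1, g2, g3] at this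
  have hgK : ∀ k ∈ [1, 4, 16, 64 * 13, 64 * 29], k < 10752 ∧ mval e a b k ∈ H := by
    intro k hk
    obtain ⟨hlt, hc⟩ := kGen_spec r (by rcases hr with rfl | rfl <;> decide) k hk
    refine ⟨hlt, ?_⟩
    rw [hF.hH, mem_centralizer_singleton_iff, ← t_code B a b, ← hM.mval_mul hrm hlt (by norm_num),
      ← hM.mval_mul hrm (by norm_num) hlt]
    exact congrArg _ hc
  have hcand : rCandOK tb v1 v2 = true := by
    have h2 : (2 : ℕ) < 10752 := by norm_num
    have ht := t_code B a b
    have hsq : ∀ x < 10752, mval e a b x ∈ R →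
        (Nat.beq (mmul tb x x) 0 || Nat.beq (mmul tb x x) 2) = true := by
      intro x hx hxR
      simp only [Bool.or_eq_true, Nat.beq_eq]
      rcases hF.sq _ hxR with h | h <;> rw [← hM.mval_mul hrm hx hx] at h
      · exact Or.inl (hinj _ (mmul_lt hx hx) 0 (by norm_num) (by rw [h, mval_low (by norm_num), iota_zero]))
      · exact Or.inr (hinj _ (mmul_lt hx hx) 2 h2 (h.trans ht.symm))
    have hco : ∀ x < 10752, ∀ y < 10752, mval e a b x ∈ R → mval e a b y ∈ R →
        (Nat.beq (mmul tb x y) (mmul tb y x) || Nat.beq (mmul tb x y) (mmul tb 2 (mmul tb y x))) = true := by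
      intro x hx y hy hxR hyR
      simp only [Bool.or_eq_true, Nat.beq_eq]
      rcases hF.comm _ hxR _ hyR with h | h <;> rw [← hM.mval_mul hrm hx hy, ← hM.mval_mul hrm hy hx] at h
      · exact Or.inl (hinj _ (mmul_lt hx hy) _ (mmul_lt hy hx) h)
      · rw [← ht, ← hM.mval_mul hrm h2 (mmul_lt hy hx)] at h
        exact Or.inr (hinj _ (mmul_lt hx hy) _ (mmul_lt h2 (mmul_lt hy hx)) h)
    have hgens : ∀ x ∈ [1, 8, 32, P, Q], x < 10752 ∧ mval e a b x ∈ R := by
      have hT3 : inT 1 = true ∧ inT 8 = true ∧ inT 32 = true := by decide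
      intro x hx
      simp only [List.mem_cons, List.not_mem_nil, or_false] at hx
      rcases hx with rfl | rfl | rfl | rfl | rfl
      · exact ⟨by norm_num, by rw [mval_low (by norm_num)]; exact (hTeq 1 (by norm_num)).2 hT3.1⟩
      · exact ⟨by norm_num, by rw [mval_low (by norm_num)]; exact (hTeq 8 (by norm_num)).2 hT3.2.1⟩
      · exact ⟨by norm_num, by rw [mval_low (by norm_num)]; exact (hTeq 32 (by norm_num)).2 hT3.2.2⟩
      · exact ⟨hP, h1R⟩
      · exact ⟨hQ, h2R⟩
    simp only [rCandOK, Bool.and_eq_true, List.all_eq_true]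
    refine ⟨hsq P hP h1R, hsq Q hQ h2R, hsq _ (mmul_lt hP hQ) h3R,
      fun x hx y hy => hco x (hgens x hx).1 y (hgens y hy).1 (hgens x hx).2 (hgens y hy).2, fun k hk => ?_⟩
    obtain ⟨hk', hkH⟩ := hgK k hk
    have key : ∀ x < 10752, mval e a b x ∈ R → inR tb v1 v2 (mcj tb k x) = true := by
      intro x hx hxR
      obtain ⟨e1, e2⟩ := hM.mval_mcj hrm hk' hx
      exact (hiff _ e2).1 (e1 ▸ hF.norm _ hkH _ hxR)
    exact ⟨key P hP h1R, key Q hQ h2R⟩
  rcases hr with rfl | rfl
  · exact ⟨e, a, b, v1, v2, rCand_spec.2 v1 hv1 v2 hv2 hcand, hM, B, ha, hb, hiff⟩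
  · exact absurd hcand (by rw [htb, rCand_spec.1 v1 hv1 v2 hv2]; simp)

end Setup

end CfsgLib.HSRec
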