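import Cfsg.Agent.HSRec.Normalize

/-!
Standard generators of `M`, with two possible values of the parameter, and the multiplication table of
`M` on codes.
-/

set_option autoImplicit false
set_option maxRecDepth 100000

namespace CfsgLib.HSRec

open Subgroup CfsgLib.CosetEnum

/-- Powers of a code. -/
def mpowc (tb p : ℕ) : ℕ → ℕ
  | 0 => 0
  | n + 1 => mmul tb (mpowc tb p n) p

theorem mpowc_lt {tb p : ℕ} (hp : p < 10752) : ∀ n, mpowc tb p n < 10752
  | 0 => Nat.zero_lt_succ _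
  | n + 1 => mmul_lt (mpowc_lt hp n) hp

theorem MFacts.mval_pow {G : Type*} [Group G] {e : ℕ → G} {a b : G} {r : ℕ} (h : MFacts e a b r)
    (hr : r ∈ [0, 34, 57, 27]) {p : ℕ} (hp : p < 10752) :
    ∀ n, mval e a b (mpowc (edTbl r) p n) = mval e a b p ^ n
  | 0 => by rw [pow_zero, mpowc, mval_low (by norm_num), iota_zero]
  | n + 1 => by rw [mpowc, h.mval_mul hr (mpowc_lt hp n) hp, MFacts.mval_pow h hr hp n, pow_succ]

/-- The code of `a`. -/
def ca : ℕ := Nat.mul 64 (nx 0 0)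
/-- The code of `b`. -/
def cb : ℕ := Nat.mul 64 (nx 0 1)

theorem code_ab : ca < 10752 ∧ cb < 10752 ∧ gword (ca / 64) = [0] ∧ gword (cb / 64) = [1] ∧
    ca % 64 = 0 ∧ cb % 64 = 0 := by decide +kernel

theorem mval_ca {G : Type*} [Group G] (e : ℕ → G) (a b : G) : mval e a b ca = a ∧ mval e a b cb = b := by
  obtain ⟨-, -, h1, h2, h3, h4⟩ := code_ab
  constructor
  · rw [mval, h3, iota_zero, wg, h1]; simp [prodw, lett]
  · rw [mval, h4, iota_zero, wg, h2]; simp [prodw, lett]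

/-- The replacement of `a` that removes the even part of the parameter. -/
def adjOK (r r' : ℕ) : Bool :=
  let tb := edTbl r
  let a' := mmul tb 4 ca
  let m := mmul tb
  Nat.beq (mpowc tb a' 2) 0 && (Nat.beq (mpowc tb (m a' cb) 7) 0 &&
    Nat.beq (mpowc tb (m (m (m (m a' cb) a') cb) cb) 4) r')

theorem adj_ok : adjOK 34 0 = true ∧ adjOK 27 57 = true := by decide +kernel

section Setup

variable {G : Type*} [Group G] [Finite G] {t c : G} {R H V M A : Subgroup G}

theorem basis_of_sq (hV : VFacts t R V M A) {e f : ℕ → G} (B : Basis t A e)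
    (hm : ∀ i, i < 3 → f i ∈ A) (hsq : ∀ i, i < 3 → f i * f i = e i * e i) : Basis t A f := by
  have F : Frame f := ⟨fun i j hi hj => hV.a_comm _ (hm i hi) _ (hm j hj), fun i hi => hV.a_four _ (hm i hi)⟩
  refine basis_of_inj hV f hm ?_ fun u hu hu1 => ?_
  · rw [hsq 0 (by norm_num), B.t_eq, iota_two, pow_two]
  have heven : ∀ u < 64, Nat.land u 21 = 0 → iota f u = iota e u := by
    intro u hu h0
    have hd : ∀ u < 64, Nat.land u 21 = 0 →
        (d0 u = 0 ∨ d0 u = 2) ∧ (d1 u = 0 ∨ d1 u = 2) ∧ (d2 u = 0 ∨ d2 u = 2) := by decide +kernel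
    obtain ⟨a, b, c⟩ := hd u hu h0
    rcases a with a | a <;> rcases b with b | b <;> rcases c with c | c <;>
      simp [iota, a, b, c, pow_two, hsq]
  by_cases h0 : Nat.land u 21 = 0
  · rw [heven u hu h0] at hu1
    exact B.inj u hu 0 (by norm_num) (hu1.trans (iota_zero e).symm)
  · exfalso
    have h := iota_sq f F u hu
    have hlt := (par_table.2 u hu).1
    have hev : ∀ u < 64, Nat.land (Nat.mul 2 (Nat.land u 21)) 21 = 0 ∧
        (Nat.mul 2 (Nat.land u 21) = 0 → Nat.land u 21 = 0) := by decide +kernel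
    rw [hu1, mul_one, heven _ hlt (hev u hu).1] at h
    exact h0 ((hev u hu).2 (B.inj _ hlt 0 (by norm_num) (h.symm.trans (iota_zero e).symm)))

omit [Finite G] in
theorem Acts.canon {e : ℕ → G} {m : G} {T : ℕ} (h : Acts e m T) :
    Acts e m (pk (col T 0) (col T 1) (col T 2)) := by
  intro i hi
  obtain ⟨a, b, c⟩ := col_pk (col_lt T 0) (col_lt T 1) (col_lt T 2)
  interval_cases i
  · rw [a]; exact h 0 (by norm_num)
  · rw [b]; exact h 1 (by norm_num)
  · rw [c]; exact h 2 (by norm_num)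

omit [Finite G] in
theorem Acts.mat_eq {e : ℕ → G} (B : Basis t A e) {m : G} {T U : ℕ} (h : Acts e m T) (h' : Acts e m U) :
    pk (col T 0) (col T 1) (col T 2) = pk (col U 0) (col U 1) (col U 2) := by
  rw [h.unique B h' (show 0 < 3 by norm_num), h.unique B h' (show 1 < 3 by norm_num),
    h.unique B h' (show 2 < 3 by norm_num)]

omit [Finite G] in
theorem pk_mcomp (T U : ℕ) :
    pk (col (mcomp T U) 0) (col (mcomp T U) 1) (col (mcomp T U) 2) = mcomp T U := by
  rw [col_mcomp _ _ _ (by norm_num), col_mcomp _ _ _ (by norm_num), col_mcomp _ _ _ (by norm_num)]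
  rfl

omit [Finite G] in
theorem acts_of_mem (hV : VFacts t R V M A) {e : ℕ → G} (B : Basis t A e) {x : G} (hx : x ∈ A) :
    Acts e x (pk 1 4 16) := by
  intro i hi
  obtain ⟨a, b, c⟩ := col_pk (show 1 < 64 by norm_num) (show 4 < 64 by norm_num) (show 16 < 64 by norm_num)
  have key : ∀ u < 64, x * iota e u * x⁻¹ = iota e u := fun u hu => by
    rw [hV.a_comm x hx _ (B.mem u hu), mul_inv_cancel_right]
  interval_cases i
  · rw [a, ← iota_one e]; exact key 1 (by norm_num)
  · rw [b, ← iota_four e]; exact key 4 (by norm_num)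
  · rw [c, ← iota_sixteen e]; exact key 16 (by norm_num)

theorem mem_of_par_one (hV : VFacts t R V M A) {e : ℕ → G} (B : Basis t A e) {m : G} (hm : m ∈ M) {T : ℕ}
    (hT : Acts e m T) (h : par T = pk 1 4 16) : m ∈ A := by
  have := mem_of_par_eq hV B hm (one_mem M) hT Acts.one (h.trans (by decide +kernel))
  simpa using this

omit [Finite G] in
theorem Basis.ei_mem {e : ℕ → G} (B : Basis t A e) : ∀ i, i < 3 → e i ∈ A := by
  intro i hi
  interval_cases i
  · rw [← iota_one e]; exact B.mem 1 (by norm_num)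
  · rw [← iota_four e]; exact B.mem 4 (by norm_num)
  · rw [← iota_sixteen e]; exact B.mem 16 (by norm_num)

/-- A new basis with the same squares sees the same parities. -/
theorem par_transfer {e f : ℕ → G} (B : Basis t A e) (B' : Basis t A f)
    (hsq : ∀ i, i < 3 → f i * f i = e i * e i) {m : G} {T U : ℕ} (hT : Acts e m T) (hU : Acts f m U) :
    par U = par T := by
  have h : ∀ i, i < 3 → Nat.land (col U i) 21 = Nat.land (col T i) 21 := by
    intro i hi
    have h1 : m * (e i * e i) * m⁻¹ = iota e (Nat.mul 2 (Nat.land (col T i) 21)) := by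
      rw [← conj_mul, hT i hi, iota_sq e B.frame _ (col_lt _ _)]
    have h2 : m * (f i * f i) * m⁻¹ = iota f (Nat.mul 2 (Nat.land (col U i) 21)) := by
      rw [← conj_mul, hU i hi, iota_sq f B'.frame _ (col_lt _ _)]
    have hev : ∀ k ∈ halves, iota f (Nat.mul 2 k) = iota e (Nat.mul 2 k) := by
      intro k hk
      have hd : ∀ k ∈ halves, (d0 (Nat.mul 2 k) = 0 ∨ d0 (Nat.mul 2 k) = 2) ∧
          (d1 (Nat.mul 2 k) = 0 ∨ d1 (Nat.mul 2 k) = 2) ∧
            (d2 (Nat.mul 2 k) = 0 ∨ d2 (Nat.mul 2 k) = 2) := by decide +kernel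
      obtain ⟨a, b, c⟩ := hd k hk
      rcases a with a | a <;> rcases b with b | b <;> rcases c with c | c <;>
        (rw [iota, iota, a, b, c]; simp [pow_two, hsq])
    rw [hsq i hi, h1, hev _ (par_table.2 _ (col_lt U i)).2] at h2
    have h3 := B.inj _ (par_table.2 _ (col_lt _ _)).1 _ (par_table.2 _ (col_lt _ _)).1 h2
    simp only [Nat.mul_eq] at h3
    omega
  simp only [par, h 0 (by norm_num), h 1 (by norm_num), h 2 (by norm_num)]

theorem exists_standard (hF : RFacts t c R H) (hV : VFacts t R V M A) :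
    ∃ (e : ℕ → G) (a b : G) (r : ℕ), (r = 0 ∨ r = 57) ∧ MFacts e a b r ∧ Basis t A e ∧ a ∈ M ∧ b ∈ M := by
  obtain ⟨e, B⟩ := exists_basis hV hF.ht
  obtain ⟨hcA, -, hRp⟩ := r_parities hF hV B
  obtain ⟨x, hxR, T, hT, hTp⟩ := hRp p23Mat (by decide +kernel)
  have ht2 : t * t = 1 := by rw [← pow_two, ← hF.ht, pow_orderOf_eq_one]
  -- an involution with this parity
  obtain ⟨y, hyR, T', hT', hTp', hy2⟩ : ∃ y ∈ R, ∃ T, Acts e y T ∧ par T = p23Mat ∧ y * y = 1 := by
    rcases hF.sq x hxR with h | h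
    · exact ⟨x, hxR, T, hT, hTp, h⟩
    · refine ⟨x * c, mul_mem hxR hF.c_mem, _, hT.mul B.frame (acts_of_mem hV B hcA), ?_, ?_⟩
      · rw [par_mcomp, hTp]; decide +kernel
      · rw [mul_assoc, ← mul_assoc c, hF.c_comm x hxR, mul_assoc x c, hF.c_sq, ← mul_assoc, h, ht2]
  obtain ⟨h, hhM, Th, hTh, hThp⟩ := exists_par hV B (show phMat ∈ parMats by decide +kernel)
  set a₀ := h * y * h⁻¹ with ha₀
  have ha0M : a₀ ∈ M := mul_mem (mul_mem hhM (hV.r_le hyR)) (inv_mem hhM)
  have ha02 : a₀ * a₀ = 1 := by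
    rw [ha₀, conj_mul, hy2, mul_one, mul_inv_cancel]
  obtain ⟨Ta, hTa⟩ := exists_acts hV B ha0M
  have hTap : par Ta = paMat := by
    have h1 : Acts e (a₀ * h) (mcomp Ta Th) := hTa.mul B.frame hTh
    have h2 : Acts e (a₀ * h) (mcomp Th T') := by
      rw [ha₀, inv_mul_cancel_right]; exact hTh.mul B.frame hT'
    have h3 : par (mcomp Ta Th) = par (mcomp Th T') := by
      rw [← pk_mcomp Ta Th, ← pk_mcomp Th T', h1.mat_eq B h2]
    rw [par_mcomp, hThp, par_mcomp Th, hThp, hTp'] at h3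
    have hu : ∀ P ∈ parMats, par (mcomp P phMat) = par (mcomp phMat p23Mat) → P = paMat := by
      decide +kernel
    exact hu _ (par_mem hV B ha0M hTa) h3
  obtain ⟨β, hβM, Tβ, hTβ, hTβp⟩ := exists_par hV B
    (show par (mcomp paMat pxMat) ∈ parMats by decide +kernel)
  set b₀ := β ^ 4 with hb₀
  have hb0M : b₀ ∈ M := pow_mem hβM 4
  have hb3 : b₀ ^ 3 = 1 := by
    have h3 : β ^ 3 ∈ A := by
      refine mem_of_par_one hV B (pow_mem hβM 3) (hTβ.pow B.frame 3) ?_
      rw [par_mpow, hTβp]; decide +kernel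
    rw [hb₀, ← pow_mul, show 4 * 3 = 3 * 4 by norm_num, pow_mul, hV.a_four _ h3]
  have hTbp : par (mpow Tβ 4) = par (mcomp paMat pxMat) := by
    rw [par_mpow, hTβp]; decide +kernel
  set X := a₀ * b₀ with hX
  have hXM : X ∈ M := mul_mem ha0M hb0M
  have hTX : Acts e X (mcomp Ta (mpow Tβ 4)) := hTa.mul B.frame (hTβ.pow B.frame 4)
  have hTXp : par (mcomp Ta (mpow Tβ 4)) = pxMat := by
    rw [par_mcomp, hTap, hTbp]; decide +kernel
  -- the cyclic basis
  let f : ℕ → G := fun i => match i with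
    | 0 => e 0
    | 1 => X * e 0 * X⁻¹
    | _ => X * (X * e 0 * X⁻¹) * X⁻¹
  have hfm : ∀ i, i < 3 → f i ∈ A := by
    intro i hi
    have h0 := B.ei_mem 0 (by norm_num)
    interval_cases i
    · exact h0
    · exact hV.normA X hXM _ h0
    · exact hV.normA X hXM _ (hV.normA X hXM _ h0)
  set TX := mcomp Ta (mpow Tβ 4) with hTXdef
  have hc01 : Nat.land (col TX 0) 21 = 4 ∧ Nat.land (col TX 1) 21 = 16 := by
    rw [← col_par TX 0 (by norm_num), ← col_par TX 1 (by norm_num), hTXp]; decide +kernel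
  have hsq1 : ∀ u < 64, Nat.land u 21 = 4 → iota e u * iota e u = e 1 * e 1 := fun u hu h => by
    rw [iota_sq e B.frame u hu, h, ← iota_four e, iota_sq e B.frame 4 (by norm_num)]; rfl
  have hsq2 : ∀ u < 64, Nat.land u 21 = 16 → iota e u * iota e u = e 2 * e 2 := fun u hu h => by
    rw [iota_sq e B.frame u hu, h, ← iota_sixteen e, iota_sq e B.frame 16 (by norm_num)]; rfl
  have hfsq : ∀ i, i < 3 → f i * f i = e i * e i := by
    have h1 : X * e 0 * X⁻¹ * (X * e 0 * X⁻¹) = e 1 * e 1 := by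
      rw [hTX 0 (by norm_num)]
      exact hsq1 _ (col_lt _ _) hc01.1
    intro i hi
    interval_cases i
    · rfl
    · exact h1
    · show X * (X * e 0 * X⁻¹) * X⁻¹ * (X * (X * e 0 * X⁻¹) * X⁻¹) = _
      rw [conj_mul, h1, ← conj_mul, hTX 1 (by norm_num)]
      exact hsq2 _ (col_lt _ _) hc01.2
  have B' := basis_of_sq hV B hfm hfsq
  obtain ⟨U0, hU0⟩ := exists_acts hV B' hXM
  obtain ⟨W0, hW0⟩ := exists_acts hV B' ha0M
  set Mx := pk (col U0 0) (col U0 1) (col U0 2) with hMx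
  set Ma := pk (col W0 0) (col W0 1) (col W0 2) with hMa
  have hU : Acts f X Mx := hU0.canon
  have hW : Acts f a₀ Ma := hW0.canon
  have hpkMx : pk (col Mx 0) (col Mx 1) (col Mx 2) = Mx := by
    obtain ⟨a, b, c⟩ := col_pk (col_lt U0 0) (col_lt U0 1) (col_lt U0 2)
    rw [hMx, a, b, c]
  have hpkMa : pk (col Ma 0) (col Ma 1) (col Ma 2) = Ma := by
    obtain ⟨a, b, c⟩ := col_pk (col_lt W0 0) (col_lt W0 1) (col_lt W0 2)
    rw [hMa, a, b, c]
  have hMxp : par Mx = pxMat := (par_transfer B B' hfsq hTX hU).trans hTXp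
  have hMap : par Ma = paMat := (par_transfer B B' hfsq hTa hW).trans hTap
  have hMx0 : col Mx 0 = 4 :=
    B'.inj _ (col_lt _ _) 4 (by norm_num) ((hU 0 (by norm_num)).symm.trans (iota_four f).symm)
  have hMx1 : col Mx 1 = 16 :=
    B'.inj _ (col_lt _ _) 16 (by norm_num) ((hU 1 (by norm_num)).symm.trans (iota_sixteen f).symm)
  have hI : pk (col (pk 1 4 16) 0) (col (pk 1 4 16) 1) (col (pk 1 4 16) 2) = pk 1 4 16 := by decide +kernel
  have hX7 : mpow Mx 7 = pk 1 4 16 := by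
    have h7A : X ^ 7 ∈ A := by
      refine mem_of_par_one hV B' (pow_mem hXM 7) (hU.pow B'.frame 7) ?_
      rw [par_mpow, hMxp]; decide +kernel
    have h := (hU.pow B'.frame 7).mat_eq B' (acts_of_mem hV B' h7A)
    rwa [hI, mpow, pk_mcomp] at h
  have hxc : Mx ∈ xCands := by
    obtain ⟨k, hk, ek⟩ := lift_complete _ (col_lt Mx 2) _ (par_table.2 _ (col_lt Mx 2)).2 rfl
    refine List.mem_filter.2 ⟨List.mem_map.2 ⟨k, List.mem_range.2 hk, ?_⟩, by simpa using hX7⟩
    rw [lift9, show Nat.mul 64 k % 8 = 0 by simp only [Nat.mul_eq]; omega,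
      show Nat.mul 64 k / 8 % 8 = 0 by simp only [Nat.mul_eq]; omega,
      show Nat.mul 64 k / 64 = k by simp only [Nat.mul_eq]; omega,
      show col pxMat 2 = Nat.land (col Mx 2) 21 by rw [← hMxp, col_par _ _ (by norm_num)], ← ek]
    rw [show halves.getD 0 0 = 0 from rfl]
    conv_rhs => rw [← hpkMx, hMx0, hMx1]
    rfl
  obtain ⟨d, hd, hdMa⟩ := mpow_eq_lift hMap hpkMa
  have hok := List.all_eq_true.1 (List.all_eq_true.1 normOK_all d (List.mem_range.2 hd)) Mx hxc
  rw [hdMa] at hok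
  have hMa2 : mcomp Ma Ma = pk 1 4 16 := by
    have h := (hW.mul B'.frame hW).mat_eq B' (show Acts f (a₀ * a₀) (pk 1 4 16) by rw [ha02]; exact Acts.one)
    rwa [hI, pk_mcomp] at h
  have hb0X : a₀ * X = b₀ := by rw [hX, ← mul_assoc, ha02, one_mul]
  have hMb : Acts f b₀ (mcomp Ma Mx) := hb0X ▸ hW.mul B'.frame hU
  have hMb3 : mpow (mcomp Ma Mx) 3 = pk 1 4 16 := by
    have h := (hMb.pow B'.frame 3).mat_eq B' (show Acts f (b₀ ^ 3) (pk 1 4 16) by rw [hb3]; exact Acts.one)
    rwa [hI, mpow, pk_mcomp] at h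
  rw [normOK, hMa2, hMb3] at hok
  simp only [Nat.beq_refl, if_true, List.any_eq_true, Bool.and_eq_true, Nat.beq_eq, List.all_eq_true] at hok
  obtain ⟨δ, -, hSa, hSb, hS2, hSk⟩ := hok
  set S := substMat Mx δ with hS
  let e' : ℕ → G := fun i => iota f (col S i)
  have hsub : ∀ u, iota e' u = iota f (actc S u) := iota_subst B'.frame fun i _ => rfl
  have B'' : Basis t A e' := by
    refine basis_of_inj hV e' (fun i _ => B'.mem _ (col_lt _ _)) ?_ fun u hu h1 => ?_
    · rw [← pow_two, ← iota_two e', hsub, hS2, ← B'.t_eq]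
    · have h := hSk u (List.mem_range.2 hu)
      have h2 := B'.inj _ (actc_lt S u) 0 (by norm_num)
        ((hsub u).symm.trans (h1.trans (iota_zero f).symm))
      simpa [h2] using h
  have haA : Acts e' a₀ aMat := fun i hi => by
    show a₀ * iota f (col S i) * a₀⁻¹ = _
    rw [hW.apply B'.frame, ← col_mcomp Ma S i hi, hSa, col_mcomp S aMat i hi, hsub]
  have hbA : Acts e' b₀ bMat := fun i hi => by
    show b₀ * iota f (col S i) * b₀⁻¹ = _
    rw [hMb.apply B'.frame, ← col_mcomp _ S i hi, hSb, col_mcomp S bMat i hi, hsub]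
  have hab7 : (a₀ * b₀) ^ 7 = 1 := by
    have hAct : Acts e' (a₀ * b₀) (mcomp aMat bMat) := haA.mul B''.frame hbA
    have h7A : (a₀ * b₀) ^ 7 ∈ A := by
      refine mem_of_par_one hV B'' (pow_mem hXM 7) (hAct.pow B''.frame 7) ?_
      decide +kernel
    obtain ⟨u, hu, eu⟩ := B''.surj _ h7A
    have hfix : iota e' (actc (mcomp aMat bMat) u) = iota e' u := by
      rw [← hAct.apply B''.frame, eu, (Commute.pow_self (a₀ * b₀) 7).symm.eq, mul_inv_cancel_right]
    have hfp : ∀ u < 64, actc (mcomp aMat bMat) u = u → u = 0 := by decide +kernel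
    rw [← eu, hfp u hu (B''.inj _ (actc_lt _ _) _ hu hfix), iota_zero]
  have hw4 : ∃ r < 64, (a₀ * b₀ * a₀ * b₀ * b₀) ^ 4 = iota e' r ∧ r ∈ [0, 34, 57, 27] := by
    set W := mcomp (mcomp (mcomp (mcomp aMat bMat) aMat) bMat) bMat with hWd
    have hAct : Acts e' (a₀ * b₀ * a₀ * b₀ * b₀) W :=
      (((haA.mul B''.frame hbA).mul B''.frame haA).mul B''.frame hbA).mul B''.frame hbA
    have hwM : a₀ * b₀ * a₀ * b₀ * b₀ ∈ M := mul_mem (mul_mem (mul_mem (mul_mem ha0M hb0M) ha0M) hb0M) hb0M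
    have h4A : (a₀ * b₀ * a₀ * b₀ * b₀) ^ 4 ∈ A := by
      refine mem_of_par_one hV B'' (pow_mem hwM 4) (hAct.pow B''.frame 4) ?_
      decide +kernel
    obtain ⟨u, hu, eu⟩ := B''.surj _ h4A
    have hfix : iota e' (actc W u) = iota e' u := by
      rw [← hAct.apply B''.frame, eu, (Commute.pow_self (a₀ * b₀ * a₀ * b₀ * b₀) 4).symm.eq,
        mul_inv_cancel_right]
    have hfp : ∀ u < 64, actc (mcomp (mcomp (mcomp (mcomp aMat bMat) aMat) bMat) bMat) u = u →
        u ∈ [0, 34, 57, 27] := by decide +kernel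
    exact ⟨u, hu, eu.symm, hfp u hu (B''.inj _ (actc_lt _ _) _ hu hfix)⟩
  obtain ⟨r, hr64, hr, hrmem⟩ := hw4
  have hMF : MFacts e' a₀ b₀ r :=
    ⟨B''.frame, haA, hbA, by rw [pow_two]; exact ha02, hb3, hab7, hr64, hr⟩
  have hadj : ∀ r', adjOK r r' = true → r' < 64 →
      MFacts e' (iota e' 4 * a₀) b₀ r' ∧ iota e' 4 * a₀ ∈ M := by
    intro r' hok hr'
    simp only [adjOK, Bool.and_eq_true, Nat.beq_eq] at hok
    obtain ⟨h1, h2, h3⟩ := hok
    obtain ⟨hca, hcb, -⟩ := code_ab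
    obtain ⟨ea, eb⟩ := mval_ca e' a₀ b₀
    have h4lt : 4 < 10752 := by norm_num
    have hm : mmul (edTbl r) 4 ca < 10752 := mmul_lt h4lt hca
    have e4 : mval e' a₀ b₀ (mmul (edTbl r) 4 ca) = iota e' 4 * a₀ := by
      rw [hMF.mval_mul hrmem h4lt hca, ea, mval_low (by norm_num)]
    have hz : mval e' a₀ b₀ 0 = 1 := by rw [mval_low (by norm_num), iota_zero]
    refine ⟨⟨B''.frame, fun i hi => ?_, hbA, ?_, hb3, ?_, hr', ?_⟩,
      mul_mem (hV.leA (B''.mem 4 (by norm_num))) ha0M⟩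
    · rw [show iota e' 4 * a₀ * e' i * (iota e' 4 * a₀)⁻¹ = iota e' 4 * (a₀ * e' i * a₀⁻¹) * (iota e' 4)⁻¹ by
        group, haA i hi, (B''.frame.iota_comm (show 4 < 64 by norm_num) (col_lt _ _)).eq, mul_inv_cancel_right]
    · rw [← e4, ← hMF.mval_pow hrmem hm, h1, hz]
    · have := hMF.mval_pow hrmem (mmul_lt (tb := edTbl r) hm hcb) 7
      rw [h2, hz, hMF.mval_mul hrmem hm hcb, e4, eb] at this
      exact this.symm
    · have := hMF.mval_pow hrmem
        (mmul_lt (tb := edTbl r) (mmul_lt (tb := edTbl r) (mmul_lt (tb := edTbl r) (mmul_lt (tb := edTbl r) hm hcb) hm) hcb) hcb) 4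
      rw [h3, mval_low hr', hMF.mval_mul hrmem (mmul_lt (mmul_lt (mmul_lt hm hcb) hm) hcb) hcb,
        hMF.mval_mul hrmem (mmul_lt (mmul_lt hm hcb) hm) hcb, hMF.mval_mul hrmem (mmul_lt hm hcb) hm,
        hMF.mval_mul hrmem hm hcb, e4, eb] at this
      exact this.symm
  simp only [List.mem_cons, List.not_mem_nil, or_false] at hrmem
  rcases hrmem with rfl | rfl | rfl | rfl
  · exact ⟨e', a₀, b₀, 0, Or.inl rfl, hMF, B'', ha0M, hb0M⟩
  · exact ⟨e', _, b₀, 0, Or.inl rfl, (hadj 0 adj_ok.1 (by norm_num)).1, B'', (hadj 0 adj_ok.1 (by norm_num)).2, hb0M⟩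
  · exact ⟨e', a₀, b₀, 57, Or.inr rfl, hMF, B'', ha0M, hb0M⟩
  · exact ⟨e', _, b₀, 57, Or.inr rfl, (hadj 57 adj_ok.2 (by norm_num)).1, B'', (hadj 57 adj_ok.2 (by norm_num)).2, hb0M⟩

theorem gact_par_inj : ∀ g < 168, ∀ h < 168, par (gmat g) = par (gmat h) → g = h := by decide +kernel

/-- The codes are in bijection with `M`. -/
theorem mval_bij (hV : VFacts t R V M A) {e : ℕ → G} {a b : G} {r : ℕ} (hMF : MFacts e a b r)
    (B : Basis t A e) (ha : a ∈ M) (hb : b ∈ M) :
    (∀ p < 10752, mval e a b p ∈ M) ∧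
      (∀ p < 10752, ∀ q < 10752, mval e a b p = mval e a b q → p = q) ∧
      ∀ m ∈ M, ∃ p < 10752, mval e a b p = m := by
  have hw : ∀ g, wg a b g ∈ M := by
    intro g
    refine list_prod_mem fun x hx => ?_
    obtain ⟨l, -, rfl⟩ := List.mem_map.1 hx
    match l with
    | 0 => exact ha
    | _ + 1 => exact hb
  have hmem : ∀ p, mval e a b p ∈ M := fun p =>
    mul_mem (hV.leA (B.mem _ (Nat.mod_lt _ (by norm_num)))) (hw _)
  have hinj : ∀ p < 10752, ∀ q < 10752, mval e a b p = mval e a b q → p = q := by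
    intro p hp q hq h
    have hp' : p / 64 < 168 := by omega
    have hq' : q / 64 < 168 := by omega
    have hAp : Acts e (wg a b (p / 64)) (gmat (p / 64)) := fun i hi => by
      have := hMF.conj_wg hp' (4 ^ i)
      interval_cases i <;> simpa [gact, actc, d0, d1, d2, psmul, iota_one, iota_four, iota_sixteen,
        show padd 0 0 = 0 from rfl, show ∀ u, u < 64 → padd 0 u = u ∧ padd u 0 = u by decide +kernel,
        col_lt] using this
    have hAq : Acts e (wg a b (q / 64)) (gmat (q / 64)) := fun i hi => by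
      have := hMF.conj_wg hq' (4 ^ i)
      interval_cases i <;> simpa [gact, actc, d0, d1, d2, psmul, iota_one, iota_four, iota_sixteen,
        show padd 0 0 = 0 from rfl, show ∀ u, u < 64 → padd 0 u = u ∧ padd u 0 = u by decide +kernel,
        col_lt] using this
    have h1 : Acts e (mval e a b p) (mcomp (pk 1 4 16) (gmat (p / 64))) :=
      (acts_of_mem hV B (B.mem _ (Nat.mod_lt _ (by norm_num)))).mul B.frame hAp
    have h2 : Acts e (mval e a b p) (mcomp (pk 1 4 16) (gmat (q / 64))) := by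
      rw [h]
      exact (acts_of_mem hV B (B.mem _ (Nat.mod_lt _ (by norm_num)))).mul B.frame hAq
    have hI : ∀ g < 168, par (mcomp (pk 1 4 16) (gmat g)) = par (gmat g) := by decide +kernel
    have hg : p / 64 = q / 64 := by
      refine gact_par_inj _ hp' _ hq' ?_
      rw [← hI _ hp', ← hI _ hq', ← pk_mcomp (pk 1 4 16) (gmat (p / 64)),
        ← pk_mcomp (pk 1 4 16) (gmat (q / 64)), h1.mat_eq B h2]
    have hv : iota e (p % 64) = iota e (q % 64) := by
      have := h
      rw [mval, mval, hg] at this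
      exact mul_right_cancel this
    have := B.inj _ (Nat.mod_lt _ (by norm_num)) _ (Nat.mod_lt _ (by norm_num)) hv
    omega
  refine ⟨fun p _ => hmem p, hinj, fun m hm => ?_⟩
  let f : Fin 10752 → M := fun p => ⟨mval e a b p, hmem p⟩
  have hf : Function.Bijective f := (Nat.bijective_iff_injective_and_card f).2
    ⟨fun p q h => Fin.ext (hinj p p.2 q q.2 (congrArg Subtype.val h)), by rw [Nat.card_fin, hV.cardM]⟩
  obtain ⟨p, hp⟩ := hf.2 ⟨m, hm⟩
  exact ⟨p, p.2, congrArg Subtype.val hp⟩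

end Setup

end CfsgLib.HSRec
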