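import Cfsg.Agent.HSRec.Perm
import Cfsg.Agent.HSRec.PullRel

/-!
The centralizer of the involution maps faithfully into the symmetry group.
-/

set_option autoImplicit false
set_option maxRecDepth 100000
set_option Elab.async false

namespace CfsgLib.HSRec

open Subgroup CfsgLib.CosetEnum CfsgLib.LyG2
open Equiv (Perm)

section Any

variable {G : Type*} [Group G] {e : ℕ → G} {a b f : G} (P : Model e a b f)
include P

theorem Model.kWord_eq {p : ℕ} (hp : p < 10752) (hS : stabList.contains (p / 64) = true) :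
    (∀ l ∈ kWord p, l < 8) ∧ prodw (hLet e a b f) (kWord p) = mval e a b p := by
  have h := kWord_spec
  simp only [List.all_eq_true, Nat.add_eq, Nat.mul_eq] at h
  have h := h (p / 64) (List.contains_iff_mem.1 hS) (p % 64) (List.mem_range.2 (Nat.mod_lt _ (by norm_num)))
  rw [show p % 64 + 64 * (p / 64) = p by omega] at h
  simp only [kWordOK, Bool.and_eq_true, List.all_eq_true, Nat.blt_eq, Nat.beq_eq] at h
  obtain ⟨h1, h2, h3⟩ := h
  obtain ⟨-, -, e1⟩ := P.walk _ h1 (0, 0) (show (0 : ℕ) < 10752 by norm_num) (show (0 : ℕ) < 5 by norm_num)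
  rw [P.one.2, one_mul, show hw (kWord p) (0, 0) = (p, 0) from Prod.ext h2 h3] at e1
  refine ⟨h1, e1.symm.trans ?_⟩
  show mval e a b p * f ^ 0 = _
  rw [pow_zero, mul_one]

theorem Model.hmul_spec {x y : ℕ × ℕ} (hx : hOK x) (hy : hOK y) :
    hVal e a b f (hmul x y) = hVal e a b f x * hVal e a b f y := by
  obtain ⟨k1, k2⟩ := P.kWord_eq hy.1 hy.2.1
  have hl : ∀ l ∈ kWord y.1 ++ List.replicate y.2 7, l < 8 := by
    intro l hl
    rcases List.mem_append.1 hl with h | h
    · exact k1 l h
    · rw [(List.mem_replicate.1 h).2]; norm_num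
  obtain ⟨-, -, h2⟩ := P.walk _ hl x hx.1 hx.2.2
  refine h2.trans ?_
  congr 1
  rw [prodw_append, k2]
  show _ = mval e a b y.1 * f ^ y.2
  congr 1
  generalize y.2 = n
  induction n with
  | zero => simp [prodw_nil]
  | succ n ih => rw [List.replicate_succ, prodw_cons, ih, pow_succ']; simp [hLet]

end Any

/-- The value of a code in the symmetry group. -/
def hValP (x : ℕ × ℕ) : Perm (Fin 100) := hVal pE pA pB pF x

/-- A code other than zero moves a point. -/
def moves (p i : ℕ) : Bool :=
  (Nat.beq p 0 && Nat.beq i 0) || (List.finRange 100).any fun z => decide (hValP (p, i) z ≠ z)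

theorem moves_spec : (stabList.all fun g => (List.range 64).all fun v => (List.range 5).all fun i =>
    force (Nat.add v (Nat.mul 64 g)) fun p => moves p i) = true := by decide +kernel

theorem hValP_one {x : ℕ × ℕ} (hx : hOK x) (h : hValP x = 1) : x = (0, 0) := by
  obtain ⟨p, i⟩ := x
  have hs := moves_spec
  simp only [List.all_eq_true, force_eq, Nat.add_eq, Nat.mul_eq] at hs
  have := hs (p / 64) (List.contains_iff_mem.1 hx.2.1) (p % 64) (List.mem_range.2 (Nat.mod_lt _ (by norm_num)))
    i (List.mem_range.2 hx.2.2)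
  rw [show p % 64 + 64 * (p / 64) = p by omega] at this
  simp only [moves, Bool.or_eq_true, Bool.and_eq_true, Nat.beq_eq, List.any_eq_true, decide_eq_true_eq] at this
  rcases this with ⟨rfl, rfl⟩ | ⟨z, -, hz⟩
  · rfl
  · exact absurd (by rw [h]; rfl) hz

variable {G : Type*} [Group G] [Finite G] {t c : G} {R H V M A : Subgroup G} {e : ℕ → G} {a b f : G}
variable (hF : RFacts t c R H) (hV : VFacts t R V M A) (P : Five t R H V M A e a b f)
include hF hV P

theorem Five.exists_theta : ∃ θ : H →* Perm (Fin 100), Function.Injective θ ∧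
    ∀ x, hOK x → ∀ h : H, (h : G) = hVal e a b f x → θ h = hValP x := by
  classical
  have hs : ∀ h : H, ∃ x, hOK x ∧ hVal e a b f x = (h : G) := fun h => P.hVal_surj hF hV h.2
  choose code c1 c2 using hs
  have huniq : ∀ x, hOK x → ∀ h : H, (h : G) = hVal e a b f x → code h = x := fun x hx h he =>
    P.hVal_inj hF hV (c1 h).1 (c1 h).2.2 hx.1 hx.2.2 ((c2 h).trans he)
  let θ : H →* Perm (Fin 100) := MonoidHom.mk' (fun h => hValP (code h)) fun h k => by
    obtain ⟨o, v⟩ := P.hmul_spec hF hV (c1 h) (c1 k)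
    show hValP (code (h * k)) = hValP (code h) * hValP (code k)
    rw [huniq _ o (h * k) (by rw [v, c2, c2]; rfl)]
    exact model_p.hmul_spec (c1 h) (c1 k)
  refine ⟨θ, (injective_iff_map_eq_one θ).2 fun h h1 => ?_, fun x hx h he => congrArg hValP (huniq x hx h he)⟩
  refine Subtype.ext ?_
  rw [← c2 h, hValP_one (c1 h) h1]
  exact (P.hOK_one hF hV).2

end CfsgLib.HSRec
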