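import Mathlib

/-!
Witnesses for the classes of involutions of the Higman–Sims group (generated).
-/

set_option autoImplicit false

namespace CfsgLib.HSRec

/-- The central involution as a packed symmetry. -/
def tpTbl : ℕ :=
  0x388af425184d2e666da2a889ddd4912d8509e766b1a529d534718f575f81bad6c85e98ab25ca982fd259b6ca65187720264b61c5facb15b58f89f203f16763b574cbc2e1c8081a3c8952438989142c6142c102860608080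

/-- A representative of the second class as a packed symmetry. -/
def upTbl : ℕ :=
  0x8f2040c60520262d1158a36117c6447944a6440b8f8b406e2c7525da7625e5d7cfcfc1864cca430854a50f3c95faab0d2eb22dad10d71a38394db007b48aa3aeb5cb79b6cede74c414e980e4e05562161669c0d61c442a0

/-- Conjugators of the involutions to the two representatives. -/
def clsWit : List (ℕ × ℕ × List ℕ) :=
  [(2, 0, []),
   (8, 0, [2, 4]),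
   (10, 0, [0, 2, 4]),
   (32, 0, [4]),
   (34, 0, [0, 0, 4]),
   (40, 0, [0, 0, 0, 4]),
   (42, 0, [0, 4]),
   (832, 0, [4, 0, 0, 6, 2, 4]),
   (834, 0, [4, 6, 0, 6, 0, 4]),
   (841, 1, [2, 4, 2, 2, 4, 0]),
   (843, 1, [4, 2, 2, 0]),
   (848, 0, [4, 6, 0, 2, 4]),
   (850, 0, [4, 6, 6, 4]),
   (857, 1, [4, 0, 2]),
   (859, 1, [2, 4, 0, 4]),
   (864, 0, [4, 0, 2, 6, 4]),
   (866, 0, [4, 2, 2, 6, 4]),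
   (873, 1, [2, 4, 2, 2, 4]),
   (875, 1, [4, 2, 2]),
   (880, 0, [4, 6, 2, 4]),
   (882, 0, [4, 0, 6, 0, 4]),
   (889, 1, [4, 0, 2, 0]),
   (891, 1, [2, 4, 0, 4, 0]),
   (1472, 0, [0, 0, 6, 2, 4]),
   (1473, 0, [6, 0, 2, 4]),
   (1474, 0, [0, 2, 6, 4]),
   (1475, 0, [6, 2, 4]),
   (1496, 1, [0, 2, 2, 0, 2]),
   (1497, 1, [0, 2]),
   (1498, 1, [6, 6, 2, 6, 6]),
   (1499, 1, [0, 2, 0]),
   (1504, 0, [6, 0, 6, 0, 4]),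
   (1505, 0, [6, 6, 4]),
   (1506, 0, [2, 2, 6, 4]),
   (1507, 0, [0, 6, 0, 4]),
   (1528, 1, [2, 2, 0]),
   (1529, 1, [2, 0, 2, 2]),
   (1530, 1, [2, 2]),
   (1531, 1, [2, 0, 2, 2, 0]),
   (1536, 0, [2, 4, 0, 0, 6, 2, 4]),
   (1538, 0, [2, 4, 6, 0, 6, 0, 4]),
   (1540, 0, [2, 4, 0, 6, 0, 4]),
   (1542, 0, [2, 4, 6, 2, 4]),
   (1544, 0, [2, 4, 0, 2, 6, 4]),
   (1546, 0, [2, 4, 2, 2, 6, 4]),
   (1548, 0, [2, 4, 6, 6, 4]),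
   (1550, 0, [4, 2, 4, 6, 0, 4]),
   (1569, 1, [4, 2, 4, 2, 0]),
   (1571, 1, [6, 4, 2, 2]),
   (1573, 1, [6, 6, 4, 0, 4]),
   (1575, 1, [2, 4, 0, 2, 0]),
   (1577, 1, [4, 2, 4, 2]),
   (1579, 1, [2, 4, 2, 2]),
   (1581, 1, [2, 2, 4, 0, 4]),
   (1583, 1, [2, 4, 0, 2]),
   (5120, 0, [0, 0, 4, 6, 6, 4]),
   (5122, 0, [0, 4, 0, 4, 6, 4]),
   (5129, 1, [0, 0, 4, 0, 2]),
   (5131, 1, [0, 4, 2, 2, 4, 0]),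
   (5137, 0, [0, 2, 2, 4, 6, 2, 4]),
   (5139, 0, [0, 6, 0, 4, 6, 2, 4]),
   (5144, 1, [0, 4, 0, 4, 0]),
   (5146, 1, [0, 0, 4, 2, 2]),
   (5152, 0, [0, 0, 4, 6, 2, 4]),
   (5154, 0, [0, 0, 4, 0, 6, 0, 4]),
   (5161, 1, [0, 4, 2, 2, 4]),
   (5163, 1, [4, 0, 4, 0, 4]),
   (5169, 0, [6, 2, 4, 0, 2, 6, 4]),
   (5171, 0, [6, 2, 4, 2, 2, 6, 4]),
   (5176, 1, [0, 0, 4, 2, 2, 0]),
   (5178, 1, [0, 4, 0, 4]),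
   (6208, 0, [6, 4, 2, 2, 6, 4]),
   (6210, 0, [0, 2, 4, 6, 2, 4]),
   (6213, 0, [6, 0, 6, 4, 6, 6, 4]),
   (6215, 0, [4, 2, 0, 2, 4, 6, 0, 4]),
   (6216, 0, [0, 4, 2, 4, 6, 0, 4]),
   (6218, 0, [0, 2, 4, 6, 6, 4]),
   (6221, 0, [0, 2, 4, 0, 2, 6, 4]),
   (6223, 0, [0, 2, 4, 2, 2, 6, 4]),
   (6241, 1, [2, 0, 0, 4, 0, 2]),
   (6243, 1, [0, 2, 4, 0, 2, 0]),
   (6244, 1, [0, 4, 2, 4, 2, 0]),
   (6246, 1, [0, 6, 4, 2, 2]),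
   (6249, 1, [6, 4, 2, 2, 0]),
   (6251, 1, [2, 4, 0, 4, 0, 4]),
   (6252, 1, [0, 2, 4, 2, 2]),
   (6254, 1, [0, 4, 2, 4, 2]),
   (6528, 0, [0, 0, 6, 0, 4]),
   (6530, 0, [0, 6, 6, 4]),
   (6537, 0, [6, 0, 4]),
   (6539, 0, [6, 0, 0, 0, 4]),
   (6549, 1, [2, 0]),
   (6551, 1, [2]),
   (6556, 1, [2, 2, 0, 2, 0]),
   (6558, 1, [2, 2, 0, 2]),
   (6561, 0, [2, 0, 6, 4]),
   (6563, 0, [6, 2, 6, 4]),
   (6568, 0, [2, 6, 4]),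
   (6570, 0, [0, 6, 2, 4]),
   (6580, 1, [0, 2, 2]),
   (6582, 1, [0, 2, 2, 0]),
   (6589, 1, [0, 2, 0, 2, 2]),
   (6591, 1, [0, 2, 0, 2, 2, 0]),
   (7488, 0, [6, 2, 2, 6, 4]),
   (7489, 0, [6, 0, 6, 4]),
   (7490, 0, [0, 0, 6, 4]),
   (7491, 0, [2, 6, 6, 4]),
   (7496, 0, [6, 0, 0, 4]),
   (7497, 0, [0, 6, 4]),
   (7498, 0, [6, 4]),
   (7499, 0, [0, 6, 0, 0, 4]),
   (7524, 1, [6, 6, 2, 2, 6]),
   (7525, 1, [0, 2, 0, 2, 0]),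
   (7526, 1, [6, 6, 2, 2, 6, 0]),
   (7527, 1, [0, 2, 0, 2]),
   (7532, 1, [0]),
   (7533, 1, [2, 0, 2, 0]),
   (7534, 1, []),
   (7535, 1, [2, 0, 2]),
   (8832, 0, [4, 0, 4, 6, 4]),
   (8833, 1, [0, 4, 0, 2]),
   (8834, 0, [0, 4, 6, 6, 4]),
   (8835, 1, [4, 2, 2, 4, 0]),
   (8860, 1, [4, 0, 4]),
   (8861, 0, [2, 2, 4, 6, 6, 4]),
   (8862, 1, [0, 4, 2, 2, 0]),
   (8863, 0, [2, 4, 2, 4, 6, 0, 4]),
   (8872, 0, [0, 4, 0, 6, 0, 4]),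
   (8873, 1, [4, 2, 2, 4]),
   (8874, 0, [0, 4, 6, 2, 4]),
   (8875, 1, [0, 4, 0, 2, 0]),
   (8884, 1, [0, 4, 2, 2]),
   (8885, 0, [2, 2, 4, 6, 2, 4]),
   (8886, 1, [4, 0, 4, 0]),
   (8887, 0, [6, 0, 4, 6, 2, 4]),
   (10368, 0, [6, 6, 2, 4, 6, 2, 4]),
   (10369, 1, [0, 0, 0, 4, 2, 2]),
   (10370, 0, [2, 0, 2, 4, 6, 2, 4]),
   (10371, 1, [4, 2, 0, 0, 4, 0]),
   (10388, 0, [6, 4, 0, 4, 6, 4]),
   (10389, 1, [4, 0, 2, 4, 2]),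
   (10390, 0, [6, 0, 4, 6, 6, 4]),
   (10391, 1, [2, 0, 4, 2, 4, 2]),
   (10408, 0, [2, 0, 2, 4, 6, 6, 4]),
   (10409, 1, [2, 6, 4, 2, 2, 0]),
   (10410, 0, [2, 0, 4, 2, 4, 6, 0, 4]),
   (10411, 1, [4, 2, 0, 0, 4]),
   (10428, 0, [4, 0, 2, 4, 6, 0, 4]),
   (10429, 1, [6, 4, 2, 2, 4]),
   (10430, 0, [0, 0, 0, 4, 6, 2, 4]),
   (10431, 1, [6, 0, 4, 0, 2, 0])]

/-- Conjugators for the involutions that can lie between. -/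
def betWit : List (ℕ × ℕ × List ℕ) :=
  [(8, 0, [2, 4]), (10, 0, [0, 2, 4]), (1536, 0, [2, 4, 0, 0, 6, 2, 4]), (1538, 0, [2, 4, 6, 0, 6, 0, 4]), (1544, 0, [2, 4, 0, 2, 6, 4]), (1546, 0, [2, 4, 2, 2, 6, 4]), (6213, 0, [6, 0, 6, 4, 6, 6, 4]), (6215, 0, [4, 2, 0, 2, 4, 6, 0, 4]), (6221, 0, [0, 2, 4, 0, 2, 6, 4]), (6223, 0, [0, 2, 4, 2, 2, 6, 4])]

/-- The word of the conjugator to the second involution. -/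
def xpWord : List ℕ :=
  [2, 4]

/-- A point fixed by the involution and adjacent to its image. -/
def fixPoint : Fin 100 :=
  23

end CfsgLib.HSRec
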