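import Cfsg.Agent.HSRec.Theta
import Cfsg.Agent.HSRec.WholeData

/-!
Kernel checks for the classes of involutions.
-/

set_option autoImplicit false
set_option maxRecDepth 100000
set_option Elab.async false

namespace CfsgLib.HSRec

open CfsgLib.CosetEnum CfsgLib.LyG2
open Equiv (Perm)

/-- The table of a letter. -/
def tabOf (l : ℕ) : ℕ :=
  bif Nat.beq l 0 then pkTbl else bif Nat.beq l 2 then psTbl else bif Nat.beq l 4 then paTbl else pfTbl

/-- A word applied to a point. -/
def appW (w : List ℕ) (v : Fin 100) : Fin 100 := w.foldr (fun l v => papp (tabOf l) v) v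

/-- A word in the four generators. -/
def evenW (w : List ℕ) : Bool :=
  w.all fun l => Nat.beq l 0 || (Nat.beq l 2 || (Nat.beq l 4 || Nat.beq l 6))

theorem appW_eq : ∀ (w : List ℕ), evenW w = true → ∀ v, appW w v = prodw pl w v
  | [], _, v => rfl
  | l :: w, h, v => by
    simp only [evenW, List.all_cons, Bool.and_eq_true] at h
    obtain ⟨hl, hw⟩ := h
    rw [prodw_cons, Equiv.Perm.mul_apply, ← appW_eq w hw v]
    simp only [Bool.or_eq_true, Nat.beq_eq] at hl
    obtain ⟨t0, t2, t4, t6⟩ := tables_eq
    rcases hl with rfl | rfl | rfl | rfl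
    · exact (t0 _).symm
    · exact (t2 _).symm
    · exact (t4 _).symm
    · exact (t6 _).symm

theorem conj_of_pointwise {σ τ : Perm (Fin 100)} {T : ℕ} (hT : ∀ v, τ v = papp T v) {w : List ℕ}
    (hw : evenW w = true) (h : ∀ v, σ (appW w v) = appW w (papp T v)) :
    σ = prodw pl w * τ * (prodw pl w)⁻¹ := by
  rw [eq_mul_inv_iff_mul_eq]
  refine Equiv.ext fun v => ?_
  rw [Equiv.Perm.mul_apply, Equiv.Perm.mul_apply, ← appW_eq w hw, ← appW_eq w hw, hT]
  exact h v

/-- The representative of the first class. -/
def repA : Perm (Fin 100) := hValP (2, 0)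

/-- The representative of the second class. -/
def repB : Perm (Fin 100) := hValP (7534, 0)

theorem rep_tables : (∀ v, repA v = papp tpTbl v) ∧ (∀ v, repB v = papp upTbl v) := by
  refine ⟨?_, ?_⟩ <;> decide +kernel

/-- The class witness of an involution. -/
def clsOK (p : ℕ) : Bool :=
  Nat.beq p 0 || (!(Nat.beq (mmul tb0 p p) 0) ||
    (clsWit.any fun r => Nat.beq r.1 p && (evenW r.2.2 &&
      decide (∀ v, hValP (p, 0) (appW r.2.2 v) =
        appW r.2.2 (papp (bif Nat.beq r.2.1 0 then tpTbl else upTbl) v)))))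

theorem cls_spec : (stabList.all fun g => (List.range 64).all fun v =>
    force (Nat.add v (Nat.mul 64 g)) clsOK) = true := by decide +kernel

/-- The number of fixed points. -/
def nfix (σ : Fin 100 → Fin 100) : ℕ := (Finset.univ.filter fun v => σ v = v).card

/-- The check for an involution that can lie between. -/
def betOK (p i : ℕ) : Bool :=
  ((List.finRange 100).any fun v => decide (hValP (p, i) (papp upTbl v) ≠ papp upTbl (hValP (p, i) v))) ||
    (((List.finRange 100).any fun v => decide (hValP (p, i) (hValP (p, i) v) ≠ v)) ||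
      ((Nat.beq p 0 && Nat.beq i 0) ||
        (!(Nat.beq (nfix fun v => hValP (p, i) (papp tpTbl v)) 20) ||
          (betWit.any fun r => Nat.beq r.1 p && (Nat.beq r.2.1 i && (evenW r.2.2 &&
            decide (∀ v, hValP (p, i) (appW r.2.2 v) = appW r.2.2 (papp tpTbl v))))))))

theorem bet_spec : (stabList.all fun g => (List.range 64).all fun v => (List.range 5).all fun i =>
    force (Nat.add v (Nat.mul 64 g)) fun p => betOK p i) = true := by decide +kernel

theorem fix_rep : nfix (fun v => papp tpTbl v) = 20 := by decide +kernel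

theorem inv_facts : (∀ v, papp tpTbl (papp tpTbl v) = v) ∧ (∀ v, papp upTbl (papp upTbl v) = v) ∧
    (∃ v, papp tpTbl v ≠ v) ∧ (∃ v, papp upTbl v ≠ v) ∧
    (∀ v, papp tpTbl (papp upTbl v) = papp upTbl (papp tpTbl v)) := by decide +kernel

theorem xp_facts : evenW xpWord = true ∧ papp tpTbl fixPoint = fixPoint ∧
    Mathieu.HigmanSims.adjB fixPoint (papp upTbl fixPoint) = true ∧
    ∀ v, papp tpTbl v = v → Mathieu.HigmanSims.adjB (appW xpWord v) (papp upTbl (appW xpWord v)) = false := by
  decide +kernel

theorem xp_comm : ∀ v, (prodw pl xpWord * repA * (prodw pl xpWord)⁻¹) (repB v) =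
    repB ((prodw pl xpWord * repA * (prodw pl xpWord)⁻¹) v) := by decide +kernel

theorem nine_comm : evenW word3a = true ∧ evenW word3b = true ∧
    (∀ v, appW word3a (papp upTbl v) = papp upTbl (appW word3a v)) ∧
    (∀ v, appW word3b (papp upTbl v) = papp upTbl (appW word3b v)) := by decide +kernel

end CfsgLib.HSRec
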