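import Cfsg.Agent.HSRec.Hom
import Cfsg.Agent.HSRec.WholeCheck

/-!
The image of the Higman–Sims group is the whole group.
-/

set_option autoImplicit false
set_option maxRecDepth 100000
set_option Elab.async false

namespace CfsgLib.HSRec

open Subgroup CfsgLib.CosetEnum CfsgLib.LyG2
open Equiv (Perm)
open CfsgLib.Mathieu.HigmanSims (hs adjB)

/-- The dihedral group on two involutions not conjugate in it has a central involution. -/
theorem exists_between_inv {K : Type*} [Group K] [Finite K] (S : Subgroup K) {x y : K} (hxS : x ∈ S)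
    (hyS : y ∈ S) (hx : x * x = 1) (hy : y * y = 1) (hnc : ∀ h ∈ S, h * x * h⁻¹ ≠ y) :
    ∃ F ∈ S, F * F = 1 ∧ F ≠ 1 ∧ F * x = x * F ∧ F * y = y * F ∧
      ((∃ h ∈ S, h * x * h⁻¹ = F * x) ∨ ∃ h ∈ S, h * y * h⁻¹ = F * x) := by
  have hxi : x⁻¹ = x := inv_eq_of_mul_eq_one_right hx
  have hyi : y⁻¹ = y := inv_eq_of_mul_eq_one_right hy
  obtain ⟨r, hr⟩ : ∃ r, r = x * y := ⟨_, rfl⟩
  have hflip : x * r * x⁻¹ = r⁻¹ := by
    rw [hr, hxi, mul_inv_rev, hxi, hyi, ← mul_assoc, hx, one_mul]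
  have hi : ∀ i : ℤ, r ^ i * x * (r ^ i)⁻¹ = r ^ (2 * i) * x := by
    intro i
    have h1 : x * (r ^ i)⁻¹ * x⁻¹ = r ^ i := by
      rw [← zpow_neg, ← conj_zpow, hflip, inv_zpow, zpow_neg, inv_inv]
    calc r ^ i * x * (r ^ i)⁻¹ = r ^ i * (x * (r ^ i)⁻¹ * x⁻¹) * x := by group
      _ = r ^ (2 * i) * x := by rw [h1, ← zpow_add, two_mul]
  have hyr : y = r⁻¹ * x := by rw [hr, mul_inv_rev, hxi, hyi, mul_assoc, hx, mul_one]
  have hrS : r ∈ S := hr ▸ mul_mem hxS hyS
  rcases Nat.even_or_odd' (orderOf r) with ⟨m, hm | hm⟩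
  swap
  · refine absurd ?_ (hnc (r ^ (m : ℤ)) (zpow_mem hrS _))
    rw [hi, hyr]
    congr 1
    have e : r ^ ((2 * (m : ℤ)) + 1) = 1 := by
      rw [show (2 * (m : ℤ)) + 1 = ((orderOf r : ℕ) : ℤ) by rw [hm]; push_cast; ring, zpow_natCast,
        pow_orderOf_eq_one]
    rw [zpow_add, zpow_one] at e
    exact eq_inv_of_mul_eq_one_left e
  have hpos := orderOf_pos r
  have hF2 : r ^ (m : ℤ) * r ^ (m : ℤ) = 1 := by
    rw [← zpow_add, show (m : ℤ) + m = ((orderOf r : ℕ) : ℤ) by rw [hm]; push_cast; ring, zpow_natCast,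
      pow_orderOf_eq_one]
  have hFinv : (r ^ (m : ℤ))⁻¹ = r ^ (m : ℤ) := inv_eq_of_mul_eq_one_right hF2
  have hFx : r ^ (m : ℤ) * x = x * r ^ (m : ℤ) := by
    have h1 : x * r ^ (m : ℤ) * x⁻¹ = r ^ (m : ℤ) := by rw [← conj_zpow, hflip, inv_zpow, hFinv]
    exact (mul_inv_eq_iff_eq_mul.1 h1).symm
  refine ⟨r ^ (m : ℤ), zpow_mem hrS _, hF2, fun h => ?_, hFx, ?_, ?_⟩
  · rw [zpow_natCast] at h
    exact pow_ne_one_of_lt_orderOf (by omega) (by omega) h
  · show Commute (r ^ (m : ℤ)) y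
    rw [hyr]
    exact ((Commute.refl r).zpow_left _).inv_right.mul_right hFx
  rcases Int.even_or_odd' (m : ℤ) with ⟨k, hk | hk⟩
  · exact Or.inl ⟨r ^ k, zpow_mem hrS _, by rw [hi, ← hk]⟩
  · refine Or.inr ⟨r ^ (k + 1), zpow_mem hrS _, ?_⟩
    calc r ^ (k + 1) * y * (r ^ (k + 1))⁻¹
        = r⁻¹ * (r ^ (k + 1) * x * (r ^ (k + 1))⁻¹) := by rw [hyr]; group
      _ = r ^ (m : ℤ) * x := by rw [hi, ← mul_assoc, ← zpow_neg_one, ← zpow_add, hk]; ring_nf

theorem hs_adj {σ : Perm (Fin 100)} (h : σ ∈ hs) (u v : Fin 100) : adjB (σ u) (σ v) = adjB u v :=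
  (Subgroup.mem_inf.1 h).1 u v

theorem nfix_conj (W τ : Perm (Fin 100)) : nfix ⇑(W * τ * W⁻¹) = nfix ⇑τ := by
  unfold nfix
  refine Finset.card_equiv W⁻¹ fun v => ?_
  simp only [Finset.mem_filter, Finset.mem_univ, true_and]
  show W (τ (W⁻¹ v)) = v ↔ τ (W⁻¹ v) = W⁻¹ v
  exact Equiv.apply_eq_iff_eq_symm_apply W

theorem pW_mem {w : List ℕ} (h : evenW w = true) : prodw pl w ∈ hs := by
  refine prodw_mem fun l hl => pl_mem ?_
  simp only [evenW, List.all_eq_true, Bool.or_eq_true, Nat.beq_eq] at h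
  rcases h l hl with rfl | rfl | rfl | rfl <;> norm_num

variable {G : Type*} [Group G] [Finite G] {t c : G} {R H V M A : Subgroup G} {e : ℕ → G} {a b f : G}
variable (hF : RFacts t c R H) (hV : VFacts t R V M A) (P : Five t R H V M A e a b f)
variable {φ : hs →* G} (hφ : Function.Injective φ)
  (hval : ∀ x, hOK x → ∃ h : hValP x ∈ hs, φ ⟨hValP x, h⟩ = hVal e a b f x)
include hF hV P hφ hval

theorem code_of_H {g : G} (hg : g ∈ H) :
    ∃ x, hOK x ∧ hVal e a b f x = g ∧ ∃ h : hValP x ∈ hs, φ ⟨hValP x, h⟩ = g := by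
  obtain ⟨x, hx, he⟩ := P.hVal_surj hF hV hg
  obtain ⟨h, h'⟩ := hval x hx
  exact ⟨x, hx, he, h, h'.trans he⟩

theorem H_le : H ≤ φ.range := fun g hg => by
  obtain ⟨x, -, -, h, h'⟩ := code_of_H hF hV P hφ hval hg
  exact ⟨_, h'⟩

theorem exists_reps : ∃ tp up : hs, (tp : Perm (Fin 100)) = repA ∧ (up : Perm (Fin 100)) = repB ∧
    φ tp = t ∧ up * up = 1 ∧ tp * tp = 1 ∧ orderOf up = 2 ∧ orderOf tp = 2 ∧ tp * up = up * tp := by
  obtain ⟨h1, h1'⟩ := hval (2, 0) ⟨show 2 < 10752 by norm_num, show stabList.contains (2 / 64) = true by decide,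
    show (0 : ℕ) < 5 by norm_num⟩
  obtain ⟨h2, -⟩ := hval (7534, 0) ⟨show 7534 < 10752 by norm_num,
    show stabList.contains (7534 / 64) = true by decide, show (0 : ℕ) < 5 by norm_num⟩
  obtain ⟨iA, iB, ⟨vA, nA⟩, ⟨vB, nB⟩, hc⟩ := inv_facts
  obtain ⟨tA, tB⟩ := rep_tables
  haveI := Fact.mk Nat.prime_two
  have a2 : repA * repA = 1 := Equiv.ext fun v => by rw [Equiv.Perm.mul_apply, tA, tA, iA]; rfl
  have b2 : repB * repB = 1 := Equiv.ext fun v => by rw [Equiv.Perm.mul_apply, tB, tB, iB]; rfl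
  have ab : repA * repB = repB * repA := Equiv.ext fun v => by
    rw [Equiv.Perm.mul_apply, Equiv.Perm.mul_apply, tA, tB, tA, tB, hc]
  refine ⟨⟨repA, h1⟩, ⟨repB, h2⟩, rfl, rfl, ?_, Subtype.ext b2, Subtype.ext a2, ?_, ?_, Subtype.ext ab⟩
  · refine h1'.trans ?_
    show mval e a b 2 * f ^ 0 = t
    rw [t_code P.std.basis, pow_zero, mul_one]
  · refine orderOf_eq_prime (by rw [pow_two]; exact Subtype.ext b2) fun h => nB ?_
    rw [← tB, show repB = 1 from congrArg Subtype.val h]; rfl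
  · refine orderOf_eq_prime (by rw [pow_two]; exact Subtype.ext a2) fun h => nA ?_
    rw [← tA, show repA = 1 from congrArg Subtype.val h]; rfl

variable {tp up : hs} (htp : (tp : Perm (Fin 100)) = repA) (hup : (up : Perm (Fin 100)) = repB)
  (htt : φ tp = t) (hupu : up * up = 1) (htpt : tp * tp = 1) (houp : orderOf up = 2)
  (hotp : orderOf tp = 2) (htu : tp * up = up * tp)
include htp hup

theorem two_classes {y : hs} (hy : orderOf y = 2) : IsConj y tp ∨ IsConj y up := by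
  classical
  haveI := Fact.mk Nat.prime_two
  have hK := P.std.cardK hF hV
  obtain ⟨S, hS⟩ := Sylow.exists_subgroup_card_pow_prime (G := (M ⊓ H : Subgroup G)) 2 (n := 9)
    (by rw [hK]; norm_num)
  let S' : Subgroup G := S.map (M ⊓ H : Subgroup G).subtype
  have hS'le : S' ≤ M ⊓ H := map_subtype_le S
  have hS'c : Nat.card S' = 2 ^ 9 := by
    rw [← hS]
    exact (Nat.card_congr (S.equivMapOfInjective _ (Subgroup.subtype_injective _)).toEquiv).symm
  have hS'r : S' ≤ φ.range := hS'le.trans (inf_le_right.trans (H_le hF hV P hφ hval))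
  let T : Subgroup hs := S'.comap φ
  have hTc : Nat.card T = 2 ^ 9 := by
    rw [← hS'c, ← Subgroup.map_comap_eq_self hS'r]
    exact Nat.card_congr ((S'.comap φ).equivMapOfInjective φ hφ).toEquiv
  let P2 : Sylow 2 hs := Sylow.ofCard T (by
    rw [hTc, Mathieu.HigmanSims.card_hs]
    congr 1
    rw [show 44352000 = 2 ^ 9 * 86625 by norm_num, Nat.factorization_mul (pow_ne_zero _ two_ne_zero) (by norm_num),
      Nat.Prime.factorization_pow Nat.prime_two]
    simp [Nat.factorization_eq_zero_of_not_dvd (show ¬ 2 ∣ 86625 by norm_num)])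
  obtain ⟨Q, hQ⟩ := (IsPGroup.of_card (p := 2) (n := 1) (G := zpowers y)
    (by rw [Nat.card_zpowers, hy, pow_one])).exists_le_sylow
  obtain ⟨g, hg⟩ := MulAction.exists_smul_eq hs Q P2
  have hmem : g * y * g⁻¹ ∈ T := by
    have h := congrArg Sylow.toSubgroup hg
    show g * y * g⁻¹ ∈ (P2 : Subgroup hs)
    rw [← h, Sylow.smul_def, Sylow.pointwise_smul_def]
    exact ⟨y, hQ (mem_zpowers y), rfl⟩
  have hzord : orderOf (g * y * g⁻¹) = 2 := by rw [← MulAut.conj_apply, MulEquiv.orderOf_eq, hy]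
  have hconj : IsConj y (g * y * g⁻¹) := isConj_iff.2 ⟨g, rfl⟩
  set z := g * y * g⁻¹
  obtain ⟨hzM, hzH⟩ := hS'le hmem
  obtain ⟨p, hp, hpe⟩ := (mval_bij hV P.std.facts P.std.basis P.std.ha P.std.hb).2.2 _ hzM
  have hpS : stabList.contains (p / 64) = true := (P.std.mem_H hF hp).1 (hpe ▸ hzH)
  have hok : hOK (p, 0) := ⟨hp, hpS, show (0 : ℕ) < 5 by norm_num⟩
  have hv0 : hVal e a b f (p, 0) = mval e a b p := by
    show mval e a b p * f ^ 0 = _
    rw [pow_zero, mul_one]
  obtain ⟨hph, hpφ⟩ := hval (p, 0) hok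
  have hzP : (z : Perm (Fin 100)) = hValP (p, 0) :=
    congrArg Subtype.val (hφ (hpe.symm.trans (hv0.symm.trans hpφ.symm)))
  have h := cls_spec
  simp only [List.all_eq_true, force_eq, Nat.add_eq, Nat.mul_eq] at h
  have h := h (p / 64) (List.contains_iff_mem.1 hpS) (p % 64) (List.mem_range.2 (Nat.mod_lt _ (by norm_num)))
  rw [show p % 64 + 64 * (p / 64) = p by omega] at h
  simp only [clsOK, Bool.or_eq_true, Bool.and_eq_true, Bool.not_eq_true', Nat.beq_eq, List.any_eq_true,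
    decide_eq_true_eq] at h
  rcases h with rfl | h | ⟨⟨k, j, w⟩, -, -, hw, hpt⟩
  · exfalso
    have : (φ z : G) = 1 := by rw [← hpe, mval_low (by norm_num), iota_zero]
    rw [(map_eq_one_iff φ hφ).1 this, orderOf_one] at hzord
    norm_num at hzord
  · exfalso
    have h2 : mval e a b (mmul tb0 p p) = 1 := by
      rw [P.std.facts.mval_mul (by decide) hp hp, hpe, ← map_mul, ← pow_two, ← hzord, pow_orderOf_eq_one,
        map_one]
    have h0 : mval e a b 0 = 1 := by rw [mval_low (by norm_num), iota_zero]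
    have := (mval_bij hV P.std.facts P.std.basis P.std.ha P.std.hb).2.1 _ (mmul_lt hp hp) 0 (by norm_num)
      (h2.trans h0.symm)
    rw [this] at h
    exact Bool.false_ne_true h.symm
  · obtain ⟨tA, tB⟩ := rep_tables
    dsimp only at hw hpt
    cases hj : Nat.beq j 0
    · simp only [hj, cond_false] at hpt
      refine Or.inr (hconj.trans (isConj_iff.2 ⟨⟨prodw pl w, pW_mem hw⟩⁻¹, Subtype.ext ?_⟩))
      show (prodw pl w)⁻¹ * (z : Perm (Fin 100)) * (prodw pl w)⁻¹⁻¹ = (up : Perm (Fin 100))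
      rw [hzP, hup, conj_of_pointwise tB hw hpt]
      group
    · simp only [hj, cond_true] at hpt
      refine Or.inl (hconj.trans (isConj_iff.2 ⟨⟨prodw pl w, pW_mem hw⟩⁻¹, Subtype.ext ?_⟩))
      show (prodw pl w)⁻¹ * (z : Perm (Fin 100)) * (prodw pl w)⁻¹⁻¹ = (tp : Perm (Fin 100))
      rw [hzP, htp, conj_of_pointwise tA hw hpt]
      group

include houp in
theorem not_conj_G : ¬ IsConj (φ up) t := by
  classical
  intro hc
  obtain ⟨g, hg⟩ := isConj_iff.1 hc
  obtain ⟨e1, e2, c1, c2⟩ := nine_comm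
  obtain ⟨q3, z3, hqz⟩ := nine_facts
  have tB := rep_tables.2
  have cm : ∀ w, evenW w = true → (∀ v, appW w (papp upTbl v) = papp upTbl (appW w v)) →
      prodw pl w * repB = repB * prodw pl w := fun w hw h => Equiv.ext fun v => by
    rw [Equiv.Perm.mul_apply, Equiv.Perm.mul_apply, tB, tB, ← appW_eq w hw, ← appW_eq w hw, h]
  let q : hs := ⟨_, pW_mem e1⟩
  let z : hs := ⟨_, pW_mem e2⟩
  have hq : φ q ∈ centralizer ({φ up} : Set G) := mem_centralizer_singleton_iff.2 (by
    rw [← map_mul, ← map_mul]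
    exact congrArg φ (Subtype.ext (show _ * (up : Perm (Fin 100)) = _ * _ by rw [hup, cm _ e1 c1])))
  have hz : φ z ∈ centralizer ({φ up} : Set G) := mem_centralizer_singleton_iff.2 (by
    rw [← map_mul, ← map_mul]
    exact congrArg φ (Subtype.ext (show _ * (up : Perm (Fin 100)) = _ * _ by rw [hup, cm _ e2 c2])))
  have hH : ∀ x ∈ centralizer ({φ up} : Set G), g * x * g⁻¹ ∈ H := fun x hx => by
    rw [hF.hH, mem_centralizer_singleton_iff, ← hg]
    calc g * x * g⁻¹ * (g * φ up * g⁻¹) = g * (x * φ up) * g⁻¹ := by group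
      _ = g * (φ up * x) * g⁻¹ := by rw [mem_centralizer_singleton_iff.1 hx]
      _ = _ := by group
  haveI := Fact.mk (show Nat.Prime 3 by norm_num)
  let Q : Subgroup G := closure {g * φ q * g⁻¹, g * φ z * g⁻¹}
  have hQH : Q ≤ H := (closure_le _).2 (by
    rintro _ (rfl | rfl)
    exacts [hH _ hq, hH _ hz])
  have hdvd := Subgroup.card_dvd_of_le hQH
  rw [hF.cardH] at hdvd
  have hcomm : Commute (g * φ q * g⁻¹) (g * φ z * g⁻¹) := by
    show _ * _ = _ * _
    have : φ q * φ z = φ z * φ q := by rw [← map_mul, ← map_mul]; exact congrArg φ (Subtype.ext hqz)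
    calc g * φ q * g⁻¹ * (g * φ z * g⁻¹) = g * (φ q * φ z) * g⁻¹ := by group
      _ = g * (φ z * φ q) * g⁻¹ := by rw [this]
      _ = _ := by group
  let Φ : Fin 3 × Fin 3 → Q := fun ij =>
    ⟨(g * φ q * g⁻¹) ^ (ij.1 : ℕ) * (g * φ z * g⁻¹) ^ (ij.2 : ℕ),
      mul_mem (pow_mem (subset_closure (by simp)) _) (pow_mem (subset_closure (by simp)) _)⟩
  have hΦ : Function.Injective Φ := by
    rintro ⟨i, j⟩ ⟨k, l⟩ he
    have he' := congrArg Subtype.val he
    simp only [Φ, conj_pow] at he'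
    have : φ (q ^ (i : ℕ) * z ^ (j : ℕ)) = φ (q ^ (k : ℕ) * z ^ (l : ℕ)) := by
      simp only [map_mul, map_pow]
      refine mul_left_cancel (a := g) (mul_right_cancel (b := g⁻¹) ?_)
      calc g * (φ q ^ (i : ℕ) * φ z ^ (j : ℕ)) * g⁻¹
          = g * φ q ^ (i : ℕ) * g⁻¹ * (g * φ z ^ (j : ℕ) * g⁻¹) := by group
        _ = g * φ q ^ (k : ℕ) * g⁻¹ * (g * φ z ^ (l : ℕ) * g⁻¹) := he'
        _ = _ := by group
    have h2 : prodw pl word3a ^ (i : ℕ) * prodw pl word3b ^ (j : ℕ) =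
        prodw pl word3a ^ (k : ℕ) * prodw pl word3b ^ (l : ℕ) := congrArg Subtype.val (hφ this)
    set Qp := prodw pl word3a
    set Zp := prodw pl word3b
    have hc' : Commute Qp Zp := hqz
    have hm : ∀ (x : Perm (Fin 100)), x ^ 3 = 1 → ∀ n, x ^ n = x ^ (n % 3) := fun x hx n => by
      conv_lhs => rw [← Nat.mod_add_div n 3, pow_add, pow_mul, hx, one_pow, mul_one]
    have h3 : Qp ^ ((i : ℕ) + (3 - k)) * Zp ^ ((j : ℕ) + (3 - l)) = 1 := by
      rw [pow_add, pow_add]
      calc Qp ^ (i : ℕ) * Qp ^ (3 - (k : ℕ)) * (Zp ^ (j : ℕ) * Zp ^ (3 - (l : ℕ)))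
          = Qp ^ (3 - (k : ℕ)) * (Qp ^ (i : ℕ) * Zp ^ (j : ℕ)) * Zp ^ (3 - (l : ℕ)) := by
            rw [(Commute.pow_pow (Commute.refl Qp) (i : ℕ) (3 - (k : ℕ))).eq]; group
        _ = Qp ^ (3 - (k : ℕ)) * Qp ^ (k : ℕ) * (Zp ^ (l : ℕ) * Zp ^ (3 - (l : ℕ))) := by rw [h2]; group
        _ = 1 := by
            rw [← pow_add, ← pow_add, show 3 - (k : ℕ) + k = 3 by omega, show (l : ℕ) + (3 - l) = 3 by omega,
              show Qp ^ 3 = 1 from q3, show Zp ^ 3 = 1 from z3, one_mul]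
    rw [hm Qp q3, hm Zp z3] at h3
    have h00 : ((i : ℕ) + (3 - k)) % 3 + ((j : ℕ) + (3 - l)) % 3 = 0 := by
      by_contra hne
      obtain ⟨v, hv⟩ := nine_inj _ (Nat.mod_lt _ (by norm_num)) _ (Nat.mod_lt _ (by norm_num)) hne
      exact hv (by rw [show prodw pl word3a ^ _ * prodw pl word3b ^ _ = 1 from h3]; rfl)
    have hi := i.isLt
    have hj := j.isLt
    have hk := k.isLt
    have hl := l.isLt
    exact Prod.ext (Fin.ext (show (i : ℕ) = k by omega)) (Fin.ext (show (j : ℕ) = l by omega))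
  have h9 : 9 ≤ Nat.card Q := by
    have := Nat.card_le_card_of_injective Φ hΦ
    simpa using this
  -- a commutative group of exponent three
  have hQ3 : IsPGroup 3 Q := by
    intro x
    refine ⟨1, Subtype.ext ?_⟩
    show (x : G) ^ 3 ^ 1 = 1
    rw [pow_one]
    have hall : ∀ w ∈ Q, w ^ 3 = 1 ∧ Commute w (g * φ q * g⁻¹) ∧ Commute w (g * φ z * g⁻¹) := by
      have hq3 : (g * φ q * g⁻¹) ^ 3 = 1 := by
        rw [conj_pow, ← map_pow, show q ^ 3 = 1 from Subtype.ext q3, map_one, mul_one, mul_inv_cancel]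
      have hz3 : (g * φ z * g⁻¹) ^ 3 = 1 := by
        rw [conj_pow, ← map_pow, show z ^ 3 = 1 from Subtype.ext z3, map_one, mul_one, mul_inv_cancel]
      intro w hw
      have hwc : w ∈ Subgroup.centralizer (Q : Set G) := by
        revert w
        show Q ≤ Subgroup.centralizer (Q : Set G)
        refine (closure_le _).2 ?_
        rw [Subgroup.centralizer_closure]
        rintro _ (rfl | rfl) <;> rintro _ (rfl | rfl)
        exacts [rfl, hcomm.symm.eq, hcomm.eq, rfl]
      have hc1 : ∀ y ∈ Q, Commute y w := fun y hy => mem_centralizer_iff.1 hwc y hy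
      refine ⟨?_, (hc1 _ (subset_closure (by simp))).symm, (hc1 _ (subset_closure (by simp))).symm⟩
      clear hwc hc1
      induction hw using closure_induction with
      | mem y hy => rcases hy with rfl | rfl <;> assumption
      | one => simp
      | mul u v hu hv a b =>
        have huv : Commute u v := by
          have : v ∈ Subgroup.centralizer (Q : Set G) := by
            have hle : Q ≤ Subgroup.centralizer (Q : Set G) := by
              refine (closure_le _).2 ?_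
              rw [Subgroup.centralizer_closure]
              rintro _ (rfl | rfl) <;> rintro _ (rfl | rfl)
              exacts [rfl, hcomm.symm.eq, hcomm.eq, rfl]
            exact hle hv
          exact mem_centralizer_iff.1 this u hu
        rw [huv.mul_pow, a, b, mul_one]
      | inv u _ a => rw [inv_pow, a, inv_one]
    exact (hall x x.2).1
  obtain ⟨n, hn⟩ := IsPGroup.iff_card.1 hQ3
  rw [hn] at hdvd h9
  have hle : n ≤ 1 := by
    by_contra hlt
    have h' : 3 ^ 2 ∣ 7680 := (pow_dvd_pow 3 (by omega)).trans hdvd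
    norm_num at h'
  interval_cases n <;> norm_num at h9

include htt htpt hotp houp in
theorem bet_conj {F : hs} (hF2 : F * F = 1) (hF1 : F ≠ 1) (hFt : φ F * t = t * φ F)
    (hFu : F * up = up * F) (hcl : IsConj (F * tp) tp) : IsConj F tp := by
  classical
  obtain ⟨x, hx, hxe, hxh, hxφ⟩ := code_of_H hF hV P hφ hval
    (show φ F ∈ H by rw [hF.hH, mem_centralizer_singleton_iff]; exact hFt)
  have hFx : (F : Perm (Fin 100)) = hValP x := congrArg Subtype.val (hφ hxφ.symm)
  obtain ⟨p, i⟩ := x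
  have h := bet_spec
  simp only [List.all_eq_true, force_eq, Nat.add_eq, Nat.mul_eq] at h
  have h := h (p / 64) (List.contains_iff_mem.1 hx.2.1) (p % 64) (List.mem_range.2 (Nat.mod_lt _ (by norm_num)))
    i (List.mem_range.2 hx.2.2)
  rw [show p % 64 + 64 * (p / 64) = p by omega] at h
  simp only [betOK, Bool.or_eq_true, Bool.and_eq_true, Bool.not_eq_true', Nat.beq_eq, List.any_eq_true,
    decide_eq_true_eq] at h
  obtain ⟨tA, tB⟩ := rep_tables
  rcases h with ⟨v, -, hv⟩ | ⟨v, -, hv⟩ | ⟨rfl, rfl⟩ | h | ⟨⟨k, j, w⟩, -, -, -, hw, hpt⟩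
  · exfalso
    apply hv
    have := congrArg (fun σ : Perm (Fin 100) => σ v) (congrArg Subtype.val hFu)
    simpa [hFx, hup, tB] using this
  · exfalso
    apply hv
    have := congrArg (fun σ : Perm (Fin 100) => σ v) (congrArg Subtype.val hF2)
    simpa [hFx] using this
  · exfalso
    refine hF1 (Subtype.ext (hFx.trans ?_))
    exact model_p.one.2
  · exfalso
    obtain ⟨g, hg⟩ := isConj_iff.1 hcl.symm
    have h20 : nfix ⇑((F : Perm (Fin 100)) * (tp : Perm (Fin 100))) = 20 := by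
      rw [show (F : Perm (Fin 100)) * (tp : Perm (Fin 100)) =
        (g : Perm (Fin 100)) * (tp : Perm (Fin 100)) * (g : Perm (Fin 100))⁻¹ from (congrArg Subtype.val hg).symm,
        nfix_conj, htp, show ⇑repA = fun v => papp tpTbl v from funext tA]
      exact fix_rep
    rw [show ⇑((F : Perm (Fin 100)) * (tp : Perm (Fin 100))) = fun v => hValP (p, i) (papp tpTbl v) from
      funext fun v => by rw [Equiv.Perm.mul_apply, hFx, htp, tA]] at h20
    rw [h20] at h
    exact Bool.false_ne_true h.symm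
  · dsimp only at hw hpt
    refine isConj_iff.2 ⟨⟨prodw pl w, pW_mem hw⟩⁻¹, Subtype.ext ?_⟩
    show (prodw pl w)⁻¹ * (F : Perm (Fin 100)) * (prodw pl w)⁻¹⁻¹ = (tp : Perm (Fin 100))
    rw [hFx, htp, conj_of_pointwise tA hw hpt]
    group

include htt in
theorem cent_le_of_conj {x : hs} (hx : IsConj tp x) : centralizer ({φ x} : Set G) ≤ φ.range := by
  obtain ⟨d, rfl⟩ := isConj_iff.1 hx
  intro h hh
  have h' : (φ d)⁻¹ * h * φ d ∈ φ.range := by
    refine H_le hF hV P hφ hval ?_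
    rw [hF.hH, mem_centralizer_singleton_iff]
    have h1 := mem_centralizer_singleton_iff.1 hh
    simp only [map_mul, map_inv, htt] at h1
    calc (φ d)⁻¹ * h * φ d * t = (φ d)⁻¹ * (h * (φ d * t * (φ d)⁻¹)) * φ d := by group
      _ = (φ d)⁻¹ * (φ d * t * (φ d)⁻¹ * h) * φ d := by rw [h1]
      _ = t * ((φ d)⁻¹ * h * φ d) := by group
  have := mul_mem (mul_mem (⟨d, rfl⟩ : φ d ∈ φ.range) h') (inv_mem (⟨d, rfl⟩ : φ d ∈ φ.range))
  rwa [show φ d * ((φ d)⁻¹ * h * φ d) * (φ d)⁻¹ = h by group] at this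

include htt htpt hotp houp in
theorem conj_of_G {x : hs} (hx : orderOf x = 2) (h : IsConj (φ x) t) : IsConj x tp :=
  (two_classes hF hV P hφ hval htp hup hx).resolve_right fun hu =>
    not_conj_G hF hV P hφ hval htp hup houp ((φ.map_isConj hu).symm.trans h)

include htt htpt hotp houp hupu htu in
theorem cent_up_le : centralizer ({φ up} : Set G) ≤ φ.range := by
  classical
  haveI := Fact.mk Nat.prime_two
  set S := centralizer ({φ up} : Set G)
  obtain ⟨exW, efix, eadj, exp0⟩ := xp_facts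
  let W : hs := ⟨_, pW_mem exW⟩
  set xp : hs := W * tp * W⁻¹ with hxp
  have hxpu : xp * up = up * xp := Subtype.ext <| Equiv.ext fun v => by
    show (prodw pl xpWord * (tp : Perm (Fin 100)) * (prodw pl xpWord)⁻¹) ((up : Perm (Fin 100)) v) =
      (up : Perm (Fin 100)) ((prodw pl xpWord * (tp : Perm (Fin 100)) * (prodw pl xpWord)⁻¹) v)
    rw [htp, hup]
    exact xp_comm v
  have hnot : ∀ h ∈ S, h * t * h⁻¹ ≠ φ xp := by
    intro h hh he
    have hW : (φ W)⁻¹ * h ∈ φ.range := by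
      refine H_le hF hV P hφ hval ?_
      rw [hF.hH, mem_centralizer_singleton_iff]
      rw [hxp, map_mul, map_mul, map_inv, htt] at he
      calc (φ W)⁻¹ * h * t = (φ W)⁻¹ * (h * t * h⁻¹) * h := by group
        _ = t * ((φ W)⁻¹ * h) := by rw [he]; group
    have hr : h ∈ φ.range := by
      have := mul_mem (⟨W, rfl⟩ : φ W ∈ φ.range) hW
      rwa [mul_inv_cancel_left] at this
    obtain ⟨d, rfl⟩ := hr
    have hd1 : d * tp * d⁻¹ = xp := hφ (by rw [map_mul, map_mul, map_inv, htt, he])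
    have hd2 : d * up = up * d := hφ (by rw [map_mul, map_mul]; exact mem_centralizer_singleton_iff.1 hh)
    obtain ⟨tA, tB⟩ := rep_tables
    have c1 := congrArg Subtype.val hd1
    have c2 := congrArg Subtype.val hd2
    simp only [hxp, W, Subgroup.coe_mul, Subgroup.coe_inv, htp, hup] at c1 c2
    set D := (d : Perm (Fin 100))
    set Wp := prodw pl xpWord
    have hfix : (Wp * repA * Wp⁻¹) (D fixPoint) = D fixPoint := by
      rw [← c1, Equiv.Perm.mul_apply, Equiv.Perm.mul_apply, show D⁻¹ (D fixPoint) = fixPoint by simp, tA, efix]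
    have hv : papp tpTbl (Wp⁻¹ (D fixPoint)) = Wp⁻¹ (D fixPoint) := by
      rw [← tA]
      exact Wp.injective (hfix.trans (by simp))
    have h0 := exp0 _ hv
    rw [appW_eq _ exW, show Wp (Wp⁻¹ (D fixPoint)) = D fixPoint by simp, ← tB,
      show repB (D fixPoint) = D (repB fixPoint) from (congrArg (fun σ : Perm (Fin 100) => σ fixPoint) c2).symm,
      hs_adj d.2, tB, eadj] at h0
    exact Bool.false_ne_true h0.symm
  intro g hg
  have htS : t ∈ S := mem_centralizer_singleton_iff.2 (by rw [← htt, ← map_mul, ← map_mul, htu])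
  have hxS : φ xp ∈ S := mem_centralizer_singleton_iff.2 (by rw [← map_mul, ← map_mul, hxpu])
  set y := g * φ xp * g⁻¹ with hy
  have hyS : y ∈ S := mul_mem (mul_mem hg hxS) (inv_mem hg)
  have tt : t * t = 1 := by rw [← htt, ← map_mul, htpt, map_one]
  have xx : xp * xp = 1 := by
    rw [hxp]
    calc W * tp * W⁻¹ * (W * tp * W⁻¹) = W * (tp * tp) * W⁻¹ := by group
      _ = 1 := by rw [htpt]; group
  have yy : y * y = 1 := by
    calc y * y = g * (φ xp * φ xp) * g⁻¹ := by rw [hy]; group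
      _ = 1 := by rw [← map_mul, xx, map_one]; group
  obtain ⟨F, hFS, hF2, hF1, hFt, hFy, hcl⟩ := exists_between_inv S htS hyS tt yy (fun h hh he =>
    hnot (g⁻¹ * h) (mul_mem (inv_mem hg) hh) (by
      calc g⁻¹ * h * t * (g⁻¹ * h)⁻¹ = g⁻¹ * (h * t * h⁻¹) * g := by group
        _ = φ xp := by rw [he, hy]; group))
  obtain ⟨F', rfl⟩ := H_le hF hV P hφ hval (show F ∈ H by rw [hF.hH, mem_centralizer_singleton_iff]; exact hFt)
  have hxc : IsConj (φ xp) t := by
    rw [hxp, map_mul, map_mul, map_inv, htt]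
    exact (isConj_iff.2 ⟨φ W, rfl⟩ : IsConj t _).symm
  have hyc : IsConj y t := (isConj_iff.2 ⟨g, rfl⟩ : IsConj (φ xp) y).symm.trans hxc
  have hclG : IsConj (φ (F' * tp)) t := by
    rw [map_mul, htt]
    rcases hcl with ⟨h, -, he⟩ | ⟨h, -, he⟩
    · exact (isConj_iff.2 ⟨h, he⟩ : IsConj t _).symm
    · exact (isConj_iff.2 ⟨h, he⟩ : IsConj y _).symm.trans hyc
  have hFo : orderOf (F' * tp) = 2 := by
    rw [← orderOf_injective φ hφ]
    obtain ⟨d, hd⟩ := isConj_iff.1 hclG
    rw [← MulEquiv.orderOf_eq (MulAut.conj d), MulAut.conj_apply, hd, ← htt, orderOf_injective φ hφ, hotp]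
  have hF'c : IsConj F' tp := bet_conj hF hV P hφ hval htp hup htt htpt houp hotp
    (hφ (by rw [map_mul, hF2, map_one])) (fun h => hF1 (by rw [h, map_one])) hFt
    (hφ (by rw [map_mul, map_mul]; exact mem_centralizer_singleton_iff.1 hFS))
    (conj_of_G hF hV P hφ hval htp hup htt htpt houp hotp hFo hclG)
  obtain ⟨y', hy'⟩ := cent_le_of_conj hF hV P hφ hval htp hup htt hF'c.symm
    (mem_centralizer_singleton_iff.2 hFy.symm : y ∈ centralizer ({φ F'} : Set G))
  have hy'o : orderOf y' = 2 := by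
    rw [← orderOf_injective φ hφ, hy']
    obtain ⟨d, hd⟩ := isConj_iff.1 hyc
    rw [← MulEquiv.orderOf_eq (MulAut.conj d), MulAut.conj_apply, hd, ← htt, orderOf_injective φ hφ, hotp]
  obtain ⟨d, hd⟩ := isConj_iff.1
    (conj_of_G hF hV P hφ hval htp hup htt htpt houp hotp hy'o (hy'.symm ▸ hyc))
  -- φ d * g * φ W centralizes t
  have hmem : φ d * g * φ W ∈ φ.range := by
    refine H_le hF hV P hφ hval ?_
    rw [hF.hH, mem_centralizer_singleton_iff]
    have e1 : φ d * y * (φ d)⁻¹ = t := by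
      rw [← hy', ← map_inv, ← map_mul, ← map_mul, hd, htt]
    rw [hy, hxp, map_mul, map_mul, map_inv, htt] at e1
    calc φ d * g * φ W * t
        = φ d * (g * (φ W * t * (φ W)⁻¹) * g⁻¹) * (φ d)⁻¹ * (φ d * g * φ W) := by group
      _ = t * (φ d * g * φ W) := by rw [e1]
  have := mul_mem (mul_mem (inv_mem (⟨d, rfl⟩ : φ d ∈ φ.range)) hmem) (inv_mem (⟨W, rfl⟩ : φ W ∈ φ.range))
  rwa [show (φ d)⁻¹ * (φ d * g * φ W) * (φ W)⁻¹ = g by group] at this

include htt htpt hotp houp hupu htu in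
theorem range_top : φ.range = ⊤ := by
  classical
  haveI := Fact.mk Nat.prime_two
  refine eq_top_iff.2 fun g _ => ?_
  set y := g * φ up * g⁻¹ with hy
  have tt : t * t = 1 := by rw [← htt, ← map_mul, htpt, map_one]
  have yy : y * y = 1 := by
    calc y * y = g * (φ up * φ up) * g⁻¹ := by rw [hy]; group
      _ = 1 := by rw [← map_mul, hupu, map_one]; group
  have hyc : IsConj (φ up) y := isConj_iff.2 ⟨g, rfl⟩
  obtain ⟨F, -, hF2, hF1, hFt, hFy, -⟩ := exists_between_inv (⊤ : Subgroup G) (mem_top t) (mem_top y) tt yy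
    (fun h _ he => not_conj_G hF hV P hφ hval htp hup houp (hyc.trans (isConj_iff.2 ⟨h, he⟩ : IsConj t y).symm))
  obtain ⟨F', rfl⟩ := H_le hF hV P hφ hval (show F ∈ H by rw [hF.hH, mem_centralizer_singleton_iff]; exact hFt)
  have hFo : orderOf F' = 2 :=
    orderOf_eq_prime (hφ (by rw [pow_two, map_mul, hF2, map_one])) fun h => hF1 (by rw [h, map_one])
  have hle : centralizer ({φ F'} : Set G) ≤ φ.range := by
    rcases two_classes hF hV P hφ hval htp hup hFo with h | h
    · exact cent_le_of_conj hF hV P hφ hval htp hup htt h.symm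
    · obtain ⟨d, hd⟩ := isConj_iff.1 h
      intro x hx
      have h' : φ d * x * (φ d)⁻¹ ∈ φ.range := by
        refine cent_up_le hF hV P hφ hval htp hup htt hupu htpt houp hotp htu ?_
        rw [mem_centralizer_singleton_iff, ← hd, map_mul, map_mul, map_inv]
        calc φ d * x * (φ d)⁻¹ * (φ d * φ F' * (φ d)⁻¹) = φ d * (x * φ F') * (φ d)⁻¹ := by group
          _ = φ d * (φ F' * x) * (φ d)⁻¹ := by rw [mem_centralizer_singleton_iff.1 hx]
          _ = _ := by group
      have := mul_mem (mul_mem (inv_mem (⟨d, rfl⟩ : φ d ∈ φ.range)) h') (⟨d, rfl⟩ : φ d ∈ φ.range)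
      rwa [show (φ d)⁻¹ * (φ d * x * (φ d)⁻¹) * φ d = x by group] at this
  obtain ⟨y', hy'⟩ := hle (mem_centralizer_singleton_iff.2 hFy.symm : y ∈ centralizer ({φ F'} : Set G))
  have hy'o : orderOf y' = 2 := by
    rw [← orderOf_injective φ hφ, hy', hy, ← MulAut.conj_apply, MulEquiv.orderOf_eq, orderOf_injective φ hφ, houp]
  rcases two_classes hF hV P hφ hval htp hup hy'o with h | h
  · exact absurd (hyc.trans (hy' ▸ htt ▸ φ.map_isConj h)) (not_conj_G hF hV P hφ hval htp hup houp)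
  · obtain ⟨d, hd⟩ := isConj_iff.1 h
    have e1 : φ d * y * (φ d)⁻¹ = φ up := by rw [← hy', ← map_inv, ← map_mul, ← map_mul, hd]
    have hmem : φ d * g ∈ φ.range := by
      refine cent_up_le hF hV P hφ hval htp hup htt hupu htpt houp hotp htu ?_
      rw [mem_centralizer_singleton_iff]
      rw [hy] at e1
      calc φ d * g * φ up = φ d * (g * φ up * g⁻¹) * (φ d)⁻¹ * (φ d * g) := by group
        _ = φ up * (φ d * g) := by rw [e1]
    have := mul_mem (inv_mem (⟨d, rfl⟩ : φ d ∈ φ.range)) hmem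
    rwa [inv_mul_cancel_left] at this

end CfsgLib.HSRec
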